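import Mathlib.AlgebraicGeometry.Limits
import Mathlib.AlgebraicGeometry.Morphisms.ClosedImmersion

/-!
# Two closed immersions with disjoint images
-/

set_option autoImplicit false
universe u

open CategoryTheory CategoryTheory.Limits AlgebraicGeometry

namespace EGA2SymLib

theorem isClosedImmersion_coprodDesc {X Y Z : Scheme.{u}} (f : X ⟶ Z) (g : Y ⟶ Z)
    [IsClosedImmersion f] [IsClosedImmersion g] (h : ∀ x y, f x ≠ g y) :
    IsClosedImmersion (coprod.desc f g) := by
  let d := coprod.desc f g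
  have hinl : ∀ x, d ((coprod.inl : X ⟶ X ⨿ Y) x) = f x := fun x => by
    rw [← Scheme.Hom.comp_apply, coprod.inl_desc]
  have hinr : ∀ y, d ((coprod.inr : Y ⟶ X ⨿ Y) y) = g y := fun y => by
    rw [← Scheme.Hom.comp_apply, coprod.inr_desc]
  have cases' : ∀ w : ↥(X ⨿ Y), (∃ x, (coprod.inl : X ⟶ X ⨿ Y) x = w) ∨
      ∃ y, (coprod.inr : Y ⟶ X ⨿ Y) y = w :=
    fun w => (Set.ext_iff.mp (isCompl_range_inl_inr X Y).sup_eq_top w).mpr trivial
  haveI : SurjectiveOnStalks d := by
    refine ⟨fun w => ?_⟩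
    rcases cases' w with ⟨x, rfl⟩ | ⟨y, rfl⟩
    · have h1 : Function.Surjective ((coprod.inl ≫ d).stalkMap x) := by
        rw [Scheme.Hom.stalkMap_congr_hom _ f (coprod.inl_desc f g)]
        intro a
        obtain ⟨b, hb⟩ := f.stalkMap_surjective x a
        obtain ⟨c, hc⟩ := (ConcreteCategory.bijective_of_isIso (Z.presheaf.stalkCongr _).hom).2 b
        exact ⟨c, by rw [CommRingCat.comp_apply, hc, hb]⟩
      rw [Scheme.Hom.stalkMap_comp] at h1
      intro a
      obtain ⟨b, hb⟩ := h1 (((coprod.inl : X ⟶ X ⨿ Y).stalkMap x) a)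
      exact ⟨b, (ConcreteCategory.bijective_of_isIso _).1 ((CommRingCat.comp_apply _ _ _).symm.trans hb)⟩
    · have h1 : Function.Surjective ((coprod.inr ≫ d).stalkMap y) := by
        rw [Scheme.Hom.stalkMap_congr_hom _ g (coprod.inr_desc f g)]
        intro a
        obtain ⟨b, hb⟩ := g.stalkMap_surjective y a
        obtain ⟨c, hc⟩ := (ConcreteCategory.bijective_of_isIso (Z.presheaf.stalkCongr _).hom).2 b
        exact ⟨c, by rw [CommRingCat.comp_apply, hc, hb]⟩
      rw [Scheme.Hom.stalkMap_comp] at h1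
      intro a
      obtain ⟨b, hb⟩ := h1 (((coprod.inr : Y ⟶ X ⨿ Y).stalkMap y) a)
      exact ⟨b, (ConcreteCategory.bijective_of_isIso _).1 ((CommRingCat.comp_apply _ _ _).symm.trans hb)⟩
  have hinj : Function.Injective d := by
    intro a b hab
    rcases cases' a with ⟨x, rfl⟩ | ⟨y, rfl⟩ <;> rcases cases' b with ⟨x', rfl⟩ | ⟨y', rfl⟩ <;>
      simp only [hinl, hinr] at hab
    · rw [f.isClosedEmbedding.injective hab]
    · exact absurd hab (h _ _)
    · exact absurd hab.symm (h _ _)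
    · rw [g.isClosedEmbedding.injective hab]
  refine ⟨Topology.IsClosedEmbedding.of_continuous_injective_isClosedMap d.continuous hinj ?_⟩
  intro C hC
  have : d '' C = f '' ((coprod.inl : X ⟶ X ⨿ Y) ⁻¹' C) ∪ g '' ((coprod.inr : Y ⟶ X ⨿ Y) ⁻¹' C) := by
    ext z
    constructor
    · rintro ⟨w, hw, rfl⟩
      rcases cases' w with ⟨x, rfl⟩ | ⟨y, rfl⟩
      · exact Or.inl ⟨x, hw, (hinl x).symm⟩
      · exact Or.inr ⟨y, hw, (hinr y).symm⟩
    · rintro (⟨x, hx, rfl⟩ | ⟨y, hy, rfl⟩)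
      · exact ⟨_, hx, hinl x⟩
      · exact ⟨_, hy, hinr y⟩
  rw [this]
  exact (f.isClosedEmbedding.isClosedMap _ (hC.preimage (Scheme.Hom.continuous _))).union
    (g.isClosedEmbedding.isClosedMap _ (hC.preimage (Scheme.Hom.continuous _)))

end EGA2SymLib
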