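import Mathlib

/-!
# An immersion of finite type into an affine scheme uses finitely many functions
-/

set_option autoImplicit false
universe u

open CategoryTheory CategoryTheory.Limits AlgebraicGeometry TopologicalSpace Opposite

noncomputable section

namespace EGA2SymLib

/-- an element of a generated subring only needs finitely many generators -/
theorem exists_finset_mem_closure {R : Type*} [Ring R] {s : Set R} {a : R} (h : a ∈ Subring.closure s) :
    ∃ t : Finset R, ↑t ⊆ s ∧ a ∈ Subring.closure (t : Set R) := by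
  classical
  induction h using Subring.closure_induction with
  | mem x hx => exact ⟨{x}, by simpa using hx, Subring.subset_closure (by simp)⟩
  | zero => exact ⟨∅, by simp, zero_mem _⟩
  | one => exact ⟨∅, by simp, one_mem _⟩
  | neg x _ ih => obtain ⟨t, ht, hx⟩ := ih; exact ⟨t, ht, neg_mem hx⟩
  | add x y _ _ ih ih' =>
    obtain ⟨t, ht, hx⟩ := ih
    obtain ⟨t', ht', hy⟩ := ih'
    exact ⟨t ∪ t', by simpa using ⟨ht, ht'⟩, add_mem (Subring.closure_mono (by simp) hx)
      (Subring.closure_mono (by simp) hy)⟩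
  | mul x y _ _ ih ih' =>
    obtain ⟨t, ht, hx⟩ := ih
    obtain ⟨t', ht', hy⟩ := ih'
    exact ⟨t ∪ t', by simpa using ⟨ht, ht'⟩, mul_mem (Subring.closure_mono (by simp) hx)
      (Subring.closure_mono (by simp) hy)⟩

/-- the morphism given by a subring of functions -/
abbrev toSpecSubring (W : Scheme.{u}) (B : Subring Γ(W, ⊤)) : W ⟶ Spec (CommRingCat.of B) :=
  W.toSpecΓ ≫ Spec.map (CommRingCat.ofHom B.subtype)

theorem toSpecSubring_appTop (W : Scheme.{u}) (B : Subring Γ(W, ⊤)) (β : B) :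
    (toSpecSubring W B).appTop ((Scheme.ΓSpecIso (CommRingCat.of B)).inv β) = β.1 := by
  rw [Scheme.Hom.comp_appTop, CommRingCat.comp_apply]
  rw [← CommRingCat.comp_apply (Scheme.ΓSpecIso (CommRingCat.of B)).inv, ← Scheme.ΓSpecIso_inv_naturality,
    Scheme.toSpecΓ_appTop]
  exact CategoryTheory.Iso.inv_hom_id_apply _ _

variable {W : Scheme.{u}}

/-- such a morphism is an immersion when the subring generates the functions on basic affine opens -/
theorem isImmersion_toSpecSubring (B : Subring Γ(W, ⊤))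
    (h : ∀ z : W, ∃ b ∈ B, z ∈ W.basicOpen b ∧ IsAffineOpen (W.basicOpen b) ∧
      Subring.closure ((W.presheaf.map (homOfLE (W.basicOpen_le b)).op).hom '' B ∪
        {c | c * W.presheaf.map (homOfLE (W.basicOpen_le b)).op b = 1}) = ⊤) :
    IsImmersion (toSpecSubring W B) := by
  let f := toSpecSubring W B
  have key : ∀ (b : Γ(W, ⊤)) (hb : b ∈ B) (D : (Spec (CommRingCat.of B)).Opens),
      D = (Spec (CommRingCat.of B)).basicOpen ((Scheme.ΓSpecIso (CommRingCat.of B)).inv ⟨b, hb⟩) →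
      f ⁻¹ᵁ D = W.basicOpen b := by
    rintro b hb _ rfl
    rw [Scheme.preimage_basicOpen_top]
    exact congrArg W.basicOpen (toSpecSubring_appTop W B ⟨b, hb⟩)
  refine MorphismProperty.cancel_right_of_respectsIso (P := @IsImmersion) f (𝟙 _) |>.mp ?_
  rw [Category.comp_id]
  suffices ∀ z : W, ∃ D : (Spec (CommRingCat.of B)).Opens, f z ∈ D ∧ IsImmersion ((f ⁻¹ᵁ D).ι ≫ f) by
    choose D hzD hD using this
    let V : (Spec (CommRingCat.of B)).Opens := ⨆ z, D z
    have hr : Set.range f.base ⊆ Set.range V.ι.base := by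
      rw [Scheme.Opens.range_ι]
      rintro _ ⟨z, rfl⟩
      exact Opens.mem_iSup.mpr ⟨z, hzD z⟩
    let fV := IsOpenImmersion.lift V.ι f hr
    suffices IsImmersion fV by
      rw [← IsOpenImmersion.lift_fac V.ι f hr]; infer_instance
    refine (IsZariskiLocalAtTarget.iff_of_iSup_eq_top (P := @IsImmersion) (fun z => V.ι ⁻¹ᵁ D z) ?_).mpr fun z => ?_
    · rw [← Scheme.Hom.preimage_iSup]
      exact eq_top_iff.mpr fun y _ => y.2
    have e : fV ⁻¹ᵁ (V.ι ⁻¹ᵁ D z) = f ⁻¹ᵁ D z := by
      rw [← Scheme.Hom.comp_preimage, IsOpenImmersion.lift_fac]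
    haveI := hD z
    haveI : IsImmersion ((fV ∣_ (V.ι ⁻¹ᵁ D z)) ≫ (V.ι ⁻¹ᵁ D z).ι ≫ V.ι) := by
      rw [← Category.assoc, morphismRestrict_ι, Category.assoc, IsOpenImmersion.lift_fac,
        ← Scheme.isoOfEq_hom_ι (X := W) e, Category.assoc]
      infer_instance
    exact IsImmersion.of_comp _ ((V.ι ⁻¹ᵁ D z).ι ≫ V.ι)
  intro z
  obtain ⟨b, hb, hz, haff, hgen⟩ := h z
  let D := (Spec (CommRingCat.of B)).basicOpen ((Scheme.ΓSpecIso (CommRingCat.of B)).inv ⟨b, hb⟩)
  have hD := key b hb D rfl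
  refine ⟨D, hD.ge hz, ?_⟩
  haveI : IsAffine (D : Scheme.{u}) := (isAffineOpen_top _).basicOpen _
  haveI : IsAffine (f ⁻¹ᵁ D : W.Opens).toScheme := hD ▸ haff
  have hsurj : ∀ (O : W.Opens) (hO : O = W.basicOpen b) (hle : O ≤ f ⁻¹ᵁ D),
      (f.appLE D O hle).hom.range = ⊤ := by
    rintro _ rfl hle
    rw [← top_le_iff, ← hgen, Subring.closure_le]
    have hres : ∀ β : B, f.appLE D (W.basicOpen b) hle ((Spec (CommRingCat.of B)).presheaf.map
        (homOfLE (le_top : D ≤ ⊤)).op ((Scheme.ΓSpecIso (CommRingCat.of B)).inv β)) =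
          W.presheaf.map (homOfLE (W.basicOpen_le b)).op β.1 := by
      intro β
      rw [← toSpecSubring_appTop W B β, ← CommRingCat.comp_apply, Scheme.Hom.map_appLE]
      rfl
    rintro c (⟨β, hβ, rfl⟩ | hc)
    · exact ⟨_, hres ⟨β, hβ⟩⟩
    · have hu : IsUnit ((Spec (CommRingCat.of B)).presheaf.map
          (homOfLE (le_top : D ≤ ⊤)).op ((Scheme.ΓSpecIso (CommRingCat.of B)).inv ⟨b, hb⟩)) :=
        RingedSpace.isUnit_res_basicOpen _ _
      refine ⟨↑hu.unit⁻¹, ?_⟩
      change c * _ = 1 at hc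
      have h1 : f.appLE D (W.basicOpen b) hle ↑hu.unit⁻¹ *
          W.presheaf.map (homOfLE (W.basicOpen_le b)).op b = 1 := by
        rw [← hres ⟨b, hb⟩, ← map_mul, IsUnit.val_inv_mul, map_one]
      exact left_inv_eq_right_inv h1 ((mul_comm _ c).trans hc)
  rw [← Scheme.Hom.resLE_comp_ι f (le_refl (f ⁻¹ᵁ D))]
  haveI : IsClosedImmersion (f.resLE D (f ⁻¹ᵁ D) le_rfl) := by
    refine IsClosedImmersion.of_surjective_of_isAffine _ fun t => ?_
    obtain ⟨d, hd⟩ := (hsurj _ hD le_rfl).ge (Subring.mem_top ((f ⁻¹ᵁ D).topIso.hom t))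
    refine ⟨D.topIso.inv d, ?_⟩
    simp only [Scheme.Hom.appTop, Scheme.Hom.resLE_app_top, CommRingCat.comp_apply,
      ← CommRingCat.comp_apply _ D.topIso.hom, Iso.inv_hom_id, CommRingCat.id_apply]
    exact (congrArg (f ⁻¹ᵁ D).topIso.inv hd).trans (CategoryTheory.Iso.hom_inv_id_apply _ _)
  infer_instance

/-- an immersion of finite type over an affine scheme into an affine scheme uses finitely many functions -/
theorem exists_finite_gens {A U : Scheme.{u}} [IsAffine A] [IsAffine U] (h : W ⟶ A) [IsImmersion h] (π : W ⟶ U)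
    [LocallyOfFiniteType π] [CompactSpace W] :
    ∃ S : Finset Γ(W, ⊤), (S : Set Γ(W, ⊤)) ⊆ Set.range h.appTop ∧
      ∀ B : Subring Γ(W, ⊤), (S : Set Γ(W, ⊤)) ⊆ B → Set.range π.appTop ⊆ B →
        IsImmersion (toSpecSubring W B) := by
  classical
  have hloc : ∀ z : W, ∃ (a : Γ(A, ⊤)) (G : Finset Γ(A, ⊤)), z ∈ W.basicOpen (h.appTop a) ∧
      IsAffineOpen (W.basicOpen (h.appTop a)) ∧
      Subring.closure (Set.range (fun r => W.presheaf.map (homOfLE (W.basicOpen_le (h.appTop a))).op (π.appTop r)) ∪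
        (fun g => W.presheaf.map (homOfLE (W.basicOpen_le (h.appTop a))).op (h.appTop g)) '' G ∪
        {c | c * W.presheaf.map (homOfLE (W.basicOpen_le (h.appTop a))).op (h.appTop a) = 1}) = ⊤ := by
    intro z
    obtain ⟨a, hale, hza⟩ := (isAffineOpen_top A).exists_basicOpen_le (V := h.coborderRange)
      ⟨h z, subset_coborder ⟨z, rfl⟩⟩ trivial
    let D := A.basicOpen a
    have hpre : h ⁻¹ᵁ D = W.basicOpen (h.appTop a) := Scheme.preimage_basicOpen_top h a
    haveI : IsAffine (D : Scheme.{u}) := (isAffineOpen_top A).basicOpen a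
    haveI : IsClosedImmersion (h ∣_ D) := by
      refine IsClosedImmersion.of_isPreimmersion _ ?_
      have hc := isClosed_preimage_val_coborder (s := Set.range h.base)
      have hr : Set.range (h ∣_ D).base = Subtype.val ⁻¹' Set.range h.base := by
        ext y
        constructor
        · rintro ⟨w, rfl⟩
          exact ⟨w.1, (morphismRestrict_base_coe h D w).symm⟩
        · rintro ⟨w, hw⟩
          exact ⟨⟨w, show h w ∈ D from (congrArg (· ∈ D) hw).mpr y.2⟩,
            Subtype.ext ((morphismRestrict_base_coe h D _).trans hw)⟩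
      rw [hr]
      exact hc.preimage (continuous_inclusion (show (D : Set A) ⊆ coborder (Set.range h.base) from hale))
    haveI : IsAffine (h ⁻¹ᵁ D : W.Opens).toScheme := isAffine_of_isAffineHom (h ∣_ D)
    have haff : IsAffineOpen (W.basicOpen (h.appTop a)) := hpre ▸ (inferInstanceAs (IsAffine (h ⁻¹ᵁ D).toScheme))
    have hsur : Function.Surjective (h.app D) := by
      have h2 : Function.Surjective (h ∣_ D).appTop :=
        (IsClosedImmersion.isAffine_surjective_of_isAffine (h ∣_ D)).2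
      intro c
      obtain ⟨d, hd⟩ := h2 ((h ⁻¹ᵁ D).topIso.inv c)
      refine ⟨D.topIso.hom d, (ConcreteCategory.bijective_of_isIso (h ⁻¹ᵁ D).topIso.inv).1 ?_⟩
      refine Eq.trans ?_ hd
      rw [Scheme.Hom.appTop, ← Scheme.Hom.resLE_eq_morphismRestrict, Scheme.Hom.resLE_app_top,
        CommRingCat.comp_apply, CommRingCat.comp_apply, Scheme.Hom.appLE_eq_app]
    have hft := π.finiteType_appLE (isAffineOpen_top U) haff (show W.basicOpen (h.appTop a) ≤ π ⁻¹ᵁ ⊤ from le_top)
    letI := (π.appLE ⊤ (W.basicOpen (h.appTop a)) le_top).hom.toAlgebra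
    obtain ⟨G₀, hG₀⟩ := (show Algebra.FiniteType Γ(U, ⊤) Γ(W, W.basicOpen (h.appTop a)) from hft).out
    haveI := (isAffineOpen_top A).isLocalization_basicOpen a
    have hnum : ∀ c : Γ(W, W.basicOpen (h.appTop a)), ∃ g : Γ(A, ⊤), ∃ k : ℕ,
        c * W.presheaf.map (homOfLE (W.basicOpen_le (h.appTop a))).op (h.appTop a) ^ k =
          W.presheaf.map (homOfLE (W.basicOpen_le (h.appTop a))).op (h.appTop g) := by
      intro c
      have key : ∀ (O : W.Opens) (hO : O = h ⁻¹ᵁ D) (c : Γ(W, O)) (hle : O ≤ ⊤), ∃ g : Γ(A, ⊤), ∃ k : ℕ,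
          c * W.presheaf.map (homOfLE hle).op (h.appTop a) ^ k = W.presheaf.map (homOfLE hle).op (h.appTop g) := by
        rintro _ rfl c hle
        obtain ⟨d, rfl⟩ := hsur c
        obtain ⟨⟨g, ⟨_, k, rfl⟩⟩, hd⟩ := IsLocalization.surj (Submonoid.powers a) d
        refine ⟨g, k, ?_⟩
        have hnat : ∀ r : Γ(A, ⊤), W.presheaf.map (homOfLE hle).op (h.appTop r) =
            h.app D (A.presheaf.map (homOfLE (A.basicOpen_le a)).op r) := fun r =>
          (congr($(h.naturality (homOfLE (A.basicOpen_le a)).op) r)).symm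
        rw [hnat, hnat, ← map_pow, ← map_mul]
        refine congrArg (h.app D) ?_
        rw [← map_pow]
        exact hd
      exact key _ hpre.symm c _
    choose g k hg using hnum
    refine ⟨a, G₀.image g, hpre.le hza, haff, eq_top_iff.mpr ?_⟩
    intro c _
    have hc : c ∈ Algebra.adjoin Γ(U, ⊤) (G₀ : Set Γ(W, W.basicOpen (h.appTop a))) := by
      rw [hG₀]; trivial
    rw [← Subalgebra.mem_toSubring, Algebra.adjoin_eq_ring_closure] at hc
    refine (Subring.closure_le.mpr ?_) hc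
    rintro d (⟨r, rfl⟩ | hd)
    · refine Subring.subset_closure (Or.inl (Or.inl ⟨r, ?_⟩))
      show _ = π.appLE ⊤ _ _ r
      rw [Scheme.Hom.appLE, CommRingCat.comp_apply]
      rfl
    · let ρ : Γ(W, ⊤) ⟶ Γ(W, W.basicOpen (h.appTop a)) := W.presheaf.map (homOfLE (W.basicOpen_le (h.appTop a))).op
      have hu : IsUnit (ρ (h.appTop a)) := RingedSpace.isUnit_res_basicOpen _ _
      have e : d = ρ (h.appTop (g d)) * (↑hu.unit⁻¹ : Γ(W, W.basicOpen (h.appTop a))) ^ k d := by
        rw [← hg d, mul_assoc, ← mul_pow, IsUnit.mul_val_inv, one_pow, mul_one]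
      rw [e]
      refine mul_mem (Subring.subset_closure (Or.inl (Or.inr ⟨g d, Finset.mem_image_of_mem g hd, rfl⟩)))
        (pow_mem ?_ _)
      exact Subring.subset_closure (Or.inr hu.val_inv_mul)
  choose a G hz haff hgen using hloc
  obtain ⟨T, hT⟩ := isCompact_univ.elim_finite_subcover (fun z => (W.basicOpen (h.appTop (a z)) : Set W))
    (fun z => (W.basicOpen (h.appTop (a z))).2) fun z _ => Set.mem_iUnion.mpr ⟨z, hz z⟩
  refine ⟨T.image (fun z => h.appTop (a z)) ∪ T.biUnion (fun z => (G z).image h.appTop), ?_,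
    fun B hS hπ => isImmersion_toSpecSubring B fun z => ?_⟩
  · intro c hc
    simp only [Finset.coe_union, Finset.coe_image, Finset.coe_biUnion, Set.mem_union, Set.mem_image,
      Set.mem_iUnion] at hc
    rcases hc with ⟨z, -, rfl⟩ | ⟨z, -, g, -, rfl⟩ <;> exact ⟨_, rfl⟩
  obtain ⟨w, hw, hzw⟩ := Set.mem_iUnion₂.mp (hT (Set.mem_univ z))
  refine ⟨h.appTop (a w), hS (Finset.mem_union_left _ (Finset.mem_image_of_mem _ hw)), hzw, haff w,
    eq_top_iff.mpr ((hgen w).ge.trans (Subring.closure_mono ?_))⟩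
  rintro c ((⟨r, rfl⟩ | ⟨g, hg, rfl⟩) | hc)
  · exact Or.inl ⟨_, hπ ⟨r, rfl⟩, rfl⟩
  · exact Or.inl ⟨_, hS (Finset.mem_union_right _ (Finset.mem_biUnion.mpr ⟨w, hw, Finset.mem_image_of_mem _ hg⟩)),
      rfl⟩
  · exact Or.inr hc

end EGA2SymLib

end
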