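import Mathlib

/-!
# Morphisms into a basic open of a projective spectrum generated in degree one
-/

set_option autoImplicit false
universe u

open CategoryTheory CategoryTheory.Limits AlgebraicGeometry TopologicalSpace Opposite
open HomogeneousLocalization

noncomputable section

namespace EGA2SymLib

variable {A σ : Type u} [CommRing A] [SetLike σ A] [AddSubgroupClass σ A] {𝒜 : ℕ → σ} [GradedRing 𝒜]
  {a : A} (ha : a ∈ 𝒜 1)

/-- the fraction `x / a ^ n` -/
abbrev frac (n : ℕ) (x : A) (hx : x ∈ 𝒜 n) : Away 𝒜 a :=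
  Away.mk 𝒜 ha n x (by simpa using hx)

theorem frac_zero (n : ℕ) : frac ha n 0 (zero_mem _) = 0 :=
  HomogeneousLocalization.val_injective _ (by simp [Away.val_mk, Localization.mk_zero])

theorem frac_add {n : ℕ} {x y : A} (hx : x ∈ 𝒜 n) (hy : y ∈ 𝒜 n) :
    frac ha n (x + y) (add_mem hx hy) = frac ha n x hx + frac ha n y hy :=
  HomogeneousLocalization.val_injective _ (by simp [Away.val_mk, Localization.add_mk_self])

theorem frac_mul {n k : ℕ} {x y : A} (hx : x ∈ 𝒜 n) (hy : y ∈ 𝒜 k) :
    frac ha (n + k) (x * y) (SetLike.GradedMul.mul_mem hx hy) = frac ha n x hx * frac ha k y hy :=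
  HomogeneousLocalization.val_injective _ (by
    simp only [HomogeneousLocalization.val_mul, Away.val_mk, Localization.mk_mul]
    exact congrArg₂ Localization.mk rfl (Subtype.ext (pow_add a n k)))

variable (hgen : Subring.closure ((𝒜 0 : Set A) ∪ (𝒜 1 : Set A)) = ⊤)

include hgen in
theorem away_ringHom_ext {R : Type u} [CommRing R] (f f' : Away 𝒜 a →+* R)
    (h0 : ∀ (x : A) (hx : x ∈ 𝒜 0), f (frac ha 0 x hx) = f' (frac ha 0 x hx))
    (h1 : ∀ (x : A) (hx : x ∈ 𝒜 1), f (frac ha 1 x hx) = f' (frac ha 1 x hx)) : f = f' := by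
  classical
  let Q : A → Prop := fun y => ∀ n, f (frac ha n (DirectSum.decompose 𝒜 y n : A) (SetLike.coe_mem _)) =
    f' (frac ha n (DirectSum.decompose 𝒜 y n : A) (SetLike.coe_mem _))
  have frac_congr : ∀ {n : ℕ} {x y : A} (e : x = y) (hx : x ∈ 𝒜 n) (hy : y ∈ 𝒜 n),
      frac ha n x hx = frac ha n y hy := by rintro n x y rfl hx hy; rfl
  have key : ∀ y, Q y := by
    intro y
    induction (show y ∈ Subring.closure ((𝒜 0 : Set A) ∪ (𝒜 1 : Set A)) from hgen ▸ trivial)
      using Subring.closure_induction with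
    | mem y hy =>
      intro n
      rcases hy with hy | hy
      · by_cases hn : 0 = n
        · subst hn; rw [frac_congr (DirectSum.decompose_of_mem_same 𝒜 hy) _ hy]; exact h0 _ hy
        · rw [frac_congr (DirectSum.decompose_of_mem_ne 𝒜 hy hn) _ (zero_mem _), frac_zero, map_zero, map_zero]
      · by_cases hn : 1 = n
        · subst hn; rw [frac_congr (DirectSum.decompose_of_mem_same 𝒜 hy) _ hy]; exact h1 _ hy
        · rw [frac_congr (DirectSum.decompose_of_mem_ne 𝒜 hy hn) _ (zero_mem _), frac_zero, map_zero, map_zero]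
    | zero =>
      intro n
      rw [frac_congr (show (DirectSum.decompose 𝒜 (0 : A) n : A) = 0 by simp) _ (zero_mem _), frac_zero, map_zero,
        map_zero]
    | one =>
      intro n
      by_cases hn : 0 = n
      · subst hn
        have e : frac ha 0 (1 : A) SetLike.GradedOne.one_mem = 1 :=
          HomogeneousLocalization.val_injective _ (by
            simp [Away.val_mk, HomogeneousLocalization.val_one])
        rw [frac_congr (DirectSum.decompose_of_mem_same 𝒜 SetLike.GradedOne.one_mem) _ SetLike.GradedOne.one_mem,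
          e, map_one, map_one]
      · rw [frac_congr (DirectSum.decompose_of_mem_ne 𝒜 SetLike.GradedOne.one_mem hn) _ (zero_mem _), frac_zero,
          map_zero, map_zero]
    | add y z _ _ iy iz =>
      intro n
      rw [frac_congr (show (DirectSum.decompose 𝒜 (y + z) n : A) =
          (DirectSum.decompose 𝒜 y n : A) + (DirectSum.decompose 𝒜 z n : A) by simp) _
        (add_mem (SetLike.coe_mem _) (SetLike.coe_mem _)),
        frac_add ha (SetLike.coe_mem _) (SetLike.coe_mem _), map_add, map_add, iy n, iz n]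
    | neg y _ iy =>
      intro n
      have e : frac ha n (DirectSum.decompose 𝒜 (-y) n : A) (SetLike.coe_mem _) =
          - frac ha n (DirectSum.decompose 𝒜 y n : A) (SetLike.coe_mem _) :=
        HomogeneousLocalization.val_injective _ (by
          simp only [Away.val_mk, HomogeneousLocalization.val_neg, Localization.neg_mk]
          exact congrArg₂ Localization.mk (by rw [DirectSum.decompose_neg, DFinsupp.neg_apply, NegMemClass.coe_neg]) rfl)
      rw [e, map_neg, map_neg, iy n]
    | mul y z _ _ iy iz =>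
      intro n
      have e : (DirectSum.decompose 𝒜 (y * z) n : A) =
          ∑ i ∈ Finset.range (n + 1), (DirectSum.decompose 𝒜 y i : A) * (DirectSum.decompose 𝒜 z (n - i) : A) := by
        rw [DirectSum.decompose_mul, DirectSum.coe_mul_apply_eq_sum_antidiagonal]
        exact Finset.Nat.sum_antidiagonal_eq_sum_range_succ
          (fun i k => (DirectSum.decompose 𝒜 y i : A) * (DirectSum.decompose 𝒜 z k : A)) n
      have hmem : ∀ i ∈ Finset.range (n + 1),
          (DirectSum.decompose 𝒜 y i : A) * (DirectSum.decompose 𝒜 z (n - i) : A) ∈ 𝒜 n := fun i hi => by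
        have hm := SetLike.GradedMul.mul_mem (SetLike.coe_mem (DirectSum.decompose 𝒜 y i))
          (SetLike.coe_mem (DirectSum.decompose 𝒜 z (n - i)))
        rwa [Nat.add_sub_cancel' (Nat.lt_succ_iff.mp (Finset.mem_range.mp hi))] at hm
      have hsum : ∀ s : Finset ℕ, (∀ i ∈ s, i < n + 1) → ∀ hs,
          f (frac ha n (∑ i ∈ s, (DirectSum.decompose 𝒜 y i : A) * (DirectSum.decompose 𝒜 z (n - i) : A)) hs) =
          f' (frac ha n (∑ i ∈ s, (DirectSum.decompose 𝒜 y i : A) * (DirectSum.decompose 𝒜 z (n - i) : A)) hs) := by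
        intro s
        induction s using Finset.induction_on with
        | empty => intro _ hs; rw [frac_congr Finset.sum_empty _ (zero_mem _), frac_zero, map_zero, map_zero]
        | insert i s hi ih =>
          intro hlt hs
          have h' : ∀ i ∈ s, i < n + 1 := fun i hi' => hlt i (Finset.mem_insert_of_mem hi')
          have hi' := hmem i (Finset.mem_range.mpr (hlt i (Finset.mem_insert_self i s)))
          have hs' := sum_mem fun j hj => hmem j (Finset.mem_range.mpr (h' j hj))
          rw [frac_congr (Finset.sum_insert hi) _ (add_mem hi' hs'), frac_add ha hi' hs', map_add, map_add,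
            ih h' hs']
          congr 1
          have hin : i + (n - i) = n := Nat.add_sub_cancel' (Nat.lt_succ_iff.mp (hlt i (Finset.mem_insert_self i s)))
          have e2 : frac ha n ((DirectSum.decompose 𝒜 y i : A) * (DirectSum.decompose 𝒜 z (n - i) : A)) hi' =
              frac ha (i + (n - i)) ((DirectSum.decompose 𝒜 y i : A) * (DirectSum.decompose 𝒜 z (n - i) : A))
                (SetLike.GradedMul.mul_mem (SetLike.coe_mem _) (SetLike.coe_mem _)) :=
            HomogeneousLocalization.val_injective _ (by simp only [Away.val_mk, hin])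
          rw [e2, frac_mul, map_mul, map_mul, iy i, iz (n - i)]
      rw [frac_congr e _ (sum_mem hmem)]
      exact hsum _ (fun i hi => Finset.mem_range.mp hi) _
  refine RingHom.ext fun q => ?_
  obtain ⟨n, x, hx, rfl⟩ := Away.mk_surjective 𝒜 ha q
  have hx' : x ∈ 𝒜 n := by simpa using hx
  have := key x n
  rwa [frac_congr (DirectSum.decompose_of_mem_same 𝒜 hx') _ hx'] at this

/-- two morphisms into a basic open agree when the induced maps on fractions agree -/
theorem proj_hom_ext {T : Scheme.{u}} (r r' : T ⟶ Proj 𝒜) (hr : (⊤ : T.Opens) ≤ r ⁻¹ᵁ Proj.basicOpen 𝒜 a)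
    (hr' : (⊤ : T.Opens) ≤ r' ⁻¹ᵁ Proj.basicOpen 𝒜 a)
    (h : ∀ q : Away 𝒜 a, r.appLE _ ⊤ hr (Proj.awayToSection 𝒜 a q) = r'.appLE _ ⊤ hr' (Proj.awayToSection 𝒜 a q))
    (ha : a ∈ 𝒜 1) : r = r' := by
  have key : ∀ (s : T ⟶ Proj 𝒜) (hs : (⊤ : T.Opens) ≤ s ⁻¹ᵁ Proj.basicOpen 𝒜 a),
      (Scheme.topIso T).inv ≫ s.resLE (Proj.basicOpen 𝒜 a) ⊤ hs ≫ (Proj.basicOpen 𝒜 a).ι = s := fun s hs => by
    rw [Scheme.Hom.resLE_comp_ι]
    exact (Scheme.topIso T).inv_hom_id_assoc s
  rw [← key r hr, ← key r' hr']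
  congr 1
  rw [cancel_mono]
  haveI : IsAffine (Proj.basicOpen 𝒜 a : Scheme.{u}) :=
    IsAffine.of_isIso (Proj.basicOpenIsoSpec 𝒜 a ha one_pos).hom
  have hs : Function.Surjective (Proj.awayToSection 𝒜 a) := by
    intro z
    haveI : IsIso (Proj.basicOpenToSpec 𝒜 a) :=
      Proj.basicOpenIsoSpec_hom 𝒜 a ha one_pos ▸ Iso.isIso_hom _
    haveI : IsIso ((Proj.basicOpenToSpec 𝒜 a).app ⊤) := inferInstance
    obtain ⟨w, hw⟩ := (ConcreteCategory.bijective_of_isIso ((Proj.basicOpenToSpec 𝒜 a).app ⊤)).2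
      ((Proj.basicOpen 𝒜 a).topIso.inv z)
    rw [Proj.basicOpenToSpec_app_top] at hw
    exact ⟨_, (ConcreteCategory.bijective_of_isIso (Proj.basicOpen 𝒜 a).topIso.inv).1 hw⟩
  refine ext_of_isAffine (CommRingCat.hom_ext (RingHom.ext fun z => ?_))
  obtain ⟨z', rfl⟩ := (ConcreteCategory.bijective_of_isIso (Proj.basicOpen 𝒜 a).topIso.inv).2 z
  obtain ⟨q, rfl⟩ := hs z'
  rw [Scheme.Hom.appTop, Scheme.Hom.appTop, Scheme.Hom.resLE_app_top, Scheme.Hom.resLE_app_top]
  simp only [CommRingCat.comp_apply, ← CommRingCat.comp_apply _ (Proj.basicOpen 𝒜 a).topIso.hom,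
    Iso.inv_hom_id, CommRingCat.id_apply]
  rw [h q]

end EGA2SymLib

end
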