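import Groth.Agent.SymGenLib.Basic
import Groth.Agent.QCohLib.Gen

/-!
# The degree-one part of a graded symmetric algebra
-/

set_option autoImplicit false
universe u

open CategoryTheory CategoryTheory.Limits AlgebraicGeometry Opposite TopologicalSpace
open scoped HomogeneousIdeal

noncomputable section

namespace EGA2SymLib

variable {S : Scheme.{u}} {E : S.Modules} [hE : Coh.IsQCoh E] {𝒮 : RelProj.QCGrAlg S}
  {j : E ⟶ 𝒮.toModule} (hj : RelProj.IsGrSymAlg E 𝒮 j) (U : S.Opens) (hU : IsAffineOpen U)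

omit hE in
/-- the module map, with values in the ring of sections -/
abbrev jS (j : E ⟶ 𝒮.toModule) (U : S.Opens) (e : Γ(E, U)) : 𝒮.presheaf.obj (op U) := j.app U e

omit hE in
theorem str_mul_j (r : Γ(S, U)) (e : Γ(E, U)) :
    (𝒮.str.app (op U)).hom r * jS j U e = jS j U (r • e) :=
  (QCohLib.app_smul j U r e).symm

include hE hj hU in
/-- every section is a scalar plus an element of the ideal generated by the image of the module -/
theorem exists_sub_mem_span (x : 𝒮.presheaf.obj (op U)) : ∃ r : Γ(S, U),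
    x - (𝒮.str.app (op U)).hom r ∈
      Ideal.span (Set.range (jS j U)) := by
  let J := Ideal.span (Set.range (jS j U))
  have hx : x ∈ SymGenLib.gen 𝒮.toQCAlg j U :=
    (SymGenLib.gen_eq_top 𝒮.toQCAlg j hj.1 U hU).ge (Subring.mem_top x)
  change ∃ r : Γ(S, U), x - (𝒮.str.app (op U)).hom r ∈ J
  induction hx using Subring.closure_induction with
  | mem y hy =>
    rcases hy with ⟨r, rfl⟩ | ⟨e, rfl⟩
    · exact ⟨r, by simp⟩
    · exact ⟨0, by rw [map_zero, sub_zero]; exact Ideal.subset_span (Set.mem_range_self e)⟩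
  | zero => exact ⟨0, by simp⟩
  | one => exact ⟨1, by simp⟩
  | add a b _ _ ha hb =>
    obtain ⟨r, hr⟩ := ha
    obtain ⟨s, hs⟩ := hb
    exact ⟨r + s, by rw [map_add, add_sub_add_comm]; exact J.add_mem hr hs⟩
  | neg a _ ha =>
    obtain ⟨r, hr⟩ := ha
    exact ⟨-r, by rw [map_neg, neg_sub_neg, ← neg_sub]; exact J.neg_mem hr⟩
  | mul a b _ _ ha hb =>
    obtain ⟨r, hr⟩ := ha
    obtain ⟨s, hs⟩ := hb
    refine ⟨r * s, ?_⟩
    rw [map_mul, show a * b - (𝒮.str.app (op U)).hom r * (𝒮.str.app (op U)).hom s =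
      a * (b - (𝒮.str.app (op U)).hom s) + (𝒮.str.app (op U)).hom s * (a - (𝒮.str.app (op U)).hom r) by ring]
    exact J.add_mem (J.mul_mem_left _ hs) (J.mul_mem_left _ hr)

include hE hj hU in
/-- the degree-one part is the image of the module -/
theorem exists_of_mem_one {x : 𝒮.presheaf.obj (op U)} (hx : x ∈ 𝒮.deg U hU 1) :
    ∃ e : Γ(E, U), jS j U e = x := by
  classical
  let jr := Set.range (jS j U)
  have key : ∀ y ∈ Ideal.span jr, (DirectSum.decompose (𝒮.deg U hU) y 1 : 𝒮.presheaf.obj (op U)) ∈ jr := by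
    intro y hy
    induction hy using Submodule.span_induction with
    | mem z hz =>
      obtain ⟨e, rfl⟩ := hz
      exact ⟨e, (DirectSum.decompose_of_mem_same (𝒮.deg U hU) (show jS j U e ∈ 𝒮.deg U hU 1 from hj.2 U hU e)).symm⟩
    | zero => exact ⟨0, (map_zero (j.app U).hom).trans (by rw [DirectSum.decompose_zero]; rfl)⟩
    | add a b _ _ ha hb =>
      obtain ⟨e, he⟩ := ha
      obtain ⟨e', he'⟩ := hb
      refine ⟨e + e', ?_⟩
      rw [DirectSum.decompose_add, DirectSum.add_apply, AddMemClass.coe_add, ← he, ← he']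
      exact map_add (j.app U).hom e e'
    | smul c a hmem ha =>
      obtain ⟨e, he⟩ := ha
      obtain ⟨r, hr⟩ := exists_sub_mem_span hj U hU c
      have h0 : ∀ z ∈ Ideal.span jr, (DirectSum.decompose (𝒮.deg U hU) z 0 : 𝒮.presheaf.obj (op U)) = 0 := by
        intro z hz
        have : z ∈ (𝒮.deg U hU)₊ := (Ideal.span_le.mpr (by
          rintro _ ⟨e, rfl⟩
          exact HomogeneousIdeal.mem_irrelevant_of_mem (𝒮.deg U hU) one_pos (show jS j U e ∈ 𝒮.deg U hU 1 from hj.2 U hU e)) :
            Ideal.span jr ≤ (𝒮.deg U hU)₊.toIdeal) hz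
        exact (HomogeneousIdeal.mem_irrelevant_iff (𝒮.deg U hU) z).mp this
      have h1 : (DirectSum.decompose (𝒮.deg U hU) ((c - (𝒮.str.app (op U)).hom r) * a) 1 :
          𝒮.presheaf.obj (op U)) = 0 := by
        have := h0 _ hmem
        rw [DirectSum.decompose_mul, DirectSum.coe_mul_apply]
        refine Finset.sum_eq_zero fun ij hij => ?_
        have hsum : ij.1 + ij.2 = 1 := (Finset.mem_filter.mp hij).2
        rcases Nat.eq_zero_or_pos ij.1 with h | h
        · rw [h, h0 _ hr, zero_mul]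
        · rw [show ij.2 = 0 by omega, this, mul_zero]
      refine ⟨r • e, ?_⟩
      show jS j U (r • e) = _
      rw [smul_eq_mul, show c * a = (c - (𝒮.str.app (op U)).hom r) * a + (𝒮.str.app (op U)).hom r * a by ring,
        DirectSum.decompose_add, DirectSum.add_apply, AddMemClass.coe_add, h1, zero_add,
        DirectSum.coe_decompose_mul_of_left_mem_of_le (𝒮.deg U hU) (𝒮.str_mem U hU r) (Nat.zero_le 1), ← str_mul_j]
      exact congrArg _ he
  obtain ⟨r, hr⟩ := exists_sub_mem_span hj U hU x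
  obtain ⟨e, he⟩ := key _ hr
  refine ⟨e, he.trans ?_⟩
  simp [DirectSum.decompose_sub, DirectSum.decompose_of_mem_same (𝒮.deg U hU) hx,
    DirectSum.decompose_of_mem_ne (𝒮.deg U hU) (𝒮.str_mem U hU r) Nat.zero_ne_one]

include hE hj hU in
/-- the irrelevant ideal is generated by the image of the module -/
theorem irrelevant_le_span : (𝒮.deg U hU)₊.toIdeal ≤
    Ideal.span (Set.range (jS j U)) := by
  classical
  intro x hx
  let jr := Set.range (jS j U)
  obtain ⟨r, hr⟩ := exists_sub_mem_span hj U hU x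
  have hle : Ideal.span jr ≤ (𝒮.deg U hU)₊.toIdeal := Ideal.span_le.mpr (by
    rintro _ ⟨e, rfl⟩
    exact HomogeneousIdeal.mem_irrelevant_of_mem _ one_pos (show jS j U e ∈ 𝒮.deg U hU 1 from hj.2 U hU e))
  have h2 := (HomogeneousIdeal.mem_irrelevant_iff (𝒮.deg U hU) _).mp
    ((𝒮.deg U hU)₊.toIdeal.sub_mem hx (hle hr))
  rw [sub_sub_cancel, GradedRing.proj_apply,
    DirectSum.decompose_of_mem_same _ (𝒮.str_mem U hU r)] at h2
  simpa [h2] using hr

end EGA2SymLib

end
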