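import Mathlib

/-!
# Gradings of a ring given by a homogeneity homomorphism to polynomials
-/

set_option autoImplicit false
universe u v
open Polynomial
open scoped DirectSum

noncomputable section

namespace EGA2SymLib

variable {B : Type u} [CommRing B] (δ : B →+* B[X])

/-- elements on which `δ` is the monomial of degree `n` -/
def degOf (n : ℕ) : AddSubgroup B where
  carrier := {x | δ x = monomial n x}
  zero_mem' := by simp
  add_mem' {a b} ha hb := by simp_all
  neg_mem' {a} ha := by simp_all

theorem mem_degOf {n : ℕ} {x : B} : x ∈ degOf δ n ↔ δ x = monomial n x := Iff.rfl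

/-- `δ` is compatible with evaluation at one and idempotent on coefficients -/
structure IsHomog : Prop where
  eval_one : ∀ x, (δ x).eval 1 = x
  coeff_mem : ∀ x n, (δ x).coeff n ∈ degOf δ n

variable {δ}

theorem IsHomog.sum_coeff (h : IsHomog δ) (x : B) : ((δ x).support.sum fun n => (δ x).coeff n) = x := by
  conv_rhs => rw [← h.eval_one x, eval_eq_sum, Polynomial.sum]
  simp

theorem IsHomog.isInternal (h : IsHomog δ) : DirectSum.IsInternal (degOf δ) := by
  classical
  have hinj : Function.Injective (DirectSum.coeAddMonoidHom (degOf δ)) := by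
    refine (injective_iff_map_eq_zero _).mpr fun f hf => DFinsupp.ext fun n => Subtype.ext ?_
    have e : ∀ g : ⨁ i, degOf δ i, (δ (DirectSum.coeAddMonoidHom (degOf δ) g)).coeff n = (g n : B) := by
      intro g
      induction g using DirectSum.induction_on with
      | zero => simp
      | of i x =>
        rw [DirectSum.coeAddMonoidHom_of, (mem_degOf δ).mp x.2, coeff_monomial]
        by_cases hi : i = n
        · subst hi
          simp
        · rw [if_neg hi, DirectSum.of_eq_of_ne _ _ _ (Ne.symm hi)]
          rfl
      | add g g' hg hg' =>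
        rw [map_add, map_add, coeff_add, hg, hg', DirectSum.add_apply, AddMemClass.coe_add]
    rw [← e f, hf]
    simp
  refine ⟨hinj, fun x => ⟨(δ x).support.sum fun n => DirectSum.of _ n ⟨(δ x).coeff n, h.coeff_mem x n⟩, ?_⟩⟩
  rw [map_sum]
  simp only [DirectSum.coeAddMonoidHom_of]
  exact h.sum_coeff x

theorem gradedMonoid (δ : B →+* B[X]) : SetLike.GradedMonoid (degOf δ) where
  one_mem := by simp [mem_degOf]
  mul_mem {i j a b} ha hb := by
    rw [mem_degOf] at *
    rw [map_mul, ha, hb, monomial_mul_monomial]

/-- the graded ring given by `δ` -/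
def IsHomog.gradedRing (h : IsHomog δ) : GradedRing (degOf δ) :=
  { gradedMonoid δ, h.isInternal.chooseDecomposition with }

/-- a homomorphism commuting with `δ` preserves degrees -/
theorem map_degOf {C : Type v} [CommRing C] {ε : C →+* C[X]} (f : B →+* C)
    (hf : ε.comp f = (Polynomial.mapRingHom f).comp δ) {n : ℕ} {x : B} (hx : x ∈ degOf δ n) :
    f x ∈ degOf ε n := by
  rw [mem_degOf] at *
  refine (congrArg (fun g : B →+* C[X] => g x) hf).trans ?_
  rw [RingHom.comp_apply, hx, coe_mapRingHom, map_monomial]

end EGA2SymLib

end
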