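import Mathlib
import Groth.Agent.EGA2SymLib.Grading
import Groth.Agent.SymAlgLib.Exists
import Groth.Prelude.Def_RelProj2

/-!
# The graded symmetric algebra of a quasi-coherent module exists
-/

set_option autoImplicit false
universe u

open AlgebraicGeometry CategoryTheory CategoryTheory.Limits Opposite TopologicalSpace
open AlgebraicGeometry.Scheme AlgebraicGeometry.Scheme.AffineZariskiSite
open Polynomial

noncomputable section

namespace EGA2SymLib

section Ring

variable (R : Type u) [CommRing R] (M : Type u) [AddCommGroup M] [Module R M]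

/-- the homogeneity homomorphism of a symmetric algebra -/
def symδ : SymmetricAlgebra R M →ₐ[R] (SymmetricAlgebra R M)[X] :=
  SymmetricAlgebra.lift (((monomial 1 : SymmetricAlgebra R M →ₗ[SymmetricAlgebra R M] _).restrictScalars R).comp
    (SymmetricAlgebra.ι R M))

theorem symδ_ι (m : M) : symδ R M (SymmetricAlgebra.ι R M m) = monomial 1 (SymmetricAlgebra.ι R M m) := by
  rw [symδ, SymmetricAlgebra.lift_ι_apply]
  rfl

theorem symδ_algebraMap (r : R) : symδ R M (algebraMap R _ r) = monomial 0 (algebraMap R _ r) := by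
  rw [AlgHom.commutes, monomial_zero_left]
  rfl

theorem isHomog_symδ : IsHomog (symδ R M).toRingHom := by
  refine ⟨fun x => ?_, fun x n => ?_⟩
  · induction x using SymmetricAlgebra.induction with
    | algebraMap r => exact (congrArg (eval 1) (symδ_algebraMap R M r)).trans (by simp)
    | ι m => exact (congrArg (eval 1) (symδ_ι R M m)).trans (by simp)
    | mul a b ha hb => rw [map_mul, eval_mul, ha, hb]
    | add a b ha hb => rw [map_add, eval_add, ha, hb]
  · have base : ∀ (k : ℕ) (a : SymmetricAlgebra R M), symδ R M a = monomial k a → ∀ n,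
        ((symδ R M).toRingHom a).coeff n ∈ degOf (symδ R M).toRingHom n := by
      intro k a ha n
      show (symδ R M a).coeff n ∈ _
      rw [ha, coeff_monomial]
      split_ifs with h
      · subst h; exact ha
      · exact zero_mem _
    induction x using SymmetricAlgebra.induction generalizing n with
    | algebraMap r => exact base 0 _ (symδ_algebraMap R M r) n
    | ι m => exact base 1 _ (symδ_ι R M m) n
    | mul a b ha hb =>
      rw [map_mul, coeff_mul]
      refine sum_mem fun ij hij => ?_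
      rw [← Finset.HasAntidiagonal.mem_antidiagonal.mp hij]
      exact (gradedMonoid _).mul_mem (ha _) (hb _)
    | add a b ha hb => rw [map_add, coeff_add]; exact add_mem (ha n) (hb n)

end Ring

/-- homogeneity homomorphisms move along isomorphisms -/
theorem IsHomog.congr {B C : Type u} [CommRing B] [CommRing C] {δ : B →+* B[X]} (h : IsHomog δ) {ε : C →+* C[X]}
    (f : B →+* C) (g : C →+* B) (hfg : ∀ c, f (g c) = c) (hε : ε.comp f = (mapRingHom f).comp δ) : IsHomog ε := by
  have key : ∀ b, ε (f b) = (δ b).map f := fun b => congrArg (fun k : B →+* C[X] => k b) hε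
  refine ⟨fun x => ?_, fun x n => ?_⟩
  · rw [← hfg x, key, ← map_one f, Polynomial.eval_map_apply, h.eval_one]
  · rw [← hfg x, key, coeff_map]
    exact map_degOf f hε (h.coeff_mem _ n)

variable {S : Scheme.{u}} (E : S.Modules) [hE : Coh.IsQCoh E]

/-- the homogeneity homomorphism of the symmetric algebra over an affine open -/
def symAlgδ (U : S.AffineZariskiSite) :
    Γ(SymAlgLib.total E, SymAlgLib.proj E ⁻¹ᵁ U.1) →+* (Γ(SymAlgLib.total E, SymAlgLib.proj E ⁻¹ᵁ U.1))[X] :=
  (mapRingHom (SymAlgLib.gi E U)).comp ((symδ Γ(S, U.1) Γ(E, U.1)).toRingHom.comp (SymAlgLib.gamma E U).hom)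

theorem gamma_gi (U : S.AffineZariskiSite) (x : SymmetricAlgebra Γ(S, U.1) Γ(E, U.1)) :
    SymAlgLib.gamma E U (SymAlgLib.gi E U x) = x :=
  congr($(IsIso.inv_hom_id (SymAlgLib.gamma E U)) x)

theorem gi_gamma (U : S.AffineZariskiSite) (x : Γ(SymAlgLib.total E, SymAlgLib.proj E ⁻¹ᵁ U.1)) :
    SymAlgLib.gi E U (SymAlgLib.gamma E U x) = x :=
  congr($(IsIso.hom_inv_id (SymAlgLib.gamma E U)) x)

theorem symAlgδ_gi (U : S.AffineZariskiSite) :
    (symAlgδ E U).comp (SymAlgLib.gi E U) =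
      (mapRingHom (SymAlgLib.gi E U)).comp (symδ Γ(S, U.1) Γ(E, U.1)).toRingHom :=
  RingHom.ext fun x => congrArg (fun y => mapRingHom (SymAlgLib.gi E U) (symδ _ _ y)) (gamma_gi E U x)

theorem isHomog_symAlgδ (U : S.AffineZariskiSite) : IsHomog (symAlgδ E U) :=
  (isHomog_symδ _ _).congr (SymAlgLib.gi E U) (SymAlgLib.gamma E U).hom (gi_gamma E U) (symAlgδ_gi E U)

theorem res_δ {U V : S.Opens} (hU : IsAffineOpen U) (hV : IsAffineOpen V) (h : V ≤ U) :
    (symAlgδ E ⟨V, hV⟩).comp ((SymAlgLib.total E).presheaf.map (homOfLE ((SymAlgLib.proj E).preimage_mono h)).op).hom =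
      (mapRingHom ((SymAlgLib.total E).presheaf.map (homOfLE ((SymAlgLib.proj E).preimage_mono h)).op).hom).comp
        (symAlgδ E ⟨U, hU⟩) := by
  let R := ((SymAlgLib.total E).presheaf.map (homOfLE ((SymAlgLib.proj E).preimage_mono h)).op).hom
  have key : ((symAlgδ E ⟨V, hV⟩).comp R).comp (SymAlgLib.gi E ⟨U, hU⟩) =
      ((mapRingHom R).comp (symAlgδ E ⟨U, hU⟩)).comp (SymAlgLib.gi E ⟨U, hU⟩) := by
    rw [RingHom.comp_assoc, RingHom.comp_assoc, symAlgδ_gi]
    refine SymAlgLib.ringHom_ext (fun a => ?_) fun m => ?_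
    · have hR : R (SymAlgLib.gi E ⟨U, hU⟩ (algebraMap _ _ a)) =
          SymAlgLib.gi E ⟨V, hV⟩ (algebraMap _ _ (S.presheaf.map (homOfLE h).op a)) := by
        rw [SymAlgLib.gi_algebraMap, SymAlgLib.gi_algebraMap]
        exact (congr($((SymAlgLib.proj E).naturality (homOfLE h).op) a)).symm
      show symAlgδ E ⟨V, hV⟩ (R (SymAlgLib.gi E ⟨U, hU⟩ (algebraMap _ _ a))) =
        ((symδ _ _ (algebraMap _ _ a)).map (SymAlgLib.gi E ⟨U, hU⟩)).map R
      rw [symδ_algebraMap, map_monomial, map_monomial, hR]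
      refine (congrArg (fun k : _ →+* _ => k (algebraMap _ _ _)) (symAlgδ_gi E ⟨V, hV⟩)).trans ?_
      show (symδ _ _ (algebraMap _ _ _)).map _ = _
      rw [symδ_algebraMap, map_monomial]
    · have hR : R (SymAlgLib.gi E ⟨U, hU⟩ (SymmetricAlgebra.ι _ _ m)) =
          SymAlgLib.gi E ⟨V, hV⟩ (SymmetricAlgebra.ι _ _ (E.presheaf.map (homOfLE h).op m)) := by
        rw [← SymAlgLib.symι_app E ⟨U, hU⟩, ← SymAlgLib.symι_app E ⟨V, hV⟩]
        exact (congr($((SymAlgLib.symι E).mapPresheaf.naturality (homOfLE h).op) m)).symm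
      show symAlgδ E ⟨V, hV⟩ (R (SymAlgLib.gi E ⟨U, hU⟩ (SymmetricAlgebra.ι _ _ m))) =
        ((symδ _ _ (SymmetricAlgebra.ι _ _ m)).map (SymAlgLib.gi E ⟨U, hU⟩)).map R
      rw [symδ_ι, map_monomial, map_monomial, hR]
      refine (congrArg (fun k : _ →+* _ => k (SymmetricAlgebra.ι _ _ _)) (symAlgδ_gi E ⟨V, hV⟩)).trans ?_
      show (symδ _ _ (SymmetricAlgebra.ι _ _ _)).map _ = _
      rw [symδ_ι, map_monomial]
  refine RingHom.ext fun x => ?_
  rw [← gi_gamma E ⟨U, hU⟩ x]
  exact congrArg (fun k : _ →+* _ => k (SymAlgLib.gamma E ⟨U, hU⟩ x)) key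

/-- the symmetric algebra with its grading -/
def grSymAlg : RelProj.QCGrAlg S where
  toQCAlg := SymAlgLib.symAlg E
  deg U hU := degOf (symAlgδ E ⟨U, hU⟩)
  graded U hU := (isHomog_symAlgδ E ⟨U, hU⟩).gradedRing
  map_mem {U V} hU hV i {d x} hx := by
    exact map_degOf _ (res_δ E hU hV i) hx
  str_mem U hU r := by
    refine (mem_degOf _).mpr ?_
    show symAlgδ E ⟨U, hU⟩ ((SymAlgLib.proj E).app U r) = monomial 0 _
    rw [← SymAlgLib.gi_algebraMap E ⟨U, hU⟩]
    refine (congrArg (fun k : _ →+* _ => k (algebraMap _ _ r)) (symAlgδ_gi E ⟨U, hU⟩)).trans ?_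
    show (symδ _ _ (algebraMap _ _ r)).map _ = _
    rw [symδ_algebraMap, map_monomial]
    exact congrArg (monomial 0) (SymAlgLib.gi_algebraMap E ⟨U, hU⟩ r)

/-- the generators land in the graded algebra -/
def grSymι : E ⟶ (grSymAlg E).toModule := SymAlgLib.symι E

theorem isGrSymAlg : RelProj.IsGrSymAlg E (grSymAlg E) (grSymι E) := by
  refine ⟨SymAlgLib.isSymAlg E, fun U hU x =>
    (mem_degOf (B := Γ(SymAlgLib.total E, SymAlgLib.proj E ⁻¹ᵁ U)) (symAlgδ E ⟨U, hU⟩)).mpr ?_⟩
  let V : S.AffineZariskiSite := ⟨U, hU⟩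
  have h := SymAlgLib.symι_app E V x
  refine (congrArg (symAlgδ E V) h).trans (Eq.trans ?_ (congrArg (monomial 1) h).symm)
  refine (congrArg (fun k : _ →+* _ => k (SymmetricAlgebra.ι _ _ x)) (symAlgδ_gi E ⟨U, hU⟩)).trans ?_
  show (symδ _ _ (SymmetricAlgebra.ι _ _ x)).map _ = _
  rw [symδ_ι, map_monomial]

theorem exists_isGrSymAlg : ∃ (𝒮 : RelProj.QCGrAlg S) (j : E ⟶ 𝒮.toModule), RelProj.IsGrSymAlg E 𝒮 j :=
  ⟨grSymAlg E, grSymι E, isGrSymAlg E⟩

end EGA2SymLib

end
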