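import Mathlib
import Groth.Agent.EGA2SymLib.SymGrExists
import Groth.Agent.SymGenLib.Basic
import Groth.Prelude.Def_RelProj4

/-!
# Morphisms out of a symmetric algebra over a morphism of bases
-/

set_option autoImplicit false
universe u

open AlgebraicGeometry CategoryTheory CategoryTheory.Limits Opposite TopologicalSpace
open AlgebraicGeometry.Scheme AlgebraicGeometry.Scheme.AffineZariskiSite

noncomputable section

namespace EGA2SymLib

variable {S X : Scheme.{u}} {E : S.Modules} [hE : Coh.IsQCoh E] (q : X ⟶ S) (B : RelSpec.QCAlg X)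
  (φ : E ⟶ (Scheme.Modules.pushforward q).obj B.toModule)

/-- the structure map of a direct image -/
abbrev pStr (U : S.Opens) : Γ(S, U) ⟶ B.presheaf.obj (op (q ⁻¹ᵁ U)) := q.app U ≫ B.str.app (op (q ⁻¹ᵁ U))

/-- the values of the map on the generators -/
abbrev pVal (U : S.Opens) (m : Γ(E, U)) : B.presheaf.obj (op (q ⁻¹ᵁ U)) := φ.app U m

theorem pVal_smul (U : S.Opens) (r : Γ(S, U)) (m : Γ(E, U)) :
    pVal q B φ U (r • m) = (pStr q B U).hom r * pVal q B φ U m :=
  ((φ.app_smul r m).trans (RelSpec.QCAlg.str_smul_def B (op (q ⁻¹ᵁ U)) (q.app U r) (φ.app U m)))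

/-- the map on the symmetric algebra over an open -/
def qObj (U : S.Opens) : SymAlgLib.symObj E U ⟶ B.presheaf.obj (op (q ⁻¹ᵁ U)) :=
  letI : Algebra Γ(S, U) (B.presheaf.obj (op (q ⁻¹ᵁ U))) := (pStr q B U).hom.toAlgebra
  CommRingCat.ofHom (SymmetricAlgebra.lift
    ({ toFun := pVal q B φ U
       map_add' := fun a b => map_add (φ.app U).hom a b
       map_smul' := fun r m => pVal_smul q B φ U r m } :
      Γ(E, U) →ₗ[Γ(S, U)] B.presheaf.obj (op (q ⁻¹ᵁ U)))).toRingHom

theorem qObj_algebraMap (U : S.Opens) (a : Γ(S, U)) : qObj q B φ U (algebraMap _ _ a) = pStr q B U a := by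
  letI : Algebra Γ(S, U) (B.presheaf.obj (op (q ⁻¹ᵁ U))) := (pStr q B U).hom.toAlgebra
  exact AlgHom.commutes (SymmetricAlgebra.lift _) a

theorem qObj_ι (U : S.Opens) (m : Γ(E, U)) : qObj q B φ U (SymmetricAlgebra.ι _ _ m) = pVal q B φ U m := by
  letI : Algebra Γ(S, U) (B.presheaf.obj (op (q ⁻¹ᵁ U))) := (pStr q B U).hom.toAlgebra
  show SymmetricAlgebra.lift _ (SymmetricAlgebra.ι _ _ m) = _
  rw [SymmetricAlgebra.lift_ι_apply]
  rfl

theorem qObj_res {U V : S.Opens} (h : V ≤ U) :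
    (CommRingCat.ofHom (SymAlgLib.symRes E h) : SymAlgLib.symObj E U ⟶ SymAlgLib.symObj E V) ≫ qObj q B φ V =
      qObj q B φ U ≫ B.presheaf.map (homOfLE (q.preimage_mono h)).op := by
  refine CommRingCat.hom_ext (SymAlgLib.ringHom_ext (fun a => ?_) fun m => ?_)
  · show qObj q B φ V (SymAlgLib.symRes E h (algebraMap _ _ a)) =
      B.presheaf.map _ (qObj q B φ U (algebraMap _ _ a))
    rw [SymAlgLib.symRes_algebraMap, qObj_algebraMap, qObj_algebraMap]
    show (S.presheaf.map (homOfLE h).op ≫ q.app V ≫ B.str.app (op (q ⁻¹ᵁ V))) a =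
      (q.app U ≫ B.str.app (op (q ⁻¹ᵁ U)) ≫ B.presheaf.map (homOfLE (q.preimage_mono h)).op) a
    rw [← B.str.naturality, Scheme.Hom.naturality_assoc]
    rfl
  · show qObj q B φ V (SymAlgLib.symRes E h (SymmetricAlgebra.ι _ _ m)) =
      B.presheaf.map _ (qObj q B φ U (SymmetricAlgebra.ι _ _ m))
    rw [SymAlgLib.symRes_ι, qObj_ι, qObj_ι]
    exact congr($(φ.mapPresheaf.naturality (homOfLE h).op) m)

/-- the map on affine opens -/
def qAff : (toOpensFunctor S).op ⋙ (SymAlgLib.symAlg E).presheaf ⟶ (toOpensFunctor S).op ⋙ (q.base _* B.presheaf) where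
  app U := SymAlgLib.gamma E U.unop ≫ qObj q B φ U.unop.1
  naturality U V i := by
    refine (Category.assoc _ _ _).symm.trans
      ((congrArg (· ≫ qObj q B φ V.unop.1) (SymAlgLib.gamma_res E i.unop)).trans ?_)
    exact (Category.assoc _ _ _).trans ((congrArg (SymAlgLib.gamma E U.unop ≫ ·)
      (qObj_res q B φ (toOpens_mono i.unop.le))).trans (Category.assoc _ _ _).symm)

/-- maps into a direct image agree when they agree on affine opens -/
theorem pushPre_ext {F : TopCat.Presheaf CommRingCat.{u} S.carrier} {a b : F ⟶ q.base _* B.presheaf}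
    (h : ∀ U : S.AffineZariskiSite, a.app (op U.1) = b.app (op U.1)) : a = b := by
  apply (Functor.IsCoverDense.restrictHomEquivHom (G := toOpensFunctor S)
    (K := Opens.grothendieckTopology S) (ℱ := F)
    (ℱ' := (TopCat.Sheaf.pushforward CommRingCat.{u} q.base).obj
      (⟨B.presheaf, B.isSheaf⟩ : TopCat.Sheaf CommRingCat.{u} X.carrier))).symm.injective
  ext U : 2
  exact h U.unop

theorem exists_qhom_symAlg : ∃ u : RelSpec.QHom q (SymAlgLib.symAlg E) B,
    ∀ (U : S.Opens) (hU : IsAffineOpen U) (m : Γ(E, U)),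
      (u.app U).hom (show Γ(SymAlgLib.total E, SymAlgLib.proj E ⁻¹ᵁ U) from (SymAlgLib.symι E).app U m) =
        pVal q B φ U m := by
  let T : TopCat.Sheaf CommRingCat.{u} S.carrier := (TopCat.Sheaf.pushforward CommRingCat.{u} q.base).obj
    (⟨B.presheaf, B.isSheaf⟩ : TopCat.Sheaf CommRingCat.{u} X.carrier)
  let Φ := Functor.IsCoverDense.restrictHomEquivHom (G := toOpensFunctor S) (K := Opens.grothendieckTopology S)
    (ℱ := (SymAlgLib.symAlg E).presheaf) (ℱ' := T)
  let ψ₀ : (SymAlgLib.symAlg E).presheaf ⟶ q.base _* B.presheaf := Φ (qAff q B φ)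
  have hψ₀ : ∀ U : S.AffineZariskiSite, ψ₀.app (op U.1) = SymAlgLib.gamma E U ≫ qObj q B φ U.1 := fun U =>
    NatTrans.congr_app (Φ.symm_apply_apply (qAff q B φ)) (op U)
  let sB : S.presheaf ⟶ q.base _* B.presheaf :=
    q.c ≫ (TopCat.Presheaf.pushforward CommRingCat.{u} q.base).map B.str
  have hcomm : (SymAlgLib.symAlg E).str ≫ ψ₀ = sB := pushPre_ext q B fun U => by
    show (SymAlgLib.proj E).app U.1 ≫ ψ₀.app (op U.1) = pStr q B U.1
    rw [hψ₀, ← Category.assoc, SymAlgLib.proj_gamma]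
    exact CommRingCat.hom_ext (RingHom.ext fun a => qObj_algebraMap q B φ U.1 a)
  refine ⟨{ app := fun U => ψ₀.app (op U), naturality := fun i => (ψ₀.naturality _).symm,
            str_app := fun U => NatTrans.congr_app hcomm (op U) }, fun U hU m => ?_⟩
  let V : S.AffineZariskiSite := ⟨U, hU⟩
  show (ψ₀.app (op V.1)).hom _ = _
  rw [hψ₀]
  show qObj q B φ U (SymAlgLib.gamma E V (show Γ(SymAlgLib.total E, SymAlgLib.proj E ⁻¹ᵁ V.1) from (SymAlgLib.symι E).app V.1 m)) = _
  rw [SymAlgLib.symι_app, gamma_gi]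
  exact qObj_ι q B φ U m

variable {A : RelSpec.QCAlg S} {j : E ⟶ A.toModule}

theorem exists_qhom (hj : RelSpec.IsSymAlg E A j) : ∃ u : RelSpec.QHom q A B,
    ∀ (U : S.Opens) (hU : IsAffineOpen U) (m : Γ(E, U)), (u.app U).hom (j.app U m) = pVal q B φ U m := by
  obtain ⟨u, hu⟩ := exists_qhom_symAlg q B φ
  obtain ⟨ψ, hψ, -⟩ := hj (SymAlgLib.symAlg E) (SymAlgLib.symι E)
  refine ⟨{ app := fun U => ψ.hom.app (op U) ≫ u.app U, naturality := fun i => ?_, str_app := fun U => ?_ },
    fun U hU m => ?_⟩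
  · rw [Category.assoc, u.naturality, ← Category.assoc, ← Category.assoc, ψ.hom.naturality]
  · rw [← Category.assoc, ← NatTrans.comp_app, ψ.comm, u.str_app]
  · refine Eq.trans ?_ (hu U hU m)
    exact congrArg (u.app U).hom congr(($hψ).app U m)

end EGA2SymLib

end
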