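import Mathlib
import Groth.Agent.EGA2SymLib.QLift
import Groth.Agent.EGA2SymLib.Gen

/-!
# Graded morphisms out of a graded symmetric algebra over a morphism of bases
-/

set_option autoImplicit false
universe u

open CategoryTheory CategoryTheory.Limits AlgebraicGeometry TopologicalSpace Opposite
open scoped HomogeneousIdeal

noncomputable section

namespace EGA2SymLib

/-- a ring homomorphism out of a ring generated in degrees zero and one preserves degrees -/
theorem map_mem_of_gen {A B σ τ : Type u} [CommRing A] [CommRing B] [SetLike σ A] [AddSubgroupClass σ A]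
    [SetLike τ B] [AddSubgroupClass τ B] {𝒜 : ℕ → σ} {ℬ : ℕ → τ} [GradedRing 𝒜] [GradedRing ℬ] (f : A →+* B)
    (hgen : Subring.closure ((𝒜 0 : Set A) ∪ (𝒜 1 : Set A)) = ⊤) (h0 : ∀ x ∈ 𝒜 0, f x ∈ ℬ 0)
    (h1 : ∀ x ∈ 𝒜 1, f x ∈ ℬ 1) {d : ℕ} {x : A} (hx : x ∈ 𝒜 d) : f x ∈ ℬ d := by
  classical
  have key : ∀ y : A, ∀ n, f (DirectSum.decompose 𝒜 y n : A) ∈ ℬ n := by
    intro y
    induction (show y ∈ Subring.closure ((𝒜 0 : Set A) ∪ (𝒜 1 : Set A)) from hgen ▸ trivial)
      using Subring.closure_induction with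
    | mem y hy =>
      intro n
      rcases hy with hy | hy
      · by_cases hn : 0 = n
        · subst hn; rw [DirectSum.decompose_of_mem_same _ hy]; exact h0 _ hy
        · rw [DirectSum.decompose_of_mem_ne _ hy hn, map_zero]; exact zero_mem _
      · by_cases hn : 1 = n
        · subst hn; rw [DirectSum.decompose_of_mem_same _ hy]; exact h1 _ hy
        · rw [DirectSum.decompose_of_mem_ne _ hy hn, map_zero]; exact zero_mem _
    | zero => intro n; simp [zero_mem]
    | one =>
      intro n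
      by_cases hn : 0 = n
      · subst hn
        rw [DirectSum.decompose_of_mem_same _ SetLike.GradedOne.one_mem, map_one]
        exact SetLike.GradedOne.one_mem
      · rw [DirectSum.decompose_of_mem_ne _ SetLike.GradedOne.one_mem hn, map_zero]; exact zero_mem _
    | add y z _ _ iy iz =>
      intro n; rw [DirectSum.decompose_add, DirectSum.add_apply, AddMemClass.coe_add, map_add]
      exact add_mem (iy n) (iz n)
    | neg y _ iy => intro n; rw [DirectSum.decompose_neg, DFinsupp.neg_apply, NegMemClass.coe_neg, map_neg]; exact neg_mem (iy n)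
    | mul y z _ _ iy iz =>
      intro n
      rw [DirectSum.decompose_mul, DirectSum.coe_mul_apply, map_sum]
      refine sum_mem fun ij hij => ?_
      rw [map_mul, ← (Finset.mem_filter.mp hij).2]
      exact SetLike.GradedMul.mul_mem (iy _) (iz _)
  rw [← DirectSum.decompose_of_mem_same _ hx]
  exact key x d

variable {S : Scheme.{u}} {E : S.Modules} [hE : Coh.IsQCoh E] {𝒮 : RelProj.QCGrAlg S}
  {j : E ⟶ 𝒮.toModule}

include hE in
/-- the degree zero part consists of the scalars -/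
theorem exists_of_mem_zero (hj : RelProj.IsGrSymAlg E 𝒮 j) {U : S.Opens} (hU : IsAffineOpen U)
    {x : 𝒮.presheaf.obj (op U)} (hx : x ∈ 𝒮.deg U hU 0) : ∃ r : Γ(S, U), (𝒮.str.app (op U)).hom r = x := by
  obtain ⟨r, hr⟩ := exists_sub_mem_span hj U hU x
  have hle : Ideal.span (Set.range (jS j U)) ≤ (𝒮.deg U hU)₊.toIdeal := by
    rw [Ideal.span_le]
    rintro _ ⟨e, rfl⟩
    exact HomogeneousIdeal.mem_irrelevant_of_mem _ one_pos (hj.2 U hU e)
  have h0 : (DirectSum.decompose (𝒮.deg U hU) (x - (𝒮.str.app (op U)).hom r) 0 : 𝒮.presheaf.obj (op U)) = 0 := hle hr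
  rw [DirectSum.decompose_of_mem_same _ (sub_mem hx (𝒮.str_mem U hU r))] at h0
  exact ⟨r, (sub_eq_zero.mp h0).symm⟩

variable {X : Scheme.{u}} (q : X ⟶ S) {𝒮' : RelProj.QCGrAlg X}

include hE in
/-- the graded morphism extending a map on generators -/
theorem exists_qgrhom (hj : RelProj.IsGrSymAlg E 𝒮 j)
    (φ : E ⟶ (Scheme.Modules.pushforward q).obj 𝒮'.toModule)
    (hφ : ∀ (U : S.Opens) (_ : IsAffineOpen U) (U' : X.Opens) (hU' : IsAffineOpen U') (hle : U' ≤ q ⁻¹ᵁ U)
      (m : Γ(E, U)), (𝒮'.presheaf.map (homOfLE hle).op).hom (pVal q 𝒮'.toQCAlg φ U m) ∈ 𝒮'.deg U' hU' 1) :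
    ∃ u : RelProj.QGrHom q 𝒮 𝒮', ∀ (U : S.Opens) (_ : IsAffineOpen U) (m : Γ(E, U)),
      (u.app U).hom (j.app U m) = pVal q 𝒮'.toQCAlg φ U m := by
  obtain ⟨u, hu⟩ := exists_qhom q 𝒮'.toQCAlg φ hj.1
  refine ⟨⟨u, fun U hU U' hU' hle {d x} hx => ?_⟩, hu⟩
  show (u.appLE U U' hle).hom x ∈ 𝒮'.deg U' hU' d
  refine map_mem_of_gen (u.appLE U U' hle).hom (SymGenLib.isGenDegOne hj U hU) (fun y hy => ?_) (fun y hy => ?_) hx
  · obtain ⟨r, rfl⟩ := exists_of_mem_zero hj hU hy
    have h := congr($(u.str_appLE U U' hle) r)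
    rw [CommRingCat.comp_apply, CommRingCat.comp_apply] at h
    rw [h]
    exact 𝒮'.str_mem U' hU' _
  · obtain ⟨e, rfl⟩ := exists_of_mem_one hj U hU hy
    show (𝒮'.presheaf.map (homOfLE hle).op).hom ((u.app U).hom (j.app U e)) ∈ _
    rw [hu U hU e]
    exact hφ U hU U' hU' hle e

end EGA2SymLib

end
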