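import Mathlib
import Groth.Agent.EGA2SymLib.QGrLift
import Groth.Agent.SymAlgLib.Pts
import Groth.Agent.KFlatLib.AffinePull

/-!
# Base change of symmetric algebras
-/

set_option autoImplicit false
universe u

open CategoryTheory CategoryTheory.Limits AlgebraicGeometry TopologicalSpace Opposite
open KFlatLib (pb puSec puSecLE)
open scoped HomogeneousIdeal

noncomputable section

namespace EGA2SymLib

variable {S X : Scheme.{u}} {E : S.Modules} [hE : Coh.IsQCoh E] (q : X ⟶ S) (B : RelSpec.QCAlg X)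
  (j' : pb q E ⟶ B.toModule)

/-- the generators of the pullback, as a map to the direct image -/
abbrev bcVal : E ⟶ (Scheme.Modules.pushforward q).obj B.toModule :=
  (Scheme.Modules.pullbackPushforwardAdjunction q).unit.app E ≫ (Scheme.Modules.pushforward q).map j'

theorem bcVal_res {U : S.Opens} {U' : X.Opens} (hle : U' ≤ q ⁻¹ᵁ U) (m : Γ(E, U)) :
    (B.presheaf.map (homOfLE hle).op).hom (pVal q B (bcVal q B j') U m) =
      (j'.app U' (puSecLE q E hle m) : B.presheaf.obj (op U')) :=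
  (QCohLib.app_map j' (homOfLE hle) (puSec q m)).symm

variable {A : RelSpec.QCAlg S} {j : E ⟶ A.toModule}

include hE in
/-- the symmetric algebra of the pullback is the base change of the symmetric algebra -/
theorem isQBaseChange (hA : RelSpec.IsSymAlg E A j) (hB : RelSpec.IsSymAlg (pb q E) B j')
    (u : RelSpec.QHom q A B)
    (hu : ∀ (U : S.Opens) (_ : IsAffineOpen U) (m : Γ(E, U)), (u.app U).hom (j.app U m) = pVal q B (bcVal q B j') U m) :
    RelSpec.IsQBaseChange u := by
  haveI := KFlatLib.isQCoh_pullback q E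
  intro U hU U' hU' hle
  have hw : q.appLE U U' hle ≫ B.str.app (op U') = A.str.app (op U) ≫ u.appLE U U' hle :=
    (u.str_appLE U U' hle).symm
  have huj : ∀ m : Γ(E, U), (u.appLE U U' hle).hom (j.app U m) = (j'.app U' (puSecLE q E hle m) : B.presheaf.obj (op U')) :=
    fun m => (congrArg (B.presheaf.map (homOfLE hle).op).hom (hu U hU m)).trans (bcVal_res q B j' hle m)
  letI algR : Algebra Γ(S, U) Γ(X, U') := (q.appLE U U' hle).hom.toAlgebra
  letI modN : Module Γ(S, U) Γ(pb q E, U') := Module.compHom _ (q.appLE U U' hle).hom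
  haveI : IsScalarTower Γ(S, U) Γ(X, U') Γ(pb q E, U') := IsScalarTower.of_algebraMap_smul fun _ _ => rfl
  let ψ : Γ(E, U) →ₗ[Γ(S, U)] Γ(pb q E, U') :=
    { toFun := fun m => puSecLE q E hle m
      map_add' := fun a b => map_add _ a b
      map_smul' := fun r m => KFlatLib.puSecLE_smul q E hle r m }
  have hψ : IsBaseChange Γ(X, U') ψ := KFlatLib.isBaseChange_puSec q E hU hU' hle (fun _ => rfl) ψ fun _ => rfl
  have main : ∀ (C : CommRingCat.{u}) (g : Γ(X, U') ⟶ C) (f : A.presheaf.obj (op U) ⟶ C),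
      q.appLE U U' hle ≫ g = A.str.app (op U) ≫ f →
      ∃! Φ : B.presheaf.obj (op U') ⟶ C, B.str.app (op U') ≫ Φ = g ∧ u.appLE U U' hle ≫ Φ = f := by
    intro C g f hgf
    letI algC : Algebra Γ(X, U') C := g.hom.toAlgebra
    letI algC' : Algebra Γ(S, U) C := (g.hom.comp (q.appLE U U' hle).hom).toAlgebra
    haveI : IsScalarTower Γ(S, U) Γ(X, U') C := IsScalarTower.of_algebraMap_eq fun _ => rfl
    let l₀ : Γ(E, U) →ₗ[Γ(S, U)] C :=
      { toFun := fun m => f.hom (j.app U m)
        map_add' := fun a b => (congrArg f.hom (map_add (j.app U).hom a b)).trans (map_add f.hom _ _)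
        map_smul' := fun r m => by
          refine (congrArg f.hom (QCohLib.app_smul j U r m)).trans ((map_mul f.hom _ _).trans ?_)
          exact congrArg (· * f.hom (j.app U m)) (congr($hgf r)).symm }
    let l := hψ.lift l₀
    obtain ⟨Φ, ⟨hΦ1, hΦ2⟩, hΦu⟩ := SymAlgLib.existsUnique_hom hB hU' g.hom l.toAddMonoidHom fun a m => l.map_smul a m
    refine ⟨CommRingCat.ofHom Φ, ⟨CommRingCat.hom_ext (RingHom.ext hΦ1), CommRingCat.hom_ext ?_⟩, ?_⟩
    · obtain ⟨Φ₀, -, huniq⟩ := SymAlgLib.existsUnique_hom hA hU (g.hom.comp (q.appLE U U' hle).hom)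
        l₀.toAddMonoidHom fun a m => l₀.map_smul a m
      refine (huniq _ ⟨fun a => ?_, fun m => ?_⟩).trans (huniq _ ⟨fun a => (congr($hgf a)).symm, fun m => rfl⟩).symm
      · show Φ ((A.str.app (op U) ≫ u.appLE U U' hle) a) = _
        rw [← hw]
        exact hΦ1 _
      · show Φ ((u.appLE U U' hle).hom (j.app U m)) = l₀ m
        rw [huj, hΦ2]
        exact hψ.lift_eq l₀ m
    · rintro Φ' ⟨h1, h2⟩
      refine CommRingCat.hom_ext (hΦu Φ'.hom ⟨fun a => congr($h1 a), fun m => ?_⟩)
      let l' : Γ(pb q E, U') →ₗ[Γ(X, U')] C :=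
        { toFun := fun m => Φ'.hom (j'.app U' m)
          map_add' := fun a b => (congrArg Φ'.hom (map_add (j'.app U').hom a b)).trans (map_add Φ'.hom _ _)
          map_smul' := fun r m => by
            refine (congrArg Φ'.hom (QCohLib.app_smul j' U' r m)).trans ((map_mul Φ'.hom _ _).trans ?_)
            exact congrArg (· * Φ'.hom (j'.app U' m)) congr($h1 r) }
      have e : l' = l := hψ.algHom_ext _ _ fun x => by
        rw [hψ.lift_eq]
        show Φ'.hom (j'.app U' (puSecLE q E hle x)) = f.hom (j.app U x)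
        rw [← huj, ← h2]
        rfl
      exact congrArg (fun k => k m) e
  refine IsPushout.of_isColimit' ⟨hw⟩ (PushoutCocone.IsColimit.mk hw
    (fun s => (main _ s.inl s.inr s.condition).exists.choose)
    (fun s => (main _ s.inl s.inr s.condition).exists.choose_spec.1)
    (fun s => (main _ s.inl s.inr s.condition).exists.choose_spec.2)
    fun s m h1 h2 => (main _ s.inl s.inr s.condition).unique ⟨h1, h2⟩
      (main _ s.inl s.inr s.condition).exists.choose_spec)

include hE in
theorem exists_qgrhom_pullback {𝒮 : RelProj.QCGrAlg S} {j₀ : E ⟶ 𝒮.toModule} (hj : RelProj.IsGrSymAlg E 𝒮 j₀)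
    {𝒮' : RelProj.QCGrAlg X} {j₁ : pb q E ⟶ 𝒮'.toModule} (hj' : RelProj.IsGrSymAlg (pb q E) 𝒮' j₁) :
    ∃ u : RelProj.QGrHom q 𝒮 𝒮', RelSpec.IsQBaseChange u.toQHom ∧
      ∀ (U : S.Opens) (_ : IsAffineOpen U) (m : Γ(E, U)),
        (u.app U).hom (j₀.app U m) = pVal q 𝒮'.toQCAlg (bcVal q 𝒮'.toQCAlg j₁) U m := by
  obtain ⟨u, hu⟩ := exists_qgrhom q hj (bcVal q 𝒮'.toQCAlg j₁) fun U hU U' hU' hle m => by
    rw [bcVal_res]
    exact hj'.2 U' hU' _
  exact ⟨u, isQBaseChange q 𝒮'.toQCAlg j₁ hj.1 hj'.1 u.toQHom hu, hu⟩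

end EGA2SymLib

end
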