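import Groth.Prelude.Def_RelProj4
import Groth.Agent.GrModLib6.RelPullTwist

/-!
# The inverse image of a twist along the morphism of Proj's over a morphism of bases
-/

set_option autoImplicit false
universe u
open CategoryTheory CategoryTheory.Limits AlgebraicGeometry TopologicalSpace Opposite
open scoped HomogeneousIdeal
open AmpleLib (GenOn res)
open GrTwistLib (Unit' powUnit)
open GrModLib6 (Aff IsBasic δW twistDatum cval)

noncomputable section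

namespace EGA2SymLib

variable {Y Y' P P' : Scheme.{u}} {ψ : Y' ⟶ Y} {𝒮 : RelProj.QCGrAlg Y} {𝒮' : RelProj.QCGrAlg Y'}

/-- an affine open of the source with one of the target containing its image -/
structure APair (ψ : Y' ⟶ Y) where
  i : Aff Y'
  U : Aff Y
  le : i.1 ≤ ψ ⁻¹ᵁ U.1

/-- the graded map of a pair -/
abbrev APair.hom (c : APair ψ) (u : RelProj.QGrHom ψ 𝒮 𝒮') : 𝒮.deg c.U.1 c.U.2 →+*ᵍ 𝒮'.deg c.i.1 c.i.2 :=
  u.gradedAt c.U.1 c.U.2 c.i.1 c.i.2 c.le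

theorem hom_res (u : RelProj.QGrHom ψ 𝒮 𝒮') (c d : APair ψ) (hU : d.U.1 ≤ c.U.1) (hi : d.i.1 ≤ c.i.1)
    (x : 𝒮.presheaf.obj (op c.U.1)) :
    𝒮'.res c.i.2 d.i.2 hi (c.hom u x) = d.hom u (𝒮.res c.U.2 d.U.2 hU x) := by
  show ((u.appLE c.U.1 c.i.1 c.le) ≫ 𝒮'.presheaf.map (homOfLE hi).op).hom x =
    (𝒮.presheaf.map (homOfLE hU).op ≫ u.appLE d.U.1 d.i.1 d.le).hom x
  rw [u.toQHom.appLE_map, u.toQHom.map_appLE]

variable {u : RelProj.QGrHom ψ 𝒮 𝒮'}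
  (hirr : ∀ c : APair ψ, (𝒮'.deg c.i.1 c.i.2)₊ ≤ ((𝒮.deg c.U.1 c.U.2)₊).map (c.hom u))
  {p : P ⟶ Y}
  {chart : ∀ (U : Y.Opens) (hU : IsAffineOpen U), (((p ⁻¹ᵁ U : P.Opens) : Scheme.{u}) ≅ Proj (𝒮.deg U hU))}
  {p' : P' ⟶ Y'}
  {chart' : ∀ (U : Y'.Opens) (hU : IsAffineOpen U), (((p' ⁻¹ᵁ U : P'.Opens) : Scheme.{u}) ≅ Proj (𝒮'.deg U hU))}
  {g : P' ⟶ P}
  (hg : ∀ c : APair ψ, RelProj.emb p' chart' c.i.1 c.i.2 ≫ g =
    Proj.map (c.hom u) (hirr c) ≫ RelProj.emb p chart c.U.1 c.U.2)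
  {n : ℤ} {L : P.Modules}
  {lam : ∀ (U : Y.Opens) (hU : IsAffineOpen U),
    L ⟶ (Scheme.Modules.pushforward (RelProj.emb p chart U hU)).obj (GrTwist.twist (𝒮.deg U hU) n)}

include hg in
theorem preimage_qmap (c : APair ψ) (W : P.Opens) :
    RelProj.emb p' chart' c.i.1 c.i.2 ⁻¹ᵁ (g ⁻¹ᵁ W) =
      Proj.map (c.hom u) (hirr c) ⁻¹ᵁ (RelProj.emb p chart c.U.1 c.U.2 ⁻¹ᵁ W) := by
  rw [← Scheme.Hom.comp_preimage, hg c, Scheme.Hom.comp_preimage]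

variable (lam) in
/-- the comparison into one chart -/
def qComap (c : APair ψ) :
    L ⟶ (Scheme.Modules.pushforward g).obj
      ((Scheme.Modules.pushforward (RelProj.emb p' chart' c.i.1 c.i.2)).obj (GrTwist.twist (𝒮'.deg c.i.1 c.i.2) n)) :=
  lam c.U.1 c.U.2 ≫ (Scheme.Modules.pushforward (RelProj.emb p chart c.U.1 c.U.2)).map
      (GrTwist.comap (c.hom u) (hirr c) n) ≫
    (Scheme.Modules.pushforwardComp (Proj.map (c.hom u) (hirr c))
      (RelProj.emb p chart c.U.1 c.U.2)).hom.app _ ≫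
    (Scheme.Modules.pushforwardCongr (hg c).symm).hom.app _ ≫
    (Scheme.Modules.pushforwardComp (RelProj.emb p' chart' c.i.1 c.i.2) g).inv.app _

theorem qComap_val (c : APair ψ) (W : P.Opens) (s : Γ(L, W))
    (y : (RelProj.emb p' chart' c.i.1 c.i.2 ⁻¹ᵁ (g ⁻¹ᵁ W) : (Proj (𝒮'.deg c.i.1 c.i.2)).Opens))
    (hy : ProjectiveSpectrum.comap (c.hom u) (hirr c) y.1 ∈ RelProj.emb p chart c.U.1 c.U.2 ⁻¹ᵁ W) :
    GrTwistLib.val (𝒜 := 𝒮'.deg c.i.1 c.i.2) (n := n) (V := RelProj.emb p' chart' c.i.1 c.i.2 ⁻¹ᵁ (g ⁻¹ᵁ W))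
        ((qComap hirr hg lam c).app W s) y =
      GrTwist.locMap (c.hom u) (hirr c) y.1
        (GrTwistLib.val (𝒜 := 𝒮.deg c.U.1 c.U.2) (n := n) (V := RelProj.emb p chart c.U.1 c.U.2 ⁻¹ᵁ W)
          ((lam c.U.1 c.U.2).app W s) ⟨_, hy⟩) := rfl

theorem comap_square (c d : APair ψ) (hU : IsBasic c.U d.U) (hi : IsBasic c.i d.i)
    (y : ProjectiveSpectrum (𝒮'.deg d.i.1 d.i.2)) :
    ProjectiveSpectrum.comap (c.hom u) (hirr c) (ProjectiveSpectrum.comap (𝒮'.res c.i.2 d.i.2 hi.le) (hi.irr 𝒮') y) =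
      ProjectiveSpectrum.comap (𝒮.res c.U.2 d.U.2 hU.le) (hU.irr 𝒮)
        (ProjectiveSpectrum.comap (d.hom u) (hirr d) y) := by
  refine ProjectiveSpectrum.ext (HomogeneousIdeal.ext (Ideal.ext fun a => ?_))
  show 𝒮'.res c.i.2 d.i.2 hi.le (c.hom u a) ∈ y.asHomogeneousIdeal ↔
    d.hom u (𝒮.res c.U.2 d.U.2 hU.le a) ∈ y.asHomogeneousIdeal
  rw [hom_res u c d hU.le hi.le a]

theorem locMap_qsquare (c d : APair ψ) (hU : IsBasic c.U d.U) (hi : IsBasic c.i d.i)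
    {V : (Proj (𝒮.deg c.U.1 c.U.2)).Opens}
    (s : Γ(GrTwist.twist (𝒮.deg c.U.1 c.U.2) n, V)) (y : ProjectiveSpectrum (𝒮'.deg d.i.1 d.i.2))
    (h1 : ProjectiveSpectrum.comap (c.hom u) (hirr c)
      (ProjectiveSpectrum.comap (𝒮'.res c.i.2 d.i.2 hi.le) (hi.irr 𝒮') y) ∈ V)
    (h2 : ProjectiveSpectrum.comap (𝒮.res c.U.2 d.U.2 hU.le) (hU.irr 𝒮)
      (ProjectiveSpectrum.comap (d.hom u) (hirr d) y) ∈ V) :
    GrTwist.locMap (𝒮'.res c.i.2 d.i.2 hi.le) (hi.irr 𝒮') y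
        (GrTwist.locMap (c.hom u) (hirr c) _ (GrTwistLib.val s ⟨_, h1⟩)) =
      GrTwist.locMap (d.hom u) (hirr d) y
        (GrTwist.locMap (𝒮.res c.U.2 d.U.2 hU.le) (hU.irr 𝒮) _ (GrTwistLib.val s ⟨_, h2⟩)) := by
  obtain ⟨W', hxW', ι, a, b, m, q, hnin, -, hw⟩ :=
    (show GrTwist.sectN (𝒜 := 𝒮.deg c.U.1 c.U.2) n (op V) from s).2 ⟨_, h2⟩
  have hx1 : ProjectiveSpectrum.comap (c.hom u) (hirr c)
      (ProjectiveSpectrum.comap (𝒮'.res c.i.2 d.i.2 hi.le) (hi.irr 𝒮') y) ∈ W' := by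
    rw [comap_square hirr c d hU hi y]; exact hxW'
  have e1 : GrTwistLib.val s ⟨_, h1⟩ = _ := hw ⟨_, hx1⟩
  have e2 : GrTwistLib.val s ⟨_, h2⟩ = _ := hw ⟨_, hxW'⟩
  rw [e1, e2, GrTwist.locMap_mk, GrTwist.locMap_mk, GrTwist.locMap_mk, GrTwist.locMap_mk]
  exact congrArg₂ Localization.mk (hom_res u c d hU.le hi.le _) (Subtype.ext (hom_res u c d hU.le hi.le _))

variable (hP : RelProj.IsRelProj 𝒮 p chart) (hP' : RelProj.IsRelProj 𝒮' p' chart')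
  (hL : RelProj.IsRelTwist 𝒮 p chart n L lam)

include hP hL in
theorem qComap_basic (c d : APair ψ) (hU : IsBasic c.U d.U) (hi : IsBasic c.i d.i) :
    qComap hirr hg lam c ≫ (Scheme.Modules.pushforward g).map (δW hP' n hi) = qComap hirr hg lam d := by
  refine Scheme.Modules.hom_ext _ _ fun W => ConcreteCategory.hom_ext _ _ fun s => ?_
  refine GrTwistLib.sec_ext fun y => ?_
  have hy1 := (GrModLib6.preimage_pmap hP' hi (g ⁻¹ᵁ W)).le y.2
  have hy2 := (preimage_qmap hirr hg c W).le hy1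
  have hy3 := (preimage_qmap hirr hg d W).le y.2
  have hy4 := (GrModLib6.preimage_pmap hP hU W).le hy3
  refine (GrModLib6.δW_val hP' n hi (g ⁻¹ᵁ W) _ y hy1).trans ?_
  refine ((congrArg (GrTwist.locMap _ _ y.1) (qComap_val hirr hg c W s ⟨_, hy1⟩ hy2)).trans
    (locMap_qsquare hirr c d hU hi _ y.1 hy2 hy4)).trans ?_
  refine Eq.trans ?_ (qComap_val hirr hg d W s y hy3).symm
  refine congrArg _ ?_
  have e : (δW hP n hU).app W ((lam c.U.1 c.U.2).app W s) = (lam d.U.1 d.U.2).app W s :=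
    congrArg (fun φ => φ.app W s) (GrModLib6.compat_of_isRelTwist hP hL c.U d.U hU)
  let z₀ : (RelProj.emb p chart d.U.1 d.U.2 ⁻¹ᵁ W : (Proj (𝒮.deg d.U.1 d.U.2)).Opens) :=
    ⟨ProjectiveSpectrum.comap (d.hom u) (hirr d) y.1, hy3⟩
  have e' : GrTwistLib.val (𝒜 := 𝒮.deg d.U.1 d.U.2) (n := n) (V := RelProj.emb p chart d.U.1 d.U.2 ⁻¹ᵁ W)
      ((δW hP n hU).app W ((lam c.U.1 c.U.2).app W s)) z₀ =
      GrTwistLib.val (𝒜 := 𝒮.deg d.U.1 d.U.2) (n := n) (V := RelProj.emb p chart d.U.1 d.U.2 ⁻¹ᵁ W)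
      ((lam d.U.1 d.U.2).app W s) z₀ := by rw [e]
  exact ((GrModLib6.δW_val hP n hU W _ z₀ hy4).symm.trans e')

include hP hL in
/-- the comparison does not depend on the open of the base -/
theorem qComap_indep (c d : APair ψ) (hi : IsBasic c.i d.i) :
    qComap hirr hg lam c ≫ (Scheme.Modules.pushforward g).map (δW hP' n hi) = qComap hirr hg lam d := by
  refine Scheme.Modules.hom_ext _ _ fun W => ConcreteCategory.hom_ext _ _ fun s => ?_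
  refine ModGlueLib.eq_of_pieces (D := twistDatum hP' n) (j := d.i) (W := g ⁻¹ᵁ W) _ _ fun x _ hxi => ?_
  obtain ⟨U₃, hc, hd, hx₃⟩ := GrModLib6.exists_isBasic_inter (i := c.U) (j := d.U) (x := ψ (p' x))
    (c.le (hi.le hxi)) (d.le hxi)
  obtain ⟨r, hr, hxr⟩ := d.i.2.exists_basicOpen_le (V := ψ ⁻¹ᵁ U₃.1) ⟨p' x, hx₃⟩ hxi
  let e : APair ψ := ⟨⟨Y'.basicOpen r, d.i.2.basicOpen r⟩, U₃, hr⟩
  have hde : IsBasic d.i e.i := ⟨r, rfl⟩
  refine ⟨e.i, hde, hxr, ?_⟩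
  have k1 : ((twistDatum hP' n).δ (i := d.i) (j := e.i) hde).app (g ⁻¹ᵁ W)
      ((δW hP' n hi).app (g ⁻¹ᵁ W) ((qComap hirr hg lam c).app W s)) = (qComap hirr hg lam e).app W s := by
    refine (ModGlueLib.δ_app (twistDatum hP' n) (i := c.i) (j := d.i) (k := e.i) hi hde _).trans ?_
    exact congrArg (fun φ => φ.app W s) (qComap_basic hirr hg hP hP' hL c e hc (hi.trans hde))
  have k2 : ((twistDatum hP' n).δ (i := d.i) (j := e.i) hde).app (g ⁻¹ᵁ W) ((qComap hirr hg lam d).app W s) =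
      (qComap hirr hg lam e).app W s :=
    congrArg (fun φ => φ.app W s) (qComap_basic hirr hg hP hP' hL d e hd hde)
  rw [ModGlueLib.app_rs, ModGlueLib.app_rs]
  exact congrArg _ (k1.trans k2.symm)

variable {L' : P'.Modules}
  {lam' : ∀ (U : Y'.Opens) (hU : IsAffineOpen U),
    L' ⟶ (Scheme.Modules.pushforward (RelProj.emb p' chart' U hU)).obj (GrTwist.twist (𝒮'.deg U hU) n)}

include hP hP' hL in
theorem exists_qTwistComap (hL' : RelProj.IsRelTwist 𝒮' p' chart' n L' lam') :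
    ∃ θ : L ⟶ (Scheme.Modules.pushforward g).obj L',
      ∀ c : APair ψ, θ ≫ (Scheme.Modules.pushforward g).map (lam' c.i.1 c.i.2) = qComap hirr hg lam c := by
  let adj := Scheme.Modules.pullbackPushforwardAdjunction g
  let D₀ := twistDatum hP' n
  have hsel : ∀ x : P', ∃ c : APair ψ, p' x ∈ c.i.1 := fun x => by
    obtain ⟨U, hU, hxU, -⟩ := exists_isAffineOpen_mem_and_subset (x := ψ (p' x)) (U := ⊤) trivial
    obtain ⟨V, hV, hxV, hle⟩ := exists_isAffineOpen_mem_and_subset (x := p' x) (U := ψ ⁻¹ᵁ U) hxU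
    exact ⟨⟨⟨V, hV⟩, ⟨U, hU⟩, fun y hy => hle hy⟩, hxV⟩
  let D : ModGlueLib.Datum P' :=
    { J := {i : Aff Y' // ∃ U : Aff Y, i.1 ≤ ψ ⁻¹ᵁ U.1}
      V := fun i => D₀.V i.1
      T := fun i => D₀.T i.1
      R := fun i j => D₀.R i.1 j.1
      δ := fun h => D₀.δ h
      trans := fun h h' => D₀.trans h h'
      le := fun h => D₀.le h
      δ_comp := fun h h' => D₀.δ_comp h h'
      bij := fun h => D₀.bij h
      cover := fun x => by
        obtain ⟨c, hc⟩ := hsel x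
        exact ⟨⟨c.i, c.U, c.le⟩, hc⟩
      inter := fun {i j x} hi hj => by
        obtain ⟨k, h1, h2, h3⟩ := D₀.inter hi hj
        obtain ⟨U, hU⟩ := i.2
        exact ⟨⟨k, U, (IsBasic.le h1).trans hU⟩, h1, h2, h3⟩
      cut := fun i => D₀.cut i.1 }
  let pc : D.J → APair ψ := fun i => ⟨i.1, i.2.choose, i.2.choose_spec⟩
  let ψs : ∀ i : D.J, (Scheme.Modules.pullback g).obj L ⟶ D.T i :=
    fun i => (adj.homEquiv _ _).symm (qComap hirr hg lam (pc i))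
  obtain ⟨θ', hθ', -⟩ := ModGlueLib.existsUnique_lift (D := D) (fun i => lam' i.1.1 i.1.2)
    (fun i W hW => hL'.bijective i.1.1 i.1.2 W hW)
    (fun i j h => GrModLib6.compat_of_isRelTwist hP' hL' i.1 j.1 h) ψs (fun i j hb => by
      refine ((adj.homEquiv_naturality_right_symm (qComap hirr hg lam (pc i)) (δW hP' n hb)).symm).trans ?_
      exact congrArg (adj.homEquiv _ _).symm (qComap_indep hirr hg hP hP' hL (pc i) (pc j) hb))
  refine ⟨(adj.homEquiv _ _) θ', fun c => ?_⟩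
  let i : D.J := ⟨c.i, c.U, c.le⟩
  refine (((adj.homEquiv_naturality_right θ' (lam' c.i.1 c.i.2)).symm).trans
    ((congrArg (adj.homEquiv _ _) (hθ' i)).trans (Equiv.apply_symm_apply _ _))).trans ?_
  have h := qComap_indep hirr hg hP hP' hL (pc i) c (⟨1, (Scheme.basicOpen_of_isUnit _ isUnit_one).symm⟩ : IsBasic c.i c.i)
  have h' := qComap_indep hirr hg hP hP' hL c c (⟨1, (Scheme.basicOpen_of_isUnit _ isUnit_one).symm⟩ : IsBasic c.i c.i)
  refine Scheme.Modules.hom_ext _ _ fun W => ConcreteCategory.hom_ext _ _ fun s => ?_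
  let hcc : IsBasic c.i c.i := ⟨1, (Scheme.basicOpen_of_isUnit _ isUnit_one).symm⟩
  refine ((twistDatum hP' n).cut c.i (g ⁻¹ᵁ W)).1
    (((twistDatum hP' n).bij (i := c.i) (j := c.i) hcc (g ⁻¹ᵁ W ⊓ p' ⁻¹ᵁ c.i.1) inf_le_right).1 ?_)
  refine (ModGlueLib.app_rs ((twistDatum hP' n).δ (i := c.i) (j := c.i) hcc) _ _).trans (Eq.trans ?_
    (ModGlueLib.app_rs ((twistDatum hP' n).δ (i := c.i) (j := c.i) hcc) _ _).symm)
  exact congrArg _ ((congrArg (fun φ => φ.app W s) h).trans (congrArg (fun φ => φ.app W s) h').symm)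

include hirr hg hP hP' in
theorem exists_twist_comap_iso (hgen : 𝒮.IsGenDegOne)
    {lam : ∀ (U : Y.Opens) (hU : IsAffineOpen U),
      L ⟶ (Scheme.Modules.pushforward (RelProj.emb p chart U hU)).obj (GrTwist.twist (𝒮.deg U hU) (n * ((1 : ℕ) : ℤ)))}
    (hL : RelProj.IsRelTwist 𝒮 p chart (n * ((1 : ℕ) : ℤ)) L lam)
    {lam' : ∀ (U : Y'.Opens) (hU : IsAffineOpen U),
      L' ⟶ (Scheme.Modules.pushforward (RelProj.emb p' chart' U hU)).obj (GrTwist.twist (𝒮'.deg U hU) (n * ((1 : ℕ) : ℤ)))}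
    (hL' : RelProj.IsRelTwist 𝒮' p' chart' (n * ((1 : ℕ) : ℤ)) L' lam') :
    ∃ θ : L ⟶ (Scheme.Modules.pushforward g).obj L',
      IsIso (((Scheme.Modules.pullbackPushforwardAdjunction g).homEquiv L L').symm θ) ∧
      ∀ c : APair ψ, θ ≫ (Scheme.Modules.pushforward g).map (lam' c.i.1 c.i.2) = qComap hirr hg lam c := by
  obtain ⟨θ, hθ⟩ := exists_qTwistComap hirr hg hP hP' hL hL'
  let adj := Scheme.Modules.pullbackPushforwardAdjunction g
  let θ' := (adj.homEquiv _ _).symm θ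
  haveI : IsIso θ' := TwistLib.isIso_of_gen θ' fun x => by
    obtain ⟨U, hU, hxU, -⟩ := exists_isAffineOpen_mem_and_subset (x := ψ (p' x)) (U := ⊤) trivial
    obtain ⟨V, hV, hxV, hle⟩ := exists_isAffineOpen_mem_and_subset (x := p' x) (U := ψ ⁻¹ᵁ U) hxU
    let c : APair ψ := ⟨⟨V, hV⟩, ⟨U, hU⟩, fun y hy => hle hy⟩
    obtain ⟨y, rfl⟩ := (MiscFlat6.emb_opensRange (chart := chart') V hV).ge hxV
    let φ := c.hom u
    obtain ⟨a, ha, hya⟩ := GrTwistLib.exists_basicOpen_of_genDegOne _ (hgen U hU) (Proj.map φ (hirr c) y)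
    let D : P.Opens := RelProj.emb p chart U hU ''ᵁ Proj.basicOpen (𝒮.deg U hU) a
    have hD : D ≤ p ⁻¹ᵁ U :=
      ((RelProj.emb p chart U hU).image_le_opensRange _).trans (MiscFlat6.emb_opensRange (chart := chart) _ _).le
    have hpre : RelProj.emb p chart U hU ⁻¹ᵁ D ≤ Proj.basicOpen (𝒮.deg U hU) a :=
      ((RelProj.emb p chart U hU).preimage_image_eq _).le
    obtain ⟨σ, hσ, hσg⟩ := GrModLib6.exists_gen_chart hL c.U hD hpre (powUnit _ ha n)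
    let D' : P'.Opens := g ⁻¹ᵁ D ⊓ p' ⁻¹ᵁ V
    have hyD : RelProj.emb p' chart' V hV y ∈ g ⁻¹ᵁ D := by
      show g (RelProj.emb p' chart' V hV y) ∈ D
      rw [← Scheme.Hom.comp_apply, hg c, Scheme.Hom.comp_apply]
      exact ⟨_, hya, rfl⟩
    have hga : φ a ∈ 𝒮'.deg V hV 1 := φ.map_mem ha
    have hmap : ∀ z ∈ RelProj.emb p' chart' V hV ⁻¹ᵁ D',
        ProjectiveSpectrum.comap φ (hirr c) z ∈ RelProj.emb p chart U hU ⁻¹ᵁ D := fun z hz =>
      (preimage_qmap hirr hg c D).le hz.1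
    have hpre' : RelProj.emb p' chart' V hV ⁻¹ᵁ D' ≤ Proj.basicOpen (𝒮'.deg V hV) (φ a) := fun z hz =>
      hpre (hmap z hz)
    obtain ⟨τ, hτ, hτg⟩ := GrModLib6.exists_gen_chart hL' c.i (inf_le_right : D' ≤ p' ⁻¹ᵁ V) hpre' (powUnit _ hga n)
    have hres : res L' (inf_le_left : D' ≤ g ⁻¹ᵁ D) (θ.app D σ) = τ := by
      refine (hL'.bijective V hV D' inf_le_right).1 (GrTwistLib.sec_ext fun z => ?_)
      have hz' : z.1 ∈ RelProj.emb p' chart' V hV ⁻¹ᵁ (g ⁻¹ᵁ D) := z.2.1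
      have e1 : cval lam' c.i (res L' (inf_le_left : D' ≤ g ⁻¹ᵁ D) (θ.app D σ)) z =
          cval lam' c.i (θ.app D σ) ⟨z.1, hz'⟩ := GrModLib6.cval_res c.i _ _ z
      refine e1.trans ?_
      refine ((congrArg (fun χ => GrTwistLib.val (χ.app D σ) (⟨z.1, hz'⟩ :
          (RelProj.emb p' chart' V hV ⁻¹ᵁ (g ⁻¹ᵁ D) : (Proj (𝒮'.deg V hV)).Opens))) (hθ c)).trans
        (qComap_val hirr hg c D σ ⟨z.1, hz'⟩ (hmap z.1 z.2))).trans ?_
      refine Eq.trans ?_ (hτ z).symm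
      refine (congrArg (GrTwist.locMap φ (hirr c) z.1) (hσ ⟨_, hmap z.1 z.2⟩)).trans ?_
      rw [Unit'.sec, Unit'.sec, GrTwistLib.val_fracSec, GrTwistLib.val_fracSec, GrTwist.locMap_mk]
      obtain ⟨e2, e3⟩ := GrModLib6.powUnit_map φ ha hga rfl n
      exact congrArg₂ Localization.mk e2 (Subtype.ext e3)
    refine ⟨g ⁻¹ᵁ D, hyD, KFlatLib.puSec g σ, (AmpleDevLib.puSec_genOn g hσg).genAt hyD, ?_⟩
    have e : θ'.app (g ⁻¹ᵁ D) (KFlatLib.puSec g σ) = θ.app D σ :=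
      congrArg (fun χ => χ.app D σ) ((adj.homEquiv_unit _ _ θ').symm.trans (Equiv.apply_symm_apply _ _))
    rw [e]
    exact (AmpleLib.genAt_res (inf_le_left : D' ≤ g ⁻¹ᵁ D) (θ.app D σ) (x := RelProj.emb p' chart' V hV y) ⟨hyD, hxV⟩).mp
      (hres ▸ hτg.genAt _)
  exact ⟨θ, inferInstanceAs (IsIso θ'), hθ⟩

include hirr hg hP hP' in
theorem nonempty_pullback_twist_iso (hgen : 𝒮.IsGenDegOne)
    {lam : ∀ (U : Y.Opens) (hU : IsAffineOpen U),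
      L ⟶ (Scheme.Modules.pushforward (RelProj.emb p chart U hU)).obj (GrTwist.twist (𝒮.deg U hU) (n * ((1 : ℕ) : ℤ)))}
    (hL : RelProj.IsRelTwist 𝒮 p chart (n * ((1 : ℕ) : ℤ)) L lam)
    {lam' : ∀ (U : Y'.Opens) (hU : IsAffineOpen U),
      L' ⟶ (Scheme.Modules.pushforward (RelProj.emb p' chart' U hU)).obj (GrTwist.twist (𝒮'.deg U hU) (n * ((1 : ℕ) : ℤ)))}
    (hL' : RelProj.IsRelTwist 𝒮' p' chart' (n * ((1 : ℕ) : ℤ)) L' lam') :
    Nonempty ((Scheme.Modules.pullback g).obj L ≅ L') := by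
  obtain ⟨θ, h, -⟩ := exists_twist_comap_iso hirr hg hP hP' hgen hL hL'
  exact ⟨asIso (((Scheme.Modules.pullbackPushforwardAdjunction g).homEquiv L L').symm θ)⟩

end EGA2SymLib

end
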