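import Mathlib
import Groth.Agent.EGA2SymLib.SymBC
import Groth.Agent.EGA2SymLib.TwistQ
import Groth.Agent.MiscFlat6.RelProjExist
import Groth.Agent.RelConeLib.QMap
import Groth.Agent.S12141

/-!
# Base change of projective bundles with their fundamental sheaves
-/

set_option autoImplicit false
universe u

open CategoryTheory CategoryTheory.Limits AlgebraicGeometry TopologicalSpace Opposite
open KFlatLib (pb)
open scoped HomogeneousIdeal

noncomputable section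

namespace EGA2SymLib

variable {Y Y' : Scheme.{u}} {ψ : Y' ⟶ Y} {𝒮 : RelProj.QCGrAlg Y} {𝒮' : RelProj.QCGrAlg Y'}
  {u : RelProj.QGrHom ψ 𝒮 𝒮'}

/-- after base change the irrelevant ideal is generated by the image -/
theorem irrelevant_le_of_isQBaseChange (hu : RelSpec.IsQBaseChange u.toQHom) (c : APair ψ) :
    (𝒮'.deg c.i.1 c.i.2)₊ ≤ ((𝒮.deg c.U.1 c.U.2)₊).map (c.hom u) := by
  classical
  obtain ⟨⟨U', hU'⟩, ⟨U, hU⟩, hle⟩ := c
  have h := hu U hU U' hU' hle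
  let φ := u.gradedAt U hU U' hU' hle
  let I : Ideal (𝒮'.presheaf.obj (op U')) := Ideal.map φ (HomogeneousIdeal.irrelevant (𝒮.deg U hU)).toIdeal
  let q₁ : 𝒮'.presheaf.obj (op U') ⟶ CommRingCat.of (𝒮'.presheaf.obj (op U') ⧸ I) :=
    CommRingCat.ofHom (Ideal.Quotient.mk I)
  let q₂ : 𝒮'.presheaf.obj (op U') ⟶ CommRingCat.of (𝒮'.presheaf.obj (op U') ⧸ I) :=
    CommRingCat.ofHom ((Ideal.Quotient.mk I).comp (GradedRing.projZeroRingHom (𝒮'.deg U' hU')))
  have hq : q₁ = q₂ := by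
    refine h.hom_ext ?_ ?_
    · refine CommRingCat.hom_ext (RingHom.ext fun s => congrArg (Ideal.Quotient.mk I) ?_)
      exact (DirectSum.decompose_of_mem_same (𝒮'.deg U' hU') (𝒮'.str_mem U' hU' s)).symm
    · refine CommRingCat.hom_ext (RingHom.ext fun a => ?_)
      show Ideal.Quotient.mk I (φ a) =
        Ideal.Quotient.mk I (GradedRing.projZeroRingHom (𝒮'.deg U' hU') (φ a))
      rw [Ideal.Quotient.eq]
      show φ a - (DirectSum.decompose (𝒮'.deg U' hU') (φ a) 0 : 𝒮'.presheaf.obj (op U')) ∈ I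
      rw [← GradedRingHom.map_directSumDecompose, ← map_sub]
      refine Ideal.mem_map_of_mem φ ?_
      show (DirectSum.decompose (𝒮.deg U hU) (a - DirectSum.decompose (𝒮.deg U hU) a 0) 0 :
        𝒮.presheaf.obj (op U)) = 0
      rw [DirectSum.decompose_sub, DirectSum.sub_apply, AddSubgroupClass.coe_sub,
        DirectSum.decompose_of_mem_same _ (SetLike.coe_mem (DirectSum.decompose (𝒮.deg U hU) a 0)), sub_self]
  refine (HomogeneousIdeal.irrelevant_le _).mpr fun n hn b hb => ?_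
  have h2 : Ideal.Quotient.mk I b =
      Ideal.Quotient.mk I (DirectSum.decompose (𝒮'.deg U' hU') b 0 : 𝒮'.presheaf.obj (op U')) :=
    congrArg (fun f => f.hom b) hq
  rw [DirectSum.decompose_of_mem_ne (𝒮'.deg U' hU') hb hn.ne', map_zero, Ideal.Quotient.eq_zero_iff_mem] at h2
  exact h2

variable {P P' : Scheme.{u}} {p : P ⟶ Y}
  {chart : ∀ (U : Y.Opens) (hU : IsAffineOpen U), (((p ⁻¹ᵁ U : P.Opens) : Scheme.{u}) ≅ Proj (𝒮.deg U hU))}
  {p' : P' ⟶ Y'}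
  {chart' : ∀ (U : Y'.Opens) (hU : IsAffineOpen U), (((p' ⁻¹ᵁ U : P'.Opens) : Scheme.{u}) ≅ Proj (𝒮'.deg U hU))}

/-- on a chart an everywhere defined `Proj(u)` is `Proj.map` -/
theorem emb_comp_of_isProjQMap (hirr : ∀ c : APair ψ, (𝒮'.deg c.i.1 c.i.2)₊ ≤ ((𝒮.deg c.U.1 c.U.2)₊).map (c.hom u))
    {h : P' ⟶ P} (hh : RelProj.IsProjQMap u p chart p' chart' h) (c : APair ψ) :
    RelProj.emb p' chart' c.i.1 c.i.2 ≫ h = Proj.map (c.hom u) (hirr c) ≫ RelProj.emb p chart c.U.1 c.U.2 := by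
  refine (Proj.mapAffineOpenCover (c.hom u) (hirr c)).openCover.hom_ext _ _ fun s => ?_
  simp only [Scheme.AffineOpenCover.openCover_f, Proj.mapAffineOpenCover_f]
  refine Eq.trans ?_ (Proj.awayι_comp_map_assoc (c.hom u) (hirr c) s.1.2 _ s.2.2 _).symm
  refine Eq.trans (Category.assoc _ _ _).symm ?_
  exact hh.2 c.U.1 c.U.2 c.i.1 c.i.2 c.le _ s.1.2 _ s.2.2

variable {E : Y.Modules}

/-- the projective bundle of an inverse image is the base change, compatibly with `O(1)` -/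
theorem exists_baseChange_twist (ψ : Y' ⟶ Y) [Coh.IsQCoh E] {j : E ⟶ 𝒮.toModule} (hj : RelProj.IsGrSymAlg E 𝒮 j)
    (hP : RelProj.IsRelProj 𝒮 p chart) {O1 : P.Modules}
    {lam : ∀ (U : Y.Opens) (hU : IsAffineOpen U),
      O1 ⟶ (Scheme.Modules.pushforward (RelProj.emb p chart U hU)).obj (GrTwist.twist (𝒮.deg U hU) 1)}
    (hO1 : RelProj.IsRelTwist 𝒮 p chart 1 O1 lam) :
    ∃ (𝒯 : RelProj.QCGrAlg Y') (k : pb ψ E ⟶ 𝒯.toModule) (_ : RelProj.IsGrSymAlg (pb ψ E) 𝒯 k)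
      (Q : Scheme.{u}) (q : Q ⟶ Y')
      (chartQ : ∀ (U : Y'.Opens) (hU : IsAffineOpen U), (((q ⁻¹ᵁ U : Q.Opens) : Scheme.{u}) ≅ Proj (𝒯.deg U hU)))
      (_ : RelProj.IsRelProj 𝒯 q chartQ) (O1' : Q.Modules)
      (lam' : ∀ (U : Y'.Opens) (hU : IsAffineOpen U),
        O1' ⟶ (Scheme.Modules.pushforward (RelProj.emb q chartQ U hU)).obj (GrTwist.twist (𝒯.deg U hU) 1))
      (_ : RelProj.IsRelTwist 𝒯 q chartQ 1 O1' lam') (h : Q ⟶ P),
      IsPullback h q p ψ ∧ Nonempty ((Scheme.Modules.pullback h).obj O1 ≅ O1') := by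
  haveI := KFlatLib.isQCoh_pullback ψ E
  obtain ⟨𝒯, k, hk⟩ := exists_isGrSymAlg (pb ψ E)
  obtain ⟨Q, q, chartQ, hQ⟩ := MiscFlat6.exists_relProj 𝒯
  obtain ⟨O1', lam', hO1'⟩ := GrModLib6.exists_isRelTwist hQ 1
  obtain ⟨v, hv, -⟩ := exists_qgrhom_pullback ψ hj hk
  obtain ⟨⟨h, hh⟩, hpb⟩ := Groth.Agent.S12141.result ψ 𝒮 𝒯 v hv p chart hP q chartQ hQ
  refine ⟨𝒯, k, hk, Q, q, chartQ, hQ, O1', lam', hO1', h, hpb h hh, ?_⟩
  obtain ⟨l, hl⟩ := GrModLib6.isRelTwist_congr (show (1 : ℤ) = 1 * ((1 : ℕ) : ℤ) by simp) hO1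
  obtain ⟨l', hl'⟩ := GrModLib6.isRelTwist_congr (show (1 : ℤ) = 1 * ((1 : ℕ) : ℤ) by simp) hO1'
  exact nonempty_pullback_twist_iso (irrelevant_le_of_isQBaseChange hv)
    (emb_comp_of_isProjQMap (irrelevant_le_of_isQBaseChange hv) hh) hP hQ (SymGenLib.isGenDegOne hj) hl hl'

theorem isRelVeryAmple_baseChange {X X' : Scheme.{u}} (f : X ⟶ Y) {g' : X' ⟶ X} {f' : X' ⟶ Y'}
    (hsq : IsPullback g' f' f ψ) (L : X.Modules) (hva : RelProj.IsRelVeryAmple f L) :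
    RelProj.IsRelVeryAmple f' ((Scheme.Modules.pullback g').obj L) := by
  obtain ⟨E, hE, 𝒮, j, hj, P, p, chart, hP, O1, lam, hO1, i, hi, hip, ⟨e⟩⟩ := hva
  haveI := hE
  obtain ⟨𝒯, k, hk, Q, q, chartQ, hQ, O1', lam', hO1', h, hpb, ⟨θ⟩⟩ := exists_baseChange_twist ψ hj hP hO1
  let i' : X' ⟶ Q := hpb.lift (g' ≫ i) f' (by rw [Category.assoc, hip, hsq.w])
  have h1 : i' ≫ h = g' ≫ i := hpb.lift_fst _ _ _
  have h2 : i' ≫ q = f' := hpb.lift_snd _ _ _
  have sq : IsPullback g' i' i h := IsPullback.of_bot (by rw [h2, hip]; exact hsq) h1.symm hpb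
  haveI : IsImmersion i' := MorphismProperty.of_isPullback sq hi
  refine ⟨pb ψ E, KFlatLib.isQCoh_pullback ψ E, 𝒯, k, hk, Q, q, chartQ, hQ, O1', lam', hO1', i', inferInstance, h2,
    ⟨(Scheme.Modules.pullback g').mapIso e ≪≫ (Scheme.Modules.pullbackComp g' i).app O1 ≪≫
      (Scheme.Modules.pullbackCongr h1.symm).app O1 ≪≫ ((Scheme.Modules.pullbackComp i' h).app O1).symm ≪≫
      (Scheme.Modules.pullback i').mapIso θ⟩⟩

end EGA2SymLib

end

namespace EGA2SymLib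

/-- very ampleness restricts along immersions -/
theorem isRelVeryAmple_comp_immersion {X X' S : Scheme.{u}} (k : X ⟶ X') [IsImmersion k] (f : X' ⟶ S) (M : X'.Modules)
    (hva : RelProj.IsRelVeryAmple f M) (L : X.Modules) (e' : L ≅ (Scheme.Modules.pullback k).obj M) :
    RelProj.IsRelVeryAmple (k ≫ f) L := by
  obtain ⟨E, hE, 𝒮, j, hj, P, p, chart, hP, O1, lam, hO1, i, hi, hip, ⟨e⟩⟩ := hva
  exact ⟨E, hE, 𝒮, j, hj, P, p, chart, hP, O1, lam, hO1, k ≫ i, inferInstance, by rw [Category.assoc, hip],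
    ⟨e' ≪≫ (Scheme.Modules.pullback k).mapIso e ≪≫ (Scheme.Modules.pullbackComp k i).app O1⟩⟩

/-- very ampleness relative to a composite implies it relative to the first morphism -/
theorem isRelVeryAmple_of_comp {X Y Z : Scheme.{u}} (f : X ⟶ Y) (g : Y ⟶ Z) (L : X.Modules)
    (hva : RelProj.IsRelVeryAmple (f ≫ g) L) : RelProj.IsRelVeryAmple f L := by
  let k : X ⟶ pullback (f ≫ g) g := pullback.lift (𝟙 X) f (by simp)
  have h1 : k ≫ pullback.fst (f ≫ g) g = 𝟙 X := pullback.lift_fst _ _ _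
  haveI : IsImmersion k := by
    haveI : IsImmersion (k ≫ pullback.fst (f ≫ g) g) := h1 ▸ inferInstance
    exact IsImmersion.of_comp k (pullback.fst (f ≫ g) g)
  have h2 : k ≫ pullback.snd (f ≫ g) g = f := pullback.lift_snd _ _ _
  have h := isRelVeryAmple_comp_immersion k (pullback.snd (f ≫ g) g) _
    (isRelVeryAmple_baseChange (f ≫ g) (IsPullback.of_hasPullback (f ≫ g) g) L hva) L
    ((((Scheme.Modules.pullbackComp k (pullback.fst (f ≫ g) g)).app L) ≪≫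
      (Scheme.Modules.pullbackCongr h1).app L ≪≫ (Scheme.Modules.pullbackId X).app L).symm)
  rwa [h2] at h

end EGA2SymLib
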