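import Mathlib
import Groth.Agent.GrModLib6.RelTensor
import Groth.Agent.SymAlgLib.Exists
import Groth.Agent.RelConeLib.Charts

/-!
# The canonical map of a module to the direct image of a twisting sheaf
-/

set_option autoImplicit false
universe u

open CategoryTheory CategoryTheory.Limits AlgebraicGeometry TopologicalSpace Opposite
open AlgebraicGeometry.Scheme AlgebraicGeometry.Scheme.AffineZariskiSite
open scoped HomogeneousIdeal

noncomputable section

namespace EGA2SymLib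

section

variable {A σ : Type u} [CommRing A] [SetLike σ A] [AddSubgroupClass σ A] (𝒜 : ℕ → σ) [GradedRing 𝒜]

open HomogeneousLocalization in
/-- the structure map of `Proj` gives `c ↦ c / 1` on global functions -/
theorem val_toSpecZero_appTop (c : 𝒜 0) (y : (⊤ : (Proj 𝒜).Opens)) :
    ((show GrTwist.O (op (⊤ : (Proj 𝒜).Opens)) from
        (Proj.toSpecZero 𝒜).appTop ((Scheme.ΓSpecIso (CommRingCat.of (𝒜 0))).inv c)).1 y).val =
      algebraMap A (GrTwist.Loc 𝒜 y.1) (c : A) := by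
  let D : (Proj 𝒜).Opens := Proj.basicOpen 𝒜 1
  let g : Proj 𝒜 ⟶ (D : Scheme.{u}) :=
    (Scheme.topIso _).inv ≫ (Scheme.isoOfEq _ (Proj.basicOpen_one 𝒜)).inv
  have hg : g ≫ D.ι = 𝟙 _ := by simp [g, D]
  have hT : (⊤ : (Proj 𝒜).Opens) ≤ D := (Proj.basicOpen_one 𝒜).ge
  have key : ∀ a : Γ(Proj 𝒜, D), g.appTop (D.topIso.inv a) = (Proj 𝒜).presheaf.map (homOfLE hT).op a := by
    intro a
    have e : D.topIso.inv = D.ι.appLE D ⊤ (D.ι_preimage_self).ge := by
      rw [Scheme.Opens.ι_appLE]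
      rfl
    have h2 := Scheme.Hom.appLE_comp_appLE g D.ι D ⊤ ⊤ (D.ι_preimage_self).ge le_top
    refine Eq.trans ?_ (congr($(h2) a).trans ?_)
    · rw [CommRingCat.comp_apply, ← e, show g.appLE ⊤ ⊤ le_top = g.appTop from Scheme.Hom.appLE_eq_app g]
    · simp only [hg]
      rw [Scheme.Hom.appLE, Scheme.Hom.id_app]
      rfl
  have e0 : (Proj.toSpecZero 𝒜).appTop ((Scheme.ΓSpecIso (CommRingCat.of (𝒜 0))).inv c) =
      (Proj 𝒜).presheaf.map (homOfLE hT).op (Proj.awayToSection 𝒜 1 (fromZeroRingHom 𝒜 _ c)) := by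
    rw [← key]
    have h1 : Proj.toSpecZero 𝒜 =
        g ≫ Proj.basicOpenToSpec 𝒜 1 ≫ Spec.map (CommRingCat.ofHom (fromZeroRingHom 𝒜 _)) := by
      simp [g, Proj.toSpecZero, D]
    rw [h1]
    show g.appTop ((Proj.basicOpenToSpec 𝒜 1).app ⊤ ((Spec.map _).appTop _)) = _
    rw [Proj.basicOpenToSpec_app_top]
    let φ := CommRingCat.ofHom (fromZeroRingHom 𝒜 (Submonoid.powers (1 : A)))
    refine congrArg g.appTop (congrArg (fun z => D.topIso.inv (Proj.awayToSection 𝒜 1 z)) ?_)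
    show (Scheme.ΓSpecIso _).hom ((Spec.map φ).appTop ((Scheme.ΓSpecIso _).inv c)) = φ c
    rw [show (Spec.map φ).appTop ((Scheme.ΓSpecIso _).inv c) = (Scheme.ΓSpecIso _).inv (φ c) from
      congr($((Scheme.ΓSpecIso_inv_naturality φ).symm) c)]
    exact congr($((Scheme.ΓSpecIso _).inv_hom_id) (φ c))
  rw [e0]
  refine (ProjectiveSpectrum.Proj.awayToSection_apply 𝒜 1 (fromZeroRingHom 𝒜 _ c) ⟨y.1, hT y.2⟩).trans ?_
  show IsLocalization.map _ _ _ (Localization.mk ((c : A)) 1) = _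
  rw [Localization.mk_one_eq_algebraMap, IsLocalization.map_eq]
  rfl

end

variable {S P : Scheme.{u}} {𝒮 : RelProj.QCGrAlg S} {p : P ⟶ S}
  {chart : ∀ (U : S.Opens) (hU : IsAffineOpen U), (((p ⁻¹ᵁ U : P.Opens) : Scheme.{u}) ≅ Proj (𝒮.deg U hU))}

/-- a function on the base reads as `str r / 1` in a chart -/
theorem val_emb_app_app (hP : RelProj.IsRelProj 𝒮 p chart) (U : S.Opens) (hU : IsAffineOpen U) (r : Γ(S, U))
    (y : (RelProj.emb p chart U hU ⁻¹ᵁ (p ⁻¹ᵁ U) : (Proj (𝒮.deg U hU)).Opens)) :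
    ((show GrTwist.O (op (RelProj.emb p chart U hU ⁻¹ᵁ (p ⁻¹ᵁ U))) from
        (RelProj.emb p chart U hU).app (p ⁻¹ᵁ U) (p.app U r)).1 y).val =
      algebraMap (𝒮.presheaf.obj (op U)) (GrTwist.Loc (𝒮.deg U hU) y.1) ((𝒮.str.app (op U)).hom r) := by
  let V : (Proj (𝒮.deg U hU)).Opens := RelProj.emb p chart U hU ⁻¹ᵁ (p ⁻¹ᵁ U)
  let a : Proj (𝒮.deg U hU) ⟶ Spec Γ(S, U) :=
    Proj.toSpecZero (𝒮.deg U hU) ≫ Spec.map (𝒮.strZero U hU)
  have hcomp : RelProj.emb p chart U hU ≫ p = a ≫ hU.fromSpec := by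
    rw [RelConeLib.emb_over hP]
    simp [a]
  have hle : V ≤ (a ≫ hU.fromSpec) ⁻¹ᵁ U := by
    rw [← hcomp]
    exact le_rfl
  have h1 : (RelProj.emb p chart U hU).app (p ⁻¹ᵁ U) (p.app U r) =
      (RelProj.emb p chart U hU ≫ p).app U r := rfl
  have h2 : (RelProj.emb p chart U hU ≫ p).app U = (a ≫ hU.fromSpec).appLE U V hle := by
    rw [← Scheme.Hom.appLE_eq_app]
    simp only [hcomp]
    rfl
  have h3 := Scheme.Hom.appLE_comp_appLE a hU.fromSpec U ⊤ V hU.fromSpec_preimage_self.ge le_top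
  have h4 : hU.fromSpec.appLE U ⊤ hU.fromSpec_preimage_self.ge = (Scheme.ΓSpecIso Γ(S, U)).inv := by
    rw [Scheme.Hom.appLE, hU.fromSpec_app_self, Category.assoc, ← Functor.map_comp]
    exact (congrArg _ (CategoryTheory.Functor.map_id _ _)).trans (Category.comp_id _)
  rw [h1, h2, ← h3, h4, Scheme.Hom.appLE]
  show ((show GrTwist.O (op V) from
    (Proj (𝒮.deg U hU)).presheaf.map (homOfLE le_top).op (a.appTop ((Scheme.ΓSpecIso Γ(S, U)).inv r))).1 y).val = _
  refine Eq.trans ?_ (val_toSpecZero_appTop (𝒮.deg U hU) ((𝒮.strZero U hU).hom r) ⟨y.1, trivial⟩)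
  show ((show GrTwist.O (op (⊤ : (Proj (𝒮.deg U hU)).Opens)) from
    (Proj.toSpecZero (𝒮.deg U hU)).appTop ((Spec.map (𝒮.strZero U hU)).appTop ((Scheme.ΓSpecIso Γ(S, U)).inv r))).1
      ⟨y.1, trivial⟩).val = _
  rw [show (Spec.map (𝒮.strZero U hU)).appTop ((Scheme.ΓSpecIso Γ(S, U)).inv r) =
    (Scheme.ΓSpecIso _).inv ((𝒮.strZero U hU).hom r) from congr($((Scheme.ΓSpecIso_inv_naturality _).symm) r)]
  rfl

section canonical

variable {E : S.Modules} {d : ℕ} {L : P.Modules}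
  {lam : ∀ (U : S.Opens) (hU : IsAffineOpen U),
    L ⟶ (Scheme.Modules.pushforward (RelProj.emb p chart U hU)).obj (GrTwist.twist (𝒮.deg U hU) (d : ℤ))}

/-- the values of a map to the algebra -/
abbrev jVal (j : E ⟶ 𝒮.toModule) (U : S.Opens) (e : Γ(E, U)) : 𝒮.presheaf.obj (op U) := (j.app U) e

theorem jVal_res (j : E ⟶ 𝒮.toModule) {U V : S.Opens} (h : V ≤ U) (e : Γ(E, U)) :
    jVal j V (E.presheaf.map (homOfLE h).op e) = 𝒮.presheaf.map (homOfLE h).op (jVal j U e) :=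
  congr($(j.mapPresheaf.naturality (homOfLE h).op) e)

theorem jVal_smul (j : E ⟶ 𝒮.toModule) (U : S.Opens) (r : Γ(S, U)) (e : Γ(E, U)) :
    jVal j U (r • e) = (𝒮.str.app (op U)).hom r * jVal j U e :=
  (j.app_smul r e).trans (RelSpec.QCAlg.str_smul_def 𝒮.toQCAlg (op U) r (j.app U e))

theorem exists_canonicalMap (hP : RelProj.IsRelProj 𝒮 p chart)
    (hL : RelProj.IsRelTwist 𝒮 p chart (d : ℤ) L lam) (j : E ⟶ 𝒮.toModule)
    (hj : ∀ (U : S.Opens) (hU : IsAffineOpen U) (x : Γ(E, U)), jVal j U x ∈ 𝒮.deg U hU d) :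
    ∃ φ : E ⟶ (Scheme.Modules.pushforward p).obj L,
      ∀ (U : S.Opens) (hU : IsAffineOpen U) (e : Γ(E, U))
        (y : (RelProj.emb p chart U hU ⁻¹ᵁ (p ⁻¹ᵁ U) : (Proj (𝒮.deg U hU)).Opens)),
        GrModLib6.cval lam ⟨U, hU⟩ (show Γ(L, p ⁻¹ᵁ U) from φ.app U e) y =
          algebraMap (𝒮.presheaf.obj (op U)) (GrTwist.Loc (𝒮.deg U hU) y.1) (jVal j U e) := by
  have hex : ∀ (U : S.AffineZariskiSite) (e : Γ(E, U.1)), ∃ s : Γ(L, p ⁻¹ᵁ U.1),
      ∀ y, GrModLib6.cval lam ⟨U.1, U.2⟩ s y =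
        algebraMap (𝒮.presheaf.obj (op U.1)) (GrTwist.Loc (𝒮.deg U.1 U.2) y.1) (jVal j U.1 e) := by
    intro U e
    obtain ⟨s, hs⟩ := (hL.bijective U.1 U.2 (p ⁻¹ᵁ U.1) le_rfl).2
      (AmpleLib.res (GrTwist.twist (𝒮.deg U.1 U.2) (d : ℤ))
        (le_top : RelProj.emb p chart U.1 U.2 ⁻¹ᵁ (p ⁻¹ᵁ U.1) ≤ ⊤)
        (GrTwist.globalOf (𝒮.deg U.1 U.2) ⟨_, hj U.1 U.2 e⟩))
    refine ⟨s, fun y => ?_⟩
    show GrTwistLib.val ((lam U.1 U.2).app (p ⁻¹ᵁ U.1) s) y = _
    rw [hs]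
    exact Localization.mk_one_eq_algebraMap _
  choose sec hsec using hex
  have hext : ∀ (U : S.AffineZariskiSite) (a b : Γ(L, p ⁻¹ᵁ U.1)),
      (∀ y, GrModLib6.cval lam ⟨U.1, U.2⟩ a y = GrModLib6.cval lam ⟨U.1, U.2⟩ b y) → a = b :=
    fun U a b h => (hL.bijective U.1 U.2 (p ⁻¹ᵁ U.1) le_rfl).1 (GrTwistLib.sec_ext h)
  have hadd : ∀ (U : S.AffineZariskiSite) (a b : Γ(E, U.1)), sec U (a + b) = sec U a + sec U b := by
    intro U a b
    refine hext U _ _ fun y => ?_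
    rw [hsec]
    show _ = GrTwistLib.val ((lam U.1 U.2).app (p ⁻¹ᵁ U.1) (sec U a + sec U b)) y
    rw [map_add]
    show _ = GrModLib6.cval lam ⟨U.1, U.2⟩ (sec U a) y + GrModLib6.cval lam ⟨U.1, U.2⟩ (sec U b) y
    rw [hsec, hsec, ← map_add]
    exact congrArg _ (map_add (j.app U.1).hom a b)
  have hnat : ∀ (U : S.Opens) (hU : IsAffineOpen U) (r : Γ(S, U)) (e : Γ(E, U)),
      sec ⟨S.basicOpen r, hU.basicOpen r⟩ (E.presheaf.map (homOfLE (S.basicOpen_le r)).op e) =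
        L.presheaf.map (homOfLE (p.preimage_mono (S.basicOpen_le r))).op (sec ⟨U, hU⟩ e) := by
    intro U hU r e
    refine hext ⟨S.basicOpen r, hU.basicOpen r⟩ _ _ fun y => ?_
    have hy : RelProj.emb p chart (S.basicOpen r) (hU.basicOpen r) y.1 =
        RelProj.emb p chart U hU (Proj.map (𝒮.res hU (hU.basicOpen r) (S.basicOpen_le r))
          (𝒮.irrelevant_le_map U hU r) y.1) := by
      rw [← Scheme.Hom.comp_apply, RelProj.map_res_emb hP U hU r]
    have hy' : RelProj.emb p chart U hU (ProjectiveSpectrum.comap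
        (𝒮.res hU (hU.basicOpen r) (S.basicOpen_le r)) (𝒮.irrelevant_le_map U hU r) y.1) ∈
          p ⁻¹ᵁ S.basicOpen r := hy ▸ y.2
    refine Eq.trans ?_ (hL.compat U hU r (p ⁻¹ᵁ S.basicOpen r)
      (L.presheaf.map (homOfLE (p.preimage_mono (S.basicOpen_le r))).op (sec ⟨U, hU⟩ e)) y.1 y.2 hy').symm
    rw [hsec]
    show _ = GrTwist.locMap _ _ _ (GrModLib6.cval lam ⟨U, hU⟩
      (AmpleLib.res L (p.preimage_mono (S.basicOpen_le r)) (sec ⟨U, hU⟩ e)) ⟨_, hy'⟩)
    rw [GrModLib6.cval_res]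
    refine Eq.trans ?_ (congrArg _ (hsec ⟨U, hU⟩ e _)).symm
    rw [← Localization.mk_one_eq_algebraMap, ← Localization.mk_one_eq_algebraMap, GrTwist.locMap_mk]
    refine congrArg₂ Localization.mk (jVal_res j (S.basicOpen_le r) e) (Subtype.ext ?_)
    exact (map_one (𝒮.res hU (hU.basicOpen r) (S.basicOpen_le r))).symm
  let α : (toOpensFunctor S).op ⋙ E.presheaf ⟶
      (toOpensFunctor S).op ⋙ ((Scheme.Modules.pushforward p).obj L).presheaf :=
    { app := fun U => AddCommGrpCat.ofHom (AddMonoidHom.mk' (sec U.unop) (hadd U.unop))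
      naturality := fun U V i => by
        obtain ⟨U⟩ := U
        obtain ⟨V⟩ := V
        obtain ⟨U, hU⟩ := U
        obtain ⟨V, hV⟩ := V
        obtain ⟨r, hr⟩ := id i.unop.le
        have hr' : S.basicOpen r = V := hr
        subst hr'
        ext e
        exact hnat U hU r e }
  let Φ := Functor.IsCoverDense.restrictHomEquivHom (G := toOpensFunctor S) (K := Opens.grothendieckTopology S)
    (ℱ := E.presheaf) (ℱ' := (⟨((Scheme.Modules.pushforward p).obj L).presheaf,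
      ((Scheme.Modules.pushforward p).obj L).isSheaf⟩ : TopCat.Sheaf AddCommGrpCat.{u} S.carrier))
  let β : E.presheaf ⟶ ((Scheme.Modules.pushforward p).obj L).presheaf := Φ α
  have hβ : ∀ (U : S.AffineZariskiSite) (e : Γ(E, U.1)), β.app (op U.1) e = sec U e := fun U e =>
    congr($(NatTrans.congr_app (Φ.symm_apply_apply α) (op U)) e)
  have hsmul : ∀ (W : S.Opens) (r : Γ(S, W)) (m : Γ(E, W)),
      β.app (op W) (r • m) =
        r • (show Γ((Scheme.Modules.pushforward p).obj L, W) from β.app (op W) m) := by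
    intro W r m
    refine TopCat.Presheaf.section_ext ⟨((Scheme.Modules.pushforward p).obj L).presheaf,
      ((Scheme.Modules.pushforward p).obj L).isSheaf⟩ _ _ _ fun x hx => ?_
    obtain ⟨V, hV, hxV, hle⟩ := exists_isAffineOpen_mem_and_subset (X := S) (x := x) (U := W) hx
    have hVW : V ≤ W := hle
    let R := ((Scheme.Modules.pushforward p).obj L).presheaf.map (homOfLE hVW).op
    suffices hR : R (β.app (op W) (r • m)) =
        R (r • (show Γ((Scheme.Modules.pushforward p).obj L, W) from β.app (op W) m)) by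
      have h := congrArg (((Scheme.Modules.pushforward p).obj L).presheaf.germ V x hxV) hR
      dsimp only [R] at h
      erw [TopCat.Presheaf.germ_res_apply, TopCat.Presheaf.germ_res_apply] at h
      exact h
    have hn : ∀ z : Γ(E, W), R (β.app (op W) z) = sec ⟨V, hV⟩ (E.presheaf.map (homOfLE hVW).op z) := fun z =>
      (congr($(β.naturality (homOfLE hVW).op) z)).symm.trans (hβ ⟨V, hV⟩ _)
    rw [hn, QCohLib.map_smul']
    refine Eq.trans ?_ (QCohLib.map_smul' _ (homOfLE hVW) r _).symm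
    rw [show R (show Γ((Scheme.Modules.pushforward p).obj L, W) from β.app (op W) m) = _ from hn m]
    generalize S.presheaf.map (homOfLE hVW).op r = r'
    generalize E.presheaf.map (homOfLE hVW).op m = m'
    refine hext ⟨V, hV⟩ _ _ fun y => ?_
    show _ = GrModLib6.cval lam ⟨V, hV⟩ (p.app V r' • sec ⟨V, hV⟩ m') y
    rw [hsec, GrModLib6.cval_smul]
    refine Eq.trans ?_ (congrArg₂ (· * ·) (val_emb_app_app hP V hV r' y).symm (hsec ⟨V, hV⟩ m' y).symm)
    rw [← map_mul]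
    exact congrArg _ (jVal_smul j V r' m')
  refine ⟨⟨PresheafOfModules.homMk β fun W r m => hsmul W.unop r m⟩, fun U hU e y => ?_⟩
  have h := hβ ⟨U, hU⟩ e
  show GrModLib6.cval lam ⟨U, hU⟩ (β.app (op U) e) y = _
  rw [h]
  exact hsec ⟨U, hU⟩ e y

end canonical

end EGA2SymLib

end
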