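import Mathlib
import Groth.Agent.EGA2SymLib.CanMap
import Groth.Agent.EGA2SymLib.SymGrExists
import Groth.Agent.SymGenLib.Basic
import Groth.Agent.GrTwistLib.Ample
import Groth.Agent.GrModLib6.RelPow
import Groth.Agent.MiscFlat6.RelProjExist
import Groth.Agent.CohCmpLib.RankOne
import Groth.Agent.CohCmpLib.LineBundle
import Groth.Agent.CohCmpLib.TrivFibre
import Groth.Agent.S5732
import Groth.Agent.S12143

/-!
# An invertible module is very ample for the identity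
-/

set_option autoImplicit false
universe u

open CategoryTheory CategoryTheory.Limits AlgebraicGeometry TopologicalSpace Opposite
open scoped HomogeneousIdeal

noncomputable section

namespace EGA2SymLib

variable {S P : Scheme.{u}} {𝒮 : RelProj.QCGrAlg S} {p : P ⟶ S}
  {chart : ∀ (U : S.Opens) (hU : IsAffineOpen U), (((p ⁻¹ᵁ U : P.Opens) : Scheme.{u}) ≅ Proj (𝒮.deg U hU))}

theorem isInvertible_of_isRelTwist (hgen : 𝒮.IsGenDegOne) {m : ℤ} {L : P.Modules}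
    {lam : ∀ (U : S.Opens) (hU : IsAffineOpen U),
      L ⟶ (Scheme.Modules.pushforward (RelProj.emb p chart U hU)).obj (GrTwist.twist (𝒮.deg U hU) m)}
    (hL : RelProj.IsRelTwist 𝒮 p chart m L lam) : PicF.IsInvertible L := by
  have key : ∀ x : P, ∃ (D : P.Opens) (σ : Γ(L, D)), x ∈ D ∧ AmpleLib.GenOn L σ := by
    intro x
    obtain ⟨U, hU, hxU⟩ := GrModLib6.exists_chart_open (p := p) x
    obtain ⟨y, hy⟩ := (MiscFlat6.emb_opensRange (chart := chart) U hU).ge hxU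
    obtain ⟨a, ha, hya⟩ := GrTwistLib.exists_basicOpen_of_genDegOne _ (hgen U hU) y
    let em := RelProj.emb p chart U hU
    let g : GrTwistLib.Unit' (𝒮.deg U hU) (m * ((1 : ℕ) : ℤ)) (Proj.basicOpen (𝒮.deg U hU) a) :=
      GrTwistLib.Unit'.ofPow ha SetLike.GradedOne.one_mem (zero_add 1).symm (fun z => z.2)
        (fun z h => z.1.isPrime.ne_top ((Ideal.eq_top_iff_one _).mpr h)) m
    obtain ⟨l, hl⟩ := GrModLib6.isRelTwist_congr (show m = m * ((1 : ℕ) : ℤ) by simp) hL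
    have hD : em ''ᵁ Proj.basicOpen (𝒮.deg U hU) a ≤ p ⁻¹ᵁ U :=
      (em.image_le_opensRange _).trans (MiscFlat6.emb_opensRange (chart := chart) U hU).le
    obtain ⟨σ, -, hσ⟩ := GrModLib6.exists_gen_chart hl ⟨U, hU⟩ hD (em.preimage_image_eq _).le g
    exact ⟨_, σ, ⟨y, hya, hy⟩, hσ⟩
  choose D σ hx hσ using key
  exact GrTwistLib.isInvertible_of_genOn D (fun x => ⟨x, hx x⟩) σ hσ

theorem exists_canonicalMap_one {E : S.Modules} (hP : RelProj.IsRelProj 𝒮 p chart) {O1 : P.Modules}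
    {lam : ∀ (U : S.Opens) (hU : IsAffineOpen U),
      O1 ⟶ (Scheme.Modules.pushforward (RelProj.emb p chart U hU)).obj (GrTwist.twist (𝒮.deg U hU) 1)}
    (hO1 : RelProj.IsRelTwist 𝒮 p chart 1 O1 lam) (j : E ⟶ 𝒮.toModule)
    (hj : ∀ (U : S.Opens) (hU : IsAffineOpen U) (x : Γ(E, U)), (j.app U) x ∈ 𝒮.deg U hU 1) :
    ∃ φ : E ⟶ (Scheme.Modules.pushforward p).obj O1,
      ∀ (U : S.Opens) (hU : IsAffineOpen U) (e : Γ(E, U))
        (y : ↥(RelProj.emb p chart U hU ⁻¹ᵁ (p ⁻¹ᵁ U))),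
        GrTwist.val (V := RelProj.emb p chart U hU ⁻¹ᵁ (p ⁻¹ᵁ U))
            ((lam U hU).app (p ⁻¹ᵁ U) ((φ.app U) e)) y =
          algebraMap (𝒮.presheaf.obj (op U)) (GrTwist.Loc (𝒮.deg U hU) y.1)
            ((j.app U) e : 𝒮.presheaf.obj (op U)) := by
  have key : ∀ (d : ℕ) (n : ℤ), (d : ℤ) = n →
      ∀ lam : ∀ (U : S.Opens) (hU : IsAffineOpen U),
        O1 ⟶ (Scheme.Modules.pushforward (RelProj.emb p chart U hU)).obj (GrTwist.twist (𝒮.deg U hU) n),
      RelProj.IsRelTwist 𝒮 p chart n O1 lam →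
      (∀ (U : S.Opens) (hU : IsAffineOpen U) (x : Γ(E, U)), jVal j U x ∈ 𝒮.deg U hU d) →
      ∃ φ : E ⟶ (Scheme.Modules.pushforward p).obj O1,
      ∀ (U : S.Opens) (hU : IsAffineOpen U) (e : Γ(E, U))
        (y : ↥(RelProj.emb p chart U hU ⁻¹ᵁ (p ⁻¹ᵁ U))),
        GrTwist.val (V := RelProj.emb p chart U hU ⁻¹ᵁ (p ⁻¹ᵁ U))
            ((lam U hU).app (p ⁻¹ᵁ U) ((φ.app U) e)) y =
          algebraMap (𝒮.presheaf.obj (op U)) (GrTwist.Loc (𝒮.deg U hU) y.1) (jVal j U e) := by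
    rintro d n rfl lam hlam hd
    exact exists_canonicalMap hP hlam j hd
  exact key 1 1 Nat.cast_one lam hO1 hj

theorem isRelVeryAmple_id (Y : Scheme.{u}) (L : Y.Modules) (hL : PicF.IsInvertible L) :
    RelProj.IsRelVeryAmple (𝟙 Y) L := by
  have hr := (CohCmpLib.invertible_iff_rank_one L).1 hL
  haveI hLq : Coh.IsQCoh L :=
    (LocSuppLib.isCoh_of_isFinLocFree fun x => let ⟨U, h⟩ := hr x; ⟨U, 1, h⟩).1
  obtain ⟨𝒮, j, hj⟩ := exists_isGrSymAlg L
  obtain ⟨P, p, chart, hP⟩ := MiscFlat6.exists_relProj 𝒮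
  obtain ⟨O1, lam, hO1⟩ := GrModLib6.exists_isRelTwist hP 1
  haveI := Groth.Agent.S12143.result L hL hLq 𝒮 j hj p chart hP
  obtain ⟨φ, hφ⟩ := exists_canonicalMap_one hP hO1 j hj.2
  haveI := Groth.Agent.S5732.result L hLq 𝒮 j hj p chart hP O1 lam hO1 φ hφ
  haveI := CohCmpLib.isIso_of_epi_rank_one (CohCmpLib.rank_one_pullback p hr)
    ((CohCmpLib.invertible_iff_rank_one O1).1 (isInvertible_of_isRelTwist (SymGenLib.isGenDegOne hj) hO1))
    (((Scheme.Modules.pullbackPushforwardAdjunction p).homEquiv L O1).symm φ)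
  let a := asIso (((Scheme.Modules.pullbackPushforwardAdjunction p).homEquiv L O1).symm φ)
  refine ⟨L, hLq, 𝒮, j, hj, P, p, chart, hP, O1, lam, hO1, inv p, inferInstance, IsIso.inv_hom_id p,
    ⟨((Scheme.Modules.pullbackId Y).app L).symm ≪≫
      (Scheme.Modules.pullbackCongr (IsIso.inv_hom_id p).symm).app L ≪≫
      ((Scheme.Modules.pullbackComp (inv p) p).app L).symm ≪≫ (Scheme.Modules.pullback (inv p)).mapIso a⟩⟩

end EGA2SymLib

end
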