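import Mathlib
import Groth.Agent.EGA2SymLib.SymBC
import Groth.Agent.EGA2SymLib.CanId
import Groth.Agent.EGA2SymLib.TwistQ
import Groth.Agent.EGA2SymLib.BaseChange
import Groth.Agent.RelConeLib.QMap
import Groth.Agent.CycPBLib.UnivCharts
import Groth.Agent.ProjBunLib.Functor

/-!
# Morphisms to a projective bundle
-/

set_option autoImplicit false
universe u

open CategoryTheory CategoryTheory.Limits AlgebraicGeometry TopologicalSpace Opposite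
open KFlatLib (pb puSec puSecLE)
open scoped HomogeneousIdeal

noncomputable section

namespace EGA2SymLib

variable {Y X P : Scheme.{u}} {E : Y.Modules} [hE : Coh.IsQCoh E] {g : X ⟶ Y} {L : X.Modules}
  (s : pb g E ⟶ L)

/-- the sections of the quotient given by sections of the module -/
abbrev qVal (U : Y.Opens) (m : Γ(E, U)) : Γ(L, g ⁻¹ᵁ U) := s.app (g ⁻¹ᵁ U) (puSec g m)

theorem res_qVal {U : Y.Opens} {U' : X.Opens} (hle : U' ≤ g ⁻¹ᵁ U) (m : Γ(E, U)) :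
    L.presheaf.map (homOfLE hle).op (qVal s U m) = s.app U' (puSecLE g E hle m) :=
  (QCohLib.app_map s (homOfLE hle) (puSec g m)).symm

include hE in
/-- over an affine pair the values span the quotient -/
theorem span_qVal [Coh.IsQCoh L] [Epi s] {U : Y.Opens} (hU : IsAffineOpen U) {U' : X.Opens}
    (hU' : IsAffineOpen U') (hle : U' ≤ g ⁻¹ᵁ U) :
    Submodule.span Γ(X, U') (Set.range fun m : Γ(E, U) => L.presheaf.map (homOfLE hle).op (qVal s U m)) = ⊤ := by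
  haveI := KFlatLib.isQCoh_pullback g E
  letI algR : Algebra Γ(Y, U) Γ(X, U') := (g.appLE U U' hle).hom.toAlgebra
  letI modN : Module Γ(Y, U) Γ(pb g E, U') := Module.compHom _ (g.appLE U U' hle).hom
  haveI : IsScalarTower Γ(Y, U) Γ(X, U') Γ(pb g E, U') := IsScalarTower.of_algebraMap_smul fun _ _ => rfl
  let ψ : Γ(E, U) →ₗ[Γ(Y, U)] Γ(pb g E, U') :=
    { toFun := fun m => puSecLE g E hle m
      map_add' := fun a b => map_add _ a b
      map_smul' := fun r m => KFlatLib.puSecLE_smul g E hle r m }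
  have hψ : IsBaseChange Γ(X, U') ψ := KFlatLib.isBaseChange_puSec g E hU hU' hle (fun _ => rfl) ψ fun _ => rfl
  refine eq_top_iff.mpr fun n hn => ?_
  clear hn
  obtain ⟨x, rfl⟩ := FormalLib.app_surjective_of_epi _ s hU' n
  induction x using hψ.inductionOn with
  | zero => rw [map_zero]; exact zero_mem _
  | tmul m => exact Submodule.subset_span ⟨m, res_qVal s hle m⟩
  | smul a x hx => rw [QCohLib.app_smul]; exact Submodule.smul_mem _ a hx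
  | add a b ha hb => rw [map_add]; exact add_mem ha hb

variable {𝒮 : RelProj.QCGrAlg Y} {j : E ⟶ 𝒮.toModule} (hj : RelProj.IsGrSymAlg E 𝒮 j)
  {𝒮L : RelProj.QCGrAlg X} {jL : L ⟶ 𝒮L.toModule} (hjL : RelProj.IsGrSymAlg L 𝒮L jL)

include hE hj hjL in
theorem exists_quotient_qgrhom :
    ∃ u : RelProj.QGrHom g 𝒮 𝒮L, ∀ (U : Y.Opens) (hU : IsAffineOpen U) (U' : X.Opens) (hU' : IsAffineOpen U')
      (hle : U' ≤ g ⁻¹ᵁ U) (m : Γ(E, U)),
        u.gradedAt U hU U' hU' hle (jS j U m) = jS jL U' (L.presheaf.map (homOfLE hle).op (qVal s U m)) := by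
  have e : ∀ {U : Y.Opens} {U' : X.Opens} (hle : U' ≤ g ⁻¹ᵁ U) (m : Γ(E, U)),
      (𝒮L.presheaf.map (homOfLE hle).op).hom (pVal g 𝒮L.toQCAlg (bcVal g 𝒮L.toQCAlg (s ≫ jL)) U m) =
        jS jL U' (L.presheaf.map (homOfLE hle).op (qVal s U m)) := fun hle m => by
    rw [bcVal_res, res_qVal]
    rfl
  obtain ⟨u, hu⟩ := exists_qgrhom g hj (bcVal g 𝒮L.toQCAlg (s ≫ jL)) fun U hU U' hU' hle m => by
    rw [e]
    exact hjL.2 U' hU' _
  refine ⟨u, fun U hU U' hU' hle m => ?_⟩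
  show (𝒮L.presheaf.map (homOfLE hle).op).hom ((u.app U).hom (jS j U m)) = _
  rw [hu U hU m]
  exact e hle m

variable {u : RelProj.QGrHom g 𝒮 𝒮L}
  (hu : ∀ (U : Y.Opens) (hU : IsAffineOpen U) (U' : X.Opens) (hU' : IsAffineOpen U') (hle : U' ≤ g ⁻¹ᵁ U)
    (m : Γ(E, U)),
      u.gradedAt U hU U' hU' hle (jS j U m) = jS jL U' (L.presheaf.map (homOfLE hle).op (qVal s U m)))

include hE hj hjL hu in
theorem irrelevant_le_of_epi [Coh.IsQCoh L] [Epi s] (c : APair g) :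
    (𝒮L.deg c.i.1 c.i.2)₊ ≤ ((𝒮.deg c.U.1 c.U.2)₊).map (c.hom u) := by
  classical
  obtain ⟨⟨U', hU'⟩, ⟨U, hU⟩, hle⟩ := c
  let I : Ideal (𝒮L.presheaf.obj (op U')) :=
    Ideal.map (u.gradedAt U hU U' hU' hle) (HomogeneousIdeal.irrelevant (𝒮.deg U hU)).toIdeal
  refine (HomogeneousIdeal.irrelevant_le _).mpr fun n hn b hb => ?_
  show b ∈ I
  obtain ⟨r, hr⟩ := exists_sub_mem_span hjL U' hU' b
  have hgen : Ideal.span (Set.range (jS jL U')) ≤ I := by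
    refine Ideal.span_le.mpr ?_
    rintro _ ⟨l, rfl⟩
    have hl : l ∈ Submodule.span Γ(X, U')
        (Set.range fun m : Γ(E, U) => L.presheaf.map (homOfLE hle).op (qVal s U m)) := by
      rw [span_qVal s hU hU' hle]; trivial
    induction hl using Submodule.span_induction with
    | mem z hz =>
      obtain ⟨m, rfl⟩ := hz
      rw [← hu U hU U' hU' hle m]
      exact Ideal.mem_map_of_mem _ (HomogeneousIdeal.mem_irrelevant_of_mem _ one_pos (hj.2 U hU m))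
    | zero =>
      show jS jL U' 0 ∈ I
      rw [show jS jL U' 0 = 0 from map_zero (jL.app U').hom]
      exact zero_mem _
    | add a b _ _ ha hb =>
      show jS jL U' (a + b) ∈ I
      rw [show jS jL U' (a + b) = jS jL U' a + jS jL U' b from map_add (jL.app U').hom a b]
      exact add_mem ha hb
    | smul a z _ hz =>
      show jS jL U' (a • z) ∈ I
      rw [show jS jL U' (a • z) = (𝒮L.str.app (op U')).hom a * jS jL U' z from jVal_smul jL U' a z]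
      exact I.mul_mem_left _ hz
  have hr0 : (𝒮L.str.app (op U')).hom r = 0 := by
    have h0 : Ideal.span (Set.range (jS jL U')) ≤ (𝒮L.deg U' hU')₊.toIdeal := by
      rw [Ideal.span_le]
      rintro _ ⟨e, rfl⟩
      exact HomogeneousIdeal.mem_irrelevant_of_mem _ one_pos (hjL.2 U' hU' e)
    have h := (𝒮L.deg U' hU')₊.toIdeal.sub_mem (HomogeneousIdeal.mem_irrelevant_of_mem (𝒮L.deg U' hU') hn hb) (h0 hr)
    rw [sub_sub_cancel] at h
    have h' : (DirectSum.decompose (𝒮L.deg U' hU') ((𝒮L.str.app (op U')).hom r) 0 :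
      𝒮L.presheaf.obj (op U')) = 0 := h
    rwa [DirectSum.decompose_of_mem_same _ (𝒮L.str_mem U' hU' r)] at h'
  rw [hr0, sub_zero] at hr
  exact hgen hr

omit hE in
/-- an everywhere defined morphism of projective spectra -/
theorem exists_isProjQMap {Y' P' : Scheme.{u}} {ψ : Y' ⟶ Y} {𝒮' : RelProj.QCGrAlg Y'}
    (v : RelProj.QGrHom ψ 𝒮 𝒮')
    (hirr : ∀ c : APair ψ, (𝒮'.deg c.i.1 c.i.2)₊ ≤ ((𝒮.deg c.U.1 c.U.2)₊).map (c.hom v)) {p : P ⟶ Y}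
    {chart : ∀ (U : Y.Opens) (hU : IsAffineOpen U), (((p ⁻¹ᵁ U : P.Opens) : Scheme.{u}) ≅ Proj (𝒮.deg U hU))}
    (hP : RelProj.IsRelProj 𝒮 p chart) {p' : P' ⟶ Y'}
    {chart' : ∀ (U : Y'.Opens) (hU : IsAffineOpen U), (((p' ⁻¹ᵁ U : P'.Opens) : Scheme.{u}) ≅ Proj (𝒮'.deg U hU))}
    (hP' : RelProj.IsRelProj 𝒮' p' chart') :
    ∃ h : P' ⟶ P, RelProj.IsProjQMap v p chart p' chart' h ∧ h ≫ p = p' ≫ ψ := by
  have htop : RelProj.domQ v p' chart' = ⊤ := by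
    refine eq_top_iff.mpr fun x _ => ?_
    obtain ⟨c, hc⟩ := RelConeLib.exists_pair (g := ψ) (p' x)
    obtain ⟨y, rfl⟩ := (MiscFlat6.emb_opensRange (chart := chart') c.U' c.hU').ge hc
    have hy : y ∈ RelCone.domOpen (c.hom v) := by
      rw [RelCone.mem_domOpen]
      by_contra hne
      push Not at hne
      refine y.not_irrelevant_le ((hirr ⟨⟨c.U', c.hU'⟩, ⟨c.U, c.hU⟩, c.le⟩).trans ?_)
      show Ideal.map _ _ ≤ _
      exact Ideal.map_le_iff_le_comap.mpr fun f hf => hne f hf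
    exact (RelConeLib.emb_preimage_domQ v hP' c).ge hy
  obtain ⟨w, hw, -⟩ := RelConeLib.existsUnique_isProjQMapOn v hP hP' (chart := chart)
  haveI : IsIso (RelProj.domQ v p' chart').ι := by
    rw [htop]
    exact (Scheme.topIso P').isIso_hom
  refine ⟨inv (RelProj.domQ v p' chart').ι ≫ w, ⟨htop, fun U hU U' hU' hle d hd f hf => ?_⟩, ?_⟩
  · refine Eq.trans ?_ (hw U hU U' hU' hle d hd f hf
      (RelProj.range_awayEmb_subset_domQ v p' chart' U hU U' hU' hle hd f hf))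
    rw [← Category.assoc]
    refine congrArg (· ≫ w) ?_
    rw [IsIso.comp_inv_eq, IsOpenImmersion.lift_fac]
  · rw [Category.assoc, RelConeLib.qMap_over v hP hP' hw, IsIso.inv_hom_id_assoc]

variable {p : P ⟶ Y}
  {chart : ∀ (U : Y.Opens) (hU : IsAffineOpen U), (((p ⁻¹ᵁ U : P.Opens) : Scheme.{u}) ≅ Proj (𝒮.deg U hU))}
  (hP : RelProj.IsRelProj 𝒮 p chart) {O1 : P.Modules}

/-- a morphism into the bundle induces the given quotient -/
def Induces (φ : E ⟶ (Scheme.Modules.pushforward p).obj O1) (r : X ⟶ P) (hr : r ≫ p = g) : Prop :=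
  ∃ τ : (Scheme.Modules.pullback r).obj O1 ≅ L,
    ∀ (U : Y.Opens) (m : Γ(E, U)),
      L.presheaf.map (eqToHom (by rw [← hr]; rfl)).op
        (τ.hom.app (r ⁻¹ᵁ (p ⁻¹ᵁ U)) (puSec r (show Γ(O1, p ⁻¹ᵁ U) from φ.app U m))) = qVal s U m

include hP in
/-- the comparison of twists carries canonical sections to canonical sections -/
theorem theta_canonical {PL : Scheme.{u}} {pL : PL ⟶ X}
    {chartL : ∀ (U : X.Opens) (hU : IsAffineOpen U), (((pL ⁻¹ᵁ U : PL.Opens) : Scheme.{u}) ≅ Proj (𝒮L.deg U hU))}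
    {OL : PL.Modules}
    {lam : ∀ (U : Y.Opens) (hU : IsAffineOpen U),
      O1 ⟶ (Scheme.Modules.pushforward (RelProj.emb p chart U hU)).obj (GrTwist.twist (𝒮.deg U hU) 1)}
    {lamL : ∀ (U : X.Opens) (hU : IsAffineOpen U),
      OL ⟶ (Scheme.Modules.pushforward (RelProj.emb pL chartL U hU)).obj (GrTwist.twist (𝒮L.deg U hU) 1)}
    (hOL : RelProj.IsRelTwist 𝒮L pL chartL 1 OL lamL)
    (hu : ∀ (U : Y.Opens) (hU : IsAffineOpen U) (U' : X.Opens) (hU' : IsAffineOpen U') (hle : U' ≤ g ⁻¹ᵁ U)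
      (m : Γ(E, U)),
        u.gradedAt U hU U' hU' hle (jS j U m) = jS jL U' (L.presheaf.map (homOfLE hle).op (qVal s U m)))
    {φ : E ⟶ (Scheme.Modules.pushforward p).obj O1}
    (hφ : ∀ (U : Y.Opens) (hU : IsAffineOpen U) (e : Γ(E, U))
      (y : ↥(RelProj.emb p chart U hU ⁻¹ᵁ (p ⁻¹ᵁ U))),
      GrTwist.val (V := RelProj.emb p chart U hU ⁻¹ᵁ (p ⁻¹ᵁ U))
          ((lam U hU).app (p ⁻¹ᵁ U) ((φ.app U) e)) y =
        algebraMap (𝒮.presheaf.obj (op U)) (GrTwist.Loc (𝒮.deg U hU) y.1)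
          ((j.app U) e : 𝒮.presheaf.obj (op U)))
    {φL : L ⟶ (Scheme.Modules.pushforward pL).obj OL}
    (hφL : ∀ (U : X.Opens) (hU : IsAffineOpen U) (e : Γ(L, U))
      (y : ↥(RelProj.emb pL chartL U hU ⁻¹ᵁ (pL ⁻¹ᵁ U))),
      GrTwist.val (V := RelProj.emb pL chartL U hU ⁻¹ᵁ (pL ⁻¹ᵁ U))
          ((lamL U hU).app (pL ⁻¹ᵁ U) ((φL.app U) e)) y =
        algebraMap (𝒮L.presheaf.obj (op U)) (GrTwist.Loc (𝒮L.deg U hU) y.1)
          ((jL.app U) e : 𝒮L.presheaf.obj (op U)))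
    {hirr : ∀ c : APair g, (𝒮L.deg c.i.1 c.i.2)₊ ≤ ((𝒮.deg c.U.1 c.U.2)₊).map (c.hom u)}
    {h : PL ⟶ P}
    (hg : ∀ c : APair g, RelProj.emb pL chartL c.i.1 c.i.2 ≫ h =
      Proj.map (c.hom u) (hirr c) ≫ RelProj.emb p chart c.U.1 c.U.2)
    {θ : O1 ⟶ (Scheme.Modules.pushforward h).obj OL}
    (hθ : ∀ c : APair g, θ ≫ (Scheme.Modules.pushforward h).map (lamL c.i.1 c.i.2) = qComap hirr hg lam c)
    {U : Y.Opens} (hU : IsAffineOpen U) (m : Γ(E, U)) (hW : h ⁻¹ᵁ (p ⁻¹ᵁ U) = pL ⁻¹ᵁ (g ⁻¹ᵁ U)) :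
    (show Γ(OL, h ⁻¹ᵁ (p ⁻¹ᵁ U)) from θ.app (p ⁻¹ᵁ U) (φ.app U m)) =
      OL.presheaf.map (eqToHom hW).op (show Γ(OL, pL ⁻¹ᵁ (g ⁻¹ᵁ U)) from φL.app (g ⁻¹ᵁ U) (qVal s U m)) := by
  refine TopCat.Presheaf.section_ext ⟨OL.presheaf, OL.isSheaf⟩ _ _ _ fun z hz => ?_
  have hz' : z ∈ pL ⁻¹ᵁ (g ⁻¹ᵁ U) := hW.le hz
  obtain ⟨V, hV, hzV, hle⟩ := exists_isAffineOpen_mem_and_subset (X := X) (x := pL z) (U := g ⁻¹ᵁ U) hz'
  have hVU : V ≤ g ⁻¹ᵁ U := hle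
  let c : APair g := ⟨⟨V, hV⟩, ⟨U, hU⟩, hVU⟩
  have hD : pL ⁻¹ᵁ V ≤ h ⁻¹ᵁ (p ⁻¹ᵁ U) := (pL.preimage_mono hVU).trans hW.ge
  suffices key : AmpleLib.res OL hD (show Γ(OL, h ⁻¹ᵁ (p ⁻¹ᵁ U)) from θ.app (p ⁻¹ᵁ U) (φ.app U m)) =
      AmpleLib.res OL hD (OL.presheaf.map (eqToHom hW).op
        (show Γ(OL, pL ⁻¹ᵁ (g ⁻¹ᵁ U)) from φL.app (g ⁻¹ᵁ U) (qVal s U m))) by
    have := congrArg (OL.presheaf.germ (pL ⁻¹ᵁ V) z hzV) key
    rwa [AmpleLib.germ_res, AmpleLib.germ_res] at this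
  refine (hOL.bijective V hV _ le_rfl).1 (GrTwistLib.sec_ext fun y => ?_)
  refine (GrModLib6.cval_res (lam := lamL) c.i hD _ y).trans ?_
  let y₀ : (RelProj.emb pL chartL V hV ⁻¹ᵁ (h ⁻¹ᵁ (p ⁻¹ᵁ U)) : (Proj (𝒮L.deg V hV)).Opens) := ⟨y.1, hD y.2⟩
  have hy : ProjectiveSpectrum.comap (c.hom u) (hirr c) y.1 ∈ RelProj.emb p chart U hU ⁻¹ᵁ (p ⁻¹ᵁ U) :=
    (preimage_qmap hirr hg c (p ⁻¹ᵁ U)).le y₀.2
  refine ((congrArg (fun χ => GrTwistLib.val (χ.app (p ⁻¹ᵁ U) (show Γ(O1, p ⁻¹ᵁ U) from φ.app U m)) y₀) (hθ c)).trans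
    (qComap_val hirr hg c (p ⁻¹ᵁ U) _ y₀ hy)).trans ?_
  refine (congrArg (GrTwist.locMap (c.hom u) (hirr c) y.1) (hφ U hU m ⟨_, hy⟩)).trans ?_
  rw [← Localization.mk_one_eq_algebraMap, GrTwist.locMap_mk]
  have e : AmpleLib.res OL hD (OL.presheaf.map (eqToHom hW).op
      (show Γ(OL, pL ⁻¹ᵁ (g ⁻¹ᵁ U)) from φL.app (g ⁻¹ᵁ U) (qVal s U m))) =
      (show Γ(OL, pL ⁻¹ᵁ V) from φL.app V (L.presheaf.map (homOfLE hVU).op (qVal s U m))) := by
    refine (QCohLib.map_map' OL (homOfLE hD) (eqToHom hW) _).trans ?_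
    exact (congr($(φL.mapPresheaf.naturality (homOfLE hVU).op) (qVal s U m))).symm
  refine Eq.trans ?_ (congrArg (fun x => GrTwistLib.val ((lamL V hV).app (pL ⁻¹ᵁ V) x) y) e).symm
  refine Eq.trans ?_ (hφL V hV _ y).symm
  rw [← Localization.mk_one_eq_algebraMap]
  exact congrArg₂ Localization.mk (hu U hU V hV hVU m) (Subtype.ext (map_one (c.hom u)))

omit hE in
theorem pullbackCongr_hom_puSec {f f' : X ⟶ Y} (e : f = f') (M : Y.Modules) {W : Y.Opens} (n : Γ(M, W)) :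
    ((Scheme.Modules.pullbackCongr e).hom.app M).app (f ⁻¹ᵁ W) (puSec f n) =
      AmpleLib.res (pb f' M) (by rw [e]) (puSec f' n) := by
  subst e
  simp only [Scheme.Modules.pullbackCongr, eqToIso_refl, Iso.refl_hom, NatTrans.id_app, AmpleLib.res_refl]
  rfl

/-- the quotient induced by a composite -/
theorem induces_trace {PL : Scheme.{u}} {pL : PL ⟶ X} {ι : X ⟶ PL} (hιp : ι ≫ pL = 𝟙 X) {h : PL ⟶ P}
    {OL : PL.Modules} {φL : L ⟶ (Scheme.Modules.pushforward pL).obj OL} (a : pb pL L ≅ OL)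
    (ha : ∀ (V : X.Opens) (n : Γ(L, V)),
      a.hom.app (pL ⁻¹ᵁ V) (puSec pL n) = (show Γ(OL, pL ⁻¹ᵁ V) from φL.app V n))
    (θ' : pb h O1 ⟶ OL) {θ : O1 ⟶ (Scheme.Modules.pushforward h).obj OL}
    (hθ' : ∀ (W : P.Opens) (x : Γ(O1, W)),
      θ'.app (h ⁻¹ᵁ W) (puSec h x) = (show Γ(OL, h ⁻¹ᵁ W) from θ.app W x))
    {φ : E ⟶ (Scheme.Modules.pushforward p).obj O1} (hr : (ι ≫ h) ≫ p = g) {U : Y.Opens} (m : Γ(E, U))
    (hW : h ⁻¹ᵁ (p ⁻¹ᵁ U) = pL ⁻¹ᵁ (g ⁻¹ᵁ U))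
    (hval : (show Γ(OL, h ⁻¹ᵁ (p ⁻¹ᵁ U)) from θ.app (p ⁻¹ᵁ U) (φ.app U m)) =
      OL.presheaf.map (eqToHom hW).op (show Γ(OL, pL ⁻¹ᵁ (g ⁻¹ᵁ U)) from φL.app (g ⁻¹ᵁ U) (qVal s U m))) :
    L.presheaf.map (eqToHom (by rw [← hr]; rfl)).op
      (((Scheme.Modules.pullbackComp ι h).inv.app O1 ≫ (Scheme.Modules.pullback ι).map (θ' ≫ a.inv) ≫
        (Scheme.Modules.pullbackComp ι pL).hom.app L ≫ (Scheme.Modules.pullbackCongr hιp).hom.app L ≫
        (Scheme.Modules.pullbackId X).hom.app L).app ((ι ≫ h) ⁻¹ᵁ (p ⁻¹ᵁ U))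
          (puSec (ι ≫ h) (show Γ(O1, p ⁻¹ᵁ U) from φ.app U m))) = qVal s U m := by
  let n := qVal s U m
  let x : Γ(O1, p ⁻¹ᵁ U) := φ.app U m
  let W : X.Opens := ι ⁻¹ᵁ (h ⁻¹ᵁ (p ⁻¹ᵁ U))
  have hle : W ≤ ι ⁻¹ᵁ (pL ⁻¹ᵁ (g ⁻¹ᵁ U)) := ι.preimage_mono hW.le
  let F1 := ((Scheme.Modules.pullbackComp ι h).inv.app O1).app W
  let F2 := ((Scheme.Modules.pullback ι).map (θ' ≫ a.inv)).app W
  let F3 := ((Scheme.Modules.pullbackComp ι pL).hom.app L).app W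
  let F4 := ((Scheme.Modules.pullbackCongr hιp).hom.app L).app W
  let F5 := ((Scheme.Modules.pullbackId X).hom.app L).app W
  have h1 : F1 (puSec (ι ≫ h) x) = puSec ι (puSec h x) := CohCmpLib.pullbackComp_inv_puSec ι h O1 x
  have h2 : (θ' ≫ a.inv).app (h ⁻¹ᵁ (p ⁻¹ᵁ U)) (puSec h x) = AmpleLib.res (pb pL L) hW.le (puSec pL n) := by
    show a.inv.app _ (θ'.app _ (puSec h x)) = _
    rw [hθ', hval, ← ha]
    refine (QCohLib.app_map a.inv (eqToHom hW) _).trans (congrArg _ ?_)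
    exact congr($(a.hom_inv_id).app (pL ⁻¹ᵁ (g ⁻¹ᵁ U)) (puSec pL n))
  have h3 : F2 (puSec ι (puSec h x)) = AmpleLib.res (pb ι (pb pL L)) hle (puSec ι (puSec pL n)) := by
    refine (KFlatLib.puSec_natural ι _ _).trans ?_
    rw [h2, TwistLib.puSec_res]
  have hle' : W ≤ (ι ≫ pL) ⁻¹ᵁ (g ⁻¹ᵁ U) := hle
  have h4 : F3 (AmpleLib.res (pb ι (pb pL L)) hle (puSec ι (puSec pL n))) =
      AmpleLib.res (pb (ι ≫ pL) L) hle' (puSec (ι ≫ pL) n) :=
    (QCohLib.app_map ((Scheme.Modules.pullbackComp ι pL).hom.app L) (homOfLE hle) _).trans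
      (congrArg (AmpleLib.res (pb (ι ≫ pL) L) hle') (CohCmpLib.pullbackComp_puSec ι pL L n))
  have hle'' : W ≤ (𝟙 X) ⁻¹ᵁ (g ⁻¹ᵁ U) := by
    refine hle'.trans ?_
    rw [hιp]
  have h5 : F4 (AmpleLib.res (pb (ι ≫ pL) L) hle' (puSec (ι ≫ pL) n)) =
      AmpleLib.res (pb (𝟙 X) L) hle'' (puSec (𝟙 X) n) :=
    ((QCohLib.app_map ((Scheme.Modules.pullbackCongr hιp).hom.app L) (homOfLE hle') _).trans
      (congrArg (AmpleLib.res (pb (𝟙 X) L) hle') (pullbackCongr_hom_puSec hιp L n))).trans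
        (AmpleLib.res_res _ _ _ _)
  have h6 : F5 (AmpleLib.res (pb (𝟙 X) L) hle'' (puSec (𝟙 X) n)) = AmpleLib.res L hle'' n :=
    (QCohLib.app_map ((Scheme.Modules.pullbackId X).hom.app L) (homOfLE hle'') _).trans
      (congrArg (AmpleLib.res L hle'') (ProjBunLib.pullbackId_puSec n))
  have key : F5 (F4 (F3 (F2 (F1 (puSec (ι ≫ h) x))))) = AmpleLib.res L hle'' n := by
    rw [h1, h3, h4, h5, h6]
  refine (congrArg (L.presheaf.map _) key).trans ?_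
  exact (QCohLib.map_map' L _ _ _).trans (congr($(L.presheaf.map_id _) n))

/-- it is enough to check affine opens -/
theorem induces_of_affine (φ : E ⟶ (Scheme.Modules.pushforward p).obj O1) {r : X ⟶ P} (hr : r ≫ p = g)
    (τ : (Scheme.Modules.pullback r).obj O1 ≅ L)
    (hval : ∀ (U : Y.Opens) (_ : IsAffineOpen U) (m : Γ(E, U)),
      L.presheaf.map (eqToHom (by rw [← hr]; rfl)).op
        (τ.hom.app (r ⁻¹ᵁ (p ⁻¹ᵁ U)) (puSec r (show Γ(O1, p ⁻¹ᵁ U) from φ.app U m))) = qVal s U m)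
    (U : Y.Opens) (m : Γ(E, U)) :
      L.presheaf.map (eqToHom (by rw [← hr]; rfl)).op
        (τ.hom.app (r ⁻¹ᵁ (p ⁻¹ᵁ U)) (puSec r (show Γ(O1, p ⁻¹ᵁ U) from φ.app U m))) = qVal s U m := by
  refine TopCat.Presheaf.section_ext ⟨L.presheaf, L.isSheaf⟩ _ _ _ fun z hz => ?_
  obtain ⟨V, hV, hzV, hle⟩ := exists_isAffineOpen_mem_and_subset (X := Y) (x := g z) (U := U) hz
  have hVU : V ≤ U := hle
  let m' := E.presheaf.map (homOfLE hVU).op m
  have e1 : AmpleLib.res L (g.preimage_mono hVU) (qVal s U m) = qVal s V m' := by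
    show L.presheaf.map _ (s.app _ (puSec g m)) = s.app _ (puSec g (AmpleLib.res E hVU m))
    rw [TwistLib.puSec_res]
    exact (QCohLib.app_map s _ _).symm
  have e2 : AmpleLib.res L (g.preimage_mono hVU) (L.presheaf.map (eqToHom (by rw [← hr]; rfl)).op
        (τ.hom.app (r ⁻¹ᵁ (p ⁻¹ᵁ U)) (puSec r (show Γ(O1, p ⁻¹ᵁ U) from φ.app U m)))) =
      L.presheaf.map (eqToHom (by rw [← hr]; rfl)).op
        (τ.hom.app (r ⁻¹ᵁ (p ⁻¹ᵁ V)) (puSec r (show Γ(O1, p ⁻¹ᵁ V) from φ.app V m'))) := by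
    have hn : (show Γ(O1, p ⁻¹ᵁ V) from φ.app V m') =
        AmpleLib.res O1 (p.preimage_mono hVU) (show Γ(O1, p ⁻¹ᵁ U) from φ.app U m) :=
      QCohLib.app_map φ (homOfLE hVU) m
    rw [hn, TwistLib.puSec_res]
    erw [QCohLib.app_map τ.hom (homOfLE (r.preimage_mono (p.preimage_mono hVU)))]
    refine (QCohLib.map_map' L _ _ _).trans ?_
    exact (QCohLib.map_map' (V := r ⁻¹ᵁ (p ⁻¹ᵁ V)) L (eqToHom (by rw [← hr]; rfl)) (homOfLE (r.preimage_mono (p.preimage_mono hVU))) _).symm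
  have := congrArg (L.presheaf.germ (g ⁻¹ᵁ V) z hzV) ((e2.trans (hval V hV m')).trans e1.symm)
  rwa [AmpleLib.germ_res, AmpleLib.germ_res] at this

include hE hj hP in
theorem exists_induces [Coh.IsQCoh L] [Epi s] (hL : PicF.IsInvertible L)
    {lam : ∀ (U : Y.Opens) (hU : IsAffineOpen U),
      O1 ⟶ (Scheme.Modules.pushforward (RelProj.emb p chart U hU)).obj (GrTwist.twist (𝒮.deg U hU) 1)}
    (hO1 : RelProj.IsRelTwist 𝒮 p chart 1 O1 lam) {φ : E ⟶ (Scheme.Modules.pushforward p).obj O1}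
    (hφ : ∀ (U : Y.Opens) (hU : IsAffineOpen U) (e : Γ(E, U))
      (y : ↥(RelProj.emb p chart U hU ⁻¹ᵁ (p ⁻¹ᵁ U))),
      GrTwist.val (V := RelProj.emb p chart U hU ⁻¹ᵁ (p ⁻¹ᵁ U))
          ((lam U hU).app (p ⁻¹ᵁ U) ((φ.app U) e)) y =
        algebraMap (𝒮.presheaf.obj (op U)) (GrTwist.Loc (𝒮.deg U hU) y.1)
          ((j.app U) e : 𝒮.presheaf.obj (op U))) :
    ∃ (r : X ⟶ P) (hr : r ≫ p = g), Induces s φ r hr := by
  obtain ⟨𝒮L, jL, hjL⟩ := exists_isGrSymAlg L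
  obtain ⟨PL, pL, chartL, hPL⟩ := MiscFlat6.exists_relProj 𝒮L
  obtain ⟨OL, lamL, hOL⟩ := GrModLib6.exists_isRelTwist hPL 1
  haveI hpiso := Groth.Agent.S12143.result L hL inferInstance 𝒮L jL hjL pL chartL hPL
  obtain ⟨u, hu⟩ := exists_quotient_qgrhom s hj hjL
  have hirr := irrelevant_le_of_epi s hj hjL hu
  obtain ⟨h, hh, hover⟩ := exists_isProjQMap u hirr hP hPL
  have hg := emb_comp_of_isProjQMap hirr hh
  obtain ⟨φL, hφL⟩ := exists_canonicalMap_one hPL hOL jL hjL.2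
  haveI := Groth.Agent.S5732.result L inferInstance 𝒮L jL hjL pL chartL hPL OL lamL hOL φL hφL
  haveI := CohCmpLib.isIso_of_epi_rank_one
    (CohCmpLib.rank_one_pullback pL ((CohCmpLib.invertible_iff_rank_one L).1 hL))
    ((CohCmpLib.invertible_iff_rank_one OL).1 (isInvertible_of_isRelTwist (SymGenLib.isGenDegOne hjL) hOL))
    (((Scheme.Modules.pullbackPushforwardAdjunction pL).homEquiv L OL).symm φL)
  have hn : (1 : ℤ) = 1 * ((1 : ℕ) : ℤ) := by simp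
  obtain ⟨θ, hθiso, hθ⟩ : ∃ θ : O1 ⟶ (Scheme.Modules.pushforward h).obj OL,
      IsIso (((Scheme.Modules.pullbackPushforwardAdjunction h).homEquiv O1 OL).symm θ) ∧
      ∀ c : APair g, θ ≫ (Scheme.Modules.pushforward h).map (lamL c.i.1 c.i.2) = qComap hirr hg lam c := by
    have key : ∀ (m : ℤ), m = 1 * ((1 : ℕ) : ℤ) →
        ∀ (lam₁ : ∀ (U : Y.Opens) (hU : IsAffineOpen U),
          O1 ⟶ (Scheme.Modules.pushforward (RelProj.emb p chart U hU)).obj (GrTwist.twist (𝒮.deg U hU) m))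
        (lamL₁ : ∀ (U : X.Opens) (hU : IsAffineOpen U),
          OL ⟶ (Scheme.Modules.pushforward (RelProj.emb pL chartL U hU)).obj (GrTwist.twist (𝒮L.deg U hU) m)),
        RelProj.IsRelTwist 𝒮 p chart m O1 lam₁ → RelProj.IsRelTwist 𝒮L pL chartL m OL lamL₁ →
        ∃ θ : O1 ⟶ (Scheme.Modules.pushforward h).obj OL,
          IsIso (((Scheme.Modules.pullbackPushforwardAdjunction h).homEquiv O1 OL).symm θ) ∧
          ∀ c : APair g, θ ≫ (Scheme.Modules.pushforward h).map (lamL₁ c.i.1 c.i.2) = qComap hirr hg lam₁ c := by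
      rintro m rfl lam₁ lamL₁ h₁ h₂
      exact exists_twist_comap_iso hirr hg hP hPL (SymGenLib.isGenDegOne hj) h₁ h₂
    exact key 1 hn lam lamL hO1 hOL
  let ι := inv pL
  let r := ι ≫ h
  have hr : r ≫ p = g := by simp [r, ι, hover]
  refine ⟨r, hr, ?_⟩
  haveI := hθiso
  let θ' := asIso (((Scheme.Modules.pullbackPushforwardAdjunction h).homEquiv O1 OL).symm θ)
  let a := asIso (((Scheme.Modules.pullbackPushforwardAdjunction pL).homEquiv L OL).symm φL)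
  have hιp : ι ≫ pL = 𝟙 X := IsIso.inv_hom_id pL
  let τ : (Scheme.Modules.pullback r).obj O1 ≅ L :=
    ((Scheme.Modules.pullbackComp ι h).app O1).symm ≪≫ (Scheme.Modules.pullback ι).mapIso (θ' ≪≫ a.symm) ≪≫
      (Scheme.Modules.pullbackComp ι pL).app L ≪≫ (Scheme.Modules.pullbackCongr hιp).app L ≪≫
      (Scheme.Modules.pullbackId X).app L
  refine ⟨τ, fun U m => ?_⟩
  have ha : ∀ (V : X.Opens) (n : Γ(L, V)),
      a.hom.app (pL ⁻¹ᵁ V) (puSec pL n) = (show Γ(OL, pL ⁻¹ᵁ V) from φL.app V n) := fun V n =>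
    congrArg (fun χ => Scheme.Modules.Hom.app χ V n)
      (((Scheme.Modules.pullbackPushforwardAdjunction pL).homEquiv_unit L OL a.hom).symm.trans
        (Equiv.apply_symm_apply _ φL))
  have hθ' : ∀ (W : P.Opens) (x : Γ(O1, W)),
      θ'.hom.app (h ⁻¹ᵁ W) (puSec h x) = (show Γ(OL, h ⁻¹ᵁ W) from θ.app W x) := fun W x =>
    congrArg (fun χ => Scheme.Modules.Hom.app χ W x)
      (((Scheme.Modules.pullbackPushforwardAdjunction h).homEquiv_unit O1 OL θ'.hom).symm.trans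
        (Equiv.apply_symm_apply _ θ))
  have hW : h ⁻¹ᵁ (p ⁻¹ᵁ U) = pL ⁻¹ᵁ (g ⁻¹ᵁ U) := by
    rw [← Scheme.Hom.comp_preimage, hover, Scheme.Hom.comp_preimage]
  have hval : ∀ (U : Y.Opens) (hU : IsAffineOpen U) (m : Γ(E, U)),
      L.presheaf.map (eqToHom (by rw [← hr]; rfl)).op
        (τ.hom.app (r ⁻¹ᵁ (p ⁻¹ᵁ U)) (puSec r (show Γ(O1, p ⁻¹ᵁ U) from φ.app U m))) = qVal s U m := by
    intro U hU m
    have hW : h ⁻¹ᵁ (p ⁻¹ᵁ U) = pL ⁻¹ᵁ (g ⁻¹ᵁ U) := by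
      rw [← Scheme.Hom.comp_preimage, hover, Scheme.Hom.comp_preimage]
    exact induces_trace s hιp a ha θ'.hom hθ' hr m hW
      (theta_canonical s hP hOL hu hφ hφL hg hθ hU m hW)
  exact induces_of_affine s φ hr τ hval U m

end EGA2SymLib

end
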