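import Mathlib
import Groth.Agent.EGA2SymLib.PBFun
import Groth.Agent.EGA2SymLib.AwayExt

/-!
# A morphism to a projective bundle is determined by the quotient it induces
-/

set_option autoImplicit false
universe u

open CategoryTheory CategoryTheory.Limits AlgebraicGeometry TopologicalSpace Opposite
open KFlatLib (pb puSec)
open scoped HomogeneousIdeal
open AmpleLib (res GenOn GenAt)

noncomputable section

namespace EGA2SymLib

variable {Y X P : Scheme.{u}} {E : Y.Modules} {g : X ⟶ Y} {L : X.Modules}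
  {s : pb g E ⟶ L} {𝒮 : RelProj.QCGrAlg Y} {j : E ⟶ 𝒮.toModule} {p : P ⟶ Y}
  {chart : ∀ (U : Y.Opens) (hU : IsAffineOpen U), (((p ⁻¹ᵁ U : P.Opens) : Scheme.{u}) ≅ Proj (𝒮.deg U hU))}
  {O1 : P.Modules} {φ : E ⟶ (Scheme.Modules.pushforward p).obj O1}

/-- generation transports along an equation of sections -/
theorem genAt_congr {M : X.Modules} {W : X.Opens} {a b : Γ(M, W)} (e : a = b) {x : X} {hx : x ∈ W}
    (h : GenAt M a hx) : GenAt M b hx := e ▸ h

/-- the value of the quotient generates where the canonical section does -/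
theorem genAt_qVal_iff {r : X ⟶ P} {hr : r ≫ p = g} (τ : pb r O1 ≅ L)
    (hτ : ∀ (U : Y.Opens) (m : Γ(E, U)),
      L.presheaf.map (eqToHom (by rw [← hr]; rfl)).op
        (τ.hom.app (r ⁻¹ᵁ (p ⁻¹ᵁ U)) (puSec r (show Γ(O1, p ⁻¹ᵁ U) from φ.app U m))) = qVal s U m)
    {U : Y.Opens} (e : Γ(E, U)) {x : X} (hx : x ∈ g ⁻¹ᵁ U) :
    GenAt L (qVal s U e) hx ↔
      GenAt (pb r O1) (puSec r (show Γ(O1, p ⁻¹ᵁ U) from φ.app U e))
        (show x ∈ r ⁻¹ᵁ (p ⁻¹ᵁ U) by rw [← Scheme.Hom.comp_preimage, hr]; exact hx) := by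
  rw [← hτ U e]
  refine (AmpleLib.genAt_res (M := L) (by rw [← hr]; rfl) _ hx).trans ?_
  exact TwistLib.genAt_app_iso τ _ _

variable {lam : ∀ (U : Y.Opens) (hU : IsAffineOpen U),
    O1 ⟶ (Scheme.Modules.pushforward (RelProj.emb p chart U hU)).obj (GrTwist.twist (𝒮.deg U hU) 1)}
  (hP : RelProj.IsRelProj 𝒮 p chart) (hO1 : RelProj.IsRelTwist 𝒮 p chart 1 O1 lam)
  (hj : RelProj.IsGrSymAlg E 𝒮 j)
  (hφ : ∀ (U : Y.Opens) (hU : IsAffineOpen U) (e : Γ(E, U))
    (y : ↥(RelProj.emb p chart U hU ⁻¹ᵁ (p ⁻¹ᵁ U))),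
    GrTwist.val (V := RelProj.emb p chart U hU ⁻¹ᵁ (p ⁻¹ᵁ U))
        ((lam U hU).app (p ⁻¹ᵁ U) ((φ.app U) e)) y =
      algebraMap (𝒮.presheaf.obj (op U)) (GrTwist.Loc (𝒮.deg U hU) y.1)
        ((j.app U) e : 𝒮.presheaf.obj (op U)))

theorem jS_mem (hj : RelProj.IsGrSymAlg E 𝒮 j) {U : Y.Opens} (hU : IsAffineOpen U) (e : Γ(E, U)) :
    jS j U e ∈ 𝒮.deg U hU 1 := hj.2 U hU e

/-- the open of a chart where a degree one generator is invertible -/
abbrev bOpen (p : P ⟶ Y)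
    (chart : ∀ (U : Y.Opens) (hU : IsAffineOpen U), (((p ⁻¹ᵁ U : P.Opens) : Scheme.{u}) ≅ Proj (𝒮.deg U hU)))
    (j : E ⟶ 𝒮.toModule) {U : Y.Opens} (hU : IsAffineOpen U) (e : Γ(E, U)) : P.Opens :=
  RelProj.emb p chart U hU ''ᵁ Proj.basicOpen (𝒮.deg U hU) (jS j U e)

theorem bOpen_le {U : Y.Opens} (hU : IsAffineOpen U) (e : Γ(E, U)) : bOpen p chart j hU e ≤ p ⁻¹ᵁ U :=
  ((RelProj.emb p chart U hU).image_le_opensRange _).trans (MiscFlat6.emb_opensRange (chart := chart) U hU).le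

include hO1 hj hφ in
theorem genOn_canonical {U : Y.Opens} (hU : IsAffineOpen U) (e : Γ(E, U)) :
    GenOn O1 (res O1 (bOpen_le (p := p) (chart := chart) (j := j) hU e)
      (show Γ(O1, p ⁻¹ᵁ U) from φ.app U e)) := by
  let em := RelProj.emb p chart U hU
  let G : GrTwistLib.Unit' (𝒮.deg U hU) 1 (Proj.basicOpen (𝒮.deg U hU) (jS j U e)) :=
    ⟨1, 0, _, 1, jS_mem hj hU e, SetLike.GradedOne.one_mem, by simp, fun z => z.2,
      fun z h => z.1.isPrime.ne_top ((Ideal.eq_top_iff_one _).mpr h)⟩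
  obtain ⟨σ, hσ, hσg⟩ := GrModLib6.exists_gen_chart hO1 ⟨U, hU⟩ (bOpen_le (p := p) (chart := chart) (j := j) hU e)
    (em.preimage_image_eq _).le G
  have e1 : res O1 (bOpen_le (p := p) (chart := chart) (j := j) hU e) (show Γ(O1, p ⁻¹ᵁ U) from φ.app U e) = σ := by
    refine (hO1.bijective U hU _ (bOpen_le hU e)).1 (GrTwistLib.sec_ext fun z => ?_)
    refine (GrModLib6.cval_res (lam := lam) ⟨U, hU⟩ _ _ z).trans ?_
    refine Eq.trans ?_ (hσ z).symm
    exact (hφ U hU e _).trans (Localization.mk_one_eq_algebraMap _).symm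
  rw [e1]
  exact hσg

include hO1 hj hφ in
/-- a function on the chart with prescribed value gives the proportionality -/
theorem smul_canonical {U : Y.Opens} (hU : IsAffineOpen U) (e m : Γ(E, U))
    (c : Γ(P, bOpen p chart j hU e))
    (hc : (RelProj.emb p chart U hU).app (bOpen p chart j hU e) c =
      (Proj (𝒮.deg U hU)).presheaf.map (homOfLE ((RelProj.emb p chart U hU).preimage_image_eq _).le).op
        (Proj.awayToSection (𝒮.deg U hU) (jS j U e) (frac (jS_mem hj hU e) 1 (jS j U m) (jS_mem hj hU m)))) :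
    res O1 (bOpen_le (p := p) (chart := chart) (j := j) hU e) (show Γ(O1, p ⁻¹ᵁ U) from φ.app U m) =
      c • res O1 (bOpen_le (p := p) (chart := chart) (j := j) hU e) (show Γ(O1, p ⁻¹ᵁ U) from φ.app U e) := by
  refine (hO1.bijective U hU _ (bOpen_le hU e)).1 (GrTwistLib.sec_ext fun z => ?_)
  refine Eq.trans ?_ (GrModLib6.cval_smul (lam := lam) ⟨U, hU⟩ c _ z).symm
  refine (GrModLib6.cval_res (lam := lam) ⟨U, hU⟩ _ _ z).trans ((hφ U hU m _).trans ?_)
  have e1 : GrModLib6.cval lam ⟨U, hU⟩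
      (res O1 (bOpen_le (p := p) (chart := chart) (j := j) hU e) (show Γ(O1, p ⁻¹ᵁ U) from φ.app U e)) z =
      algebraMap _ (GrTwist.Loc (𝒮.deg U hU) z.1) (jS j U e) :=
    (GrModLib6.cval_res (lam := lam) ⟨U, hU⟩ _ _ z).trans (hφ U hU e _)
  have e2 : ((show GrTwist.O (op (RelProj.emb p chart U hU ⁻¹ᵁ bOpen p chart j hU e)) from
      (RelProj.emb p chart U hU).app (bOpen p chart j hU e) c).1 z).val =
      IsLocalization.map (M := Submonoid.powers (jS j U e)) (T := z.1.asHomogeneousIdeal.toIdeal.primeCompl)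
        (GrTwist.Loc (𝒮.deg U hU) z.1) (RingHom.id _)
        (Submonoid.powers_le.mpr (((RelProj.emb p chart U hU).preimage_image_eq _).le z.2))
        (frac (jS_mem hj hU e) 1 (jS j U m) (jS_mem hj hU m)).val := by
    rw [hc]
    exact (ProjectiveSpectrum.Proj.awayToSection_apply (𝒮.deg U hU) (jS j U e) _
      ⟨z.1, ((RelProj.emb p chart U hU).preimage_image_eq _).le z.2⟩)
  refine Eq.trans ?_ (congrArg₂ (fun a b => a * b) e2 e1).symm
  rw [frac, HomogeneousLocalization.Away.val_mk, Localization.mk_eq_mk', IsLocalization.map_mk']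
  rw [← IsLocalization.mk'_one (M := z.1.asHomogeneousIdeal.toIdeal.primeCompl)
      (GrTwist.Loc (𝒮.deg U hU) z.1) (jS j U e),
    ← IsLocalization.mk'_mul, ← IsLocalization.mk'_one (M := z.1.asHomogeneousIdeal.toIdeal.primeCompl)
      (GrTwist.Loc (𝒮.deg U hU) z.1) (jS j U m), IsLocalization.mk'_eq_iff_eq]
  simp [mul_comm]

include hP in
/-- scalars on the chart -/
theorem app_const {U : Y.Opens} (hU : IsAffineOpen U) (e : Γ(E, U)) (he : jS j U e ∈ 𝒮.deg U hU 1) (t : Γ(Y, U)) :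
    (RelProj.emb p chart U hU).app (bOpen p chart j hU e)
        (P.presheaf.map (homOfLE (bOpen_le (p := p) (chart := chart) (j := j) hU e)).op (p.app U t)) =
      (Proj (𝒮.deg U hU)).presheaf.map (homOfLE ((RelProj.emb p chart U hU).preimage_image_eq _).le).op
        (Proj.awayToSection (𝒮.deg U hU) (jS j U e)
          (frac he 0 ((𝒮.str.app (op U)).hom t) (𝒮.str_mem U hU t))) := by
  have hnat := congr($((RelProj.emb p chart U hU).naturality
    (homOfLE (bOpen_le (p := p) (chart := chart) (j := j) hU e)).op) (p.app U t))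
  refine hnat.trans ?_
  refine Subtype.ext (funext fun z => HomogeneousLocalization.val_injective _ ?_)
  refine Eq.trans ?_ (ProjectiveSpectrum.Proj.awayToSection_apply (𝒮.deg U hU) (jS j U e) _
      ⟨z.1, ((RelProj.emb p chart U hU).preimage_image_eq _).le z.2⟩).symm
  refine (val_emb_app_app hP U hU t ⟨z.1, bOpen_le (p := p) (chart := chart) (j := j) hU e z.2⟩).trans ?_
  rw [frac, HomogeneousLocalization.Away.val_mk, Localization.mk_eq_mk', IsLocalization.map_mk',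
    ← IsLocalization.mk'_one (M := z.1.asHomogeneousIdeal.toIdeal.primeCompl)
      (GrTwist.Loc (𝒮.deg U hU) z.1) ((𝒮.str.app (op U)).hom t)]
  congr 1
  exact Subtype.ext (by simp)

variable [Coh.IsQCoh E]

include hO1 hj hφ in
/-- the chart containing the image is read off from the quotient -/
theorem mem_bOpen_iff {r : X ⟶ P} {hr : r ≫ p = g} (τ : pb r O1 ≅ L)
    (hτ : ∀ (U : Y.Opens) (m : Γ(E, U)),
      L.presheaf.map (eqToHom (by rw [← hr]; rfl)).op
        (τ.hom.app (r ⁻¹ᵁ (p ⁻¹ᵁ U)) (puSec r (show Γ(O1, p ⁻¹ᵁ U) from φ.app U m))) = qVal s U m)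
    {U : Y.Opens} (hU : IsAffineOpen U) (e : Γ(E, U)) {x : X} (hx : x ∈ g ⁻¹ᵁ U) :
    r x ∈ bOpen p chart j hU e ↔ GenAt L (qVal s U e) hx := by
  rw [genAt_qVal_iff (hr := hr) τ hτ e hx]
  let σe : Γ(O1, p ⁻¹ᵁ U) := φ.app U e
  have hxp : x ∈ r ⁻¹ᵁ (p ⁻¹ᵁ U) := by rw [← Scheme.Hom.comp_preimage, hr]; exact hx
  constructor
  · intro h
    refine (AmpleLib.genAt_res (r.preimage_mono (bOpen_le (p := p) (chart := chart) (j := j) hU e))
      (puSec r σe) (x := x) h).mp ?_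
    rw [← TwistLib.puSec_res r (bOpen_le (p := p) (chart := chart) (j := j) hU e) σe]
    exact TwistLib.GenAt.puSec r ((genOn_canonical hO1 hj hφ hU e).genAt h)
  · intro h
    obtain ⟨y, hy⟩ := (MiscFlat6.emb_opensRange (chart := chart) U hU).ge (show r x ∈ p ⁻¹ᵁ U from hxp)
    obtain ⟨b, hb, hyb⟩ := GrTwistLib.exists_basicOpen_of_genDegOne _ (SymGenLib.isGenDegOne hj U hU) y
    obtain ⟨e', rfl⟩ := exists_of_mem_one hj U hU hb
    let em := RelProj.emb p chart U hU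
    let D' := bOpen p chart j hU e'
    have hxD : r x ∈ D' := ⟨y, hyb, hy⟩
    haveI : IsIso (em.app D') := em.isIso_app D' (em.image_le_opensRange _)
    obtain ⟨c, hc⟩ := (ConcreteCategory.bijective_of_isIso (em.app D')).2
      ((Proj (𝒮.deg U hU)).presheaf.map (homOfLE (em.preimage_image_eq _).le).op
        (Proj.awayToSection (𝒮.deg U hU) (jS j U e') (frac (jS_mem hj hU e') 1 (jS j U e) (jS_mem hj hU e))))
    have hsm := smul_canonical hO1 hj hφ hU e' e c hc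
    have hgen := genOn_canonical hO1 hj hφ hU e'
    have h1 : GenAt (pb r O1) (puSec r (res O1 (bOpen_le (p := p) (chart := chart) (j := j) hU e') σe))
        (show x ∈ r ⁻¹ᵁ D' from hxD) := by
      rw [TwistLib.puSec_res]
      exact (AmpleLib.genAt_res _ _ _).mpr h
    rw [hsm, TwistLib.puSec_smul, AmpleLib.genAt_smul_iff _ _ _ (TwistLib.GenAt.puSec r (hgen.genAt hxD)),
      ← Scheme.preimage_basicOpen] at h1
    have h2 : y ∈ (Proj (𝒮.deg U hU)).basicOpen (em.app D' c) := by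
      rw [← Scheme.preimage_basicOpen]
      show em y ∈ P.basicOpen c
      rw [hy]
      exact h1
    rw [hc] at h2
    replace h2 := (Scheme.basicOpen_res _ _ _).le h2 |>.2
    replace h2 := (Scheme.mem_basicOpen _ _ y hyb).mp h2
    have h3 : IsUnit (((Proj.awayToSection (𝒮.deg U hU) (jS j U e')
        (frac (jS_mem hj hU e') 1 (jS j U e) (jS_mem hj hU e))).1 ⟨y, hyb⟩).val) := by
      have h4 := h2.map (Proj.stalkIso' (𝒮.deg U hU) y).toRingHom
      erw [Proj.stalkIso'_germ] at h4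
      exact (h4.map (algebraMap _ (Localization y.asHomogeneousIdeal.toIdeal.primeCompl)))
    replace h3 := (congrArg IsUnit (ProjectiveSpectrum.Proj.awayToSection_apply (𝒮.deg U hU) (jS j U e')
      (frac (jS_mem hj hU e') 1 (jS j U e) (jS_mem hj hU e)) ⟨y, hyb⟩)).mp h3
    rw [frac, HomogeneousLocalization.Away.val_mk,
      Localization.mk_eq_mk', IsLocalization.map_mk',
      IsLocalization.AtPrime.isUnit_mk'_iff _ y.asHomogeneousIdeal.toIdeal] at h3
    exact ⟨y, h3, hy⟩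

include hP hO1 hj hφ in
theorem eq_of_induces {r r' : X ⟶ P} {hr : r ≫ p = g} {hr' : r' ≫ p = g} (h : Induces s φ r hr)
    (h' : Induces s φ r' hr') : r = r' := by
  obtain ⟨τ, hτ⟩ := h
  obtain ⟨τ', hτ'⟩ := h'
  refine Scheme.hom_ext_of_forall r r' fun x => ?_
  obtain ⟨U, hU, hxU, -⟩ := exists_isAffineOpen_mem_and_subset (X := Y) (x := g x) (U := ⊤) trivial
  have hxp : r x ∈ p ⁻¹ᵁ U := by
    show x ∈ r ⁻¹ᵁ (p ⁻¹ᵁ U)
    rw [← Scheme.Hom.comp_preimage, hr]; exact hxU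
  obtain ⟨y, hy⟩ := (MiscFlat6.emb_opensRange (chart := chart) U hU).ge hxp
  obtain ⟨b, hb, hyb⟩ := GrTwistLib.exists_basicOpen_of_genDegOne _ (SymGenLib.isGenDegOne hj U hU) y
  obtain ⟨e, rfl⟩ := exists_of_mem_one hj U hU hb
  let D := bOpen p chart j hU e
  have hxD : r x ∈ D := ⟨y, hyb, hy⟩
  have hxD' : r' x ∈ D :=
    (mem_bOpen_iff (hr := hr') hO1 hj hφ τ' hτ' hU e hxU).mpr ((mem_bOpen_iff (hr := hr) hO1 hj hφ τ hτ hU e hxU).mp hxD)
  let W : X.Opens := r ⁻¹ᵁ D ⊓ r' ⁻¹ᵁ D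
  refine ⟨W, ⟨hxD, hxD'⟩, ?_⟩
  let em := RelProj.emb p chart U hU
  let B := Proj.basicOpen (𝒮.deg U hU) (jS j U e)
  have hlift : ∀ (f : X ⟶ P), W ≤ f ⁻¹ᵁ D →
      ∃ f₀ : (W : Scheme.{u}) ⟶ Proj (𝒮.deg U hU), f₀ ≫ em = W.ι ≫ f ∧ (⊤ : W.toScheme.Opens) ≤ f₀ ⁻¹ᵁ B := by
    intro f hf
    have hr0 : Set.range (W.ι ≫ f).base ⊆ Set.range em.base := by
      rintro _ ⟨w, rfl⟩
      exact em.image_le_opensRange _ (hf w.2)
    refine ⟨IsOpenImmersion.lift em (W.ι ≫ f) hr0, IsOpenImmersion.lift_fac _ _ _, fun w _ => ?_⟩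
    have hw : em (IsOpenImmersion.lift em (W.ι ≫ f) hr0 w) ∈ em ''ᵁ B := by
      rw [← Scheme.Hom.comp_apply, IsOpenImmersion.lift_fac]
      exact hf w.2
    exact (em.preimage_image_eq B).le hw
  obtain ⟨r₀, hr₀, hB⟩ := hlift r inf_le_left
  obtain ⟨r₀', hr₀', hB'⟩ := hlift r' inf_le_right
  haveI : IsIso (em.app D) := em.isIso_app D (em.image_le_opensRange _)
  have htr : ∀ (f : X ⟶ P) (hf : W ≤ f ⁻¹ᵁ D) (f₀ : (W : Scheme.{u}) ⟶ Proj (𝒮.deg U hU))
      (_ : f₀ ≫ em = W.ι ≫ f) (hB₀ : (⊤ : W.toScheme.Opens) ≤ f₀ ⁻¹ᵁ B) (c : Γ(P, D))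
      (q : HomogeneousLocalization.Away (𝒮.deg U hU) (jS j U e)),
      em.app D c = (Proj (𝒮.deg U hU)).presheaf.map (homOfLE (em.preimage_image_eq _).le).op
        (Proj.awayToSection (𝒮.deg U hU) (jS j U e) q) →
      f₀.appLE B ⊤ hB₀ (Proj.awayToSection (𝒮.deg U hU) (jS j U e) q) =
        W.topIso.inv (f.appLE D W hf c) := by
    intro f hf f₀ hf₀ hB₀ c q hc
    have hle : (⊤ : W.toScheme.Opens) ≤ f₀ ⁻¹ᵁ (em ⁻¹ᵁ D) :=
      hB₀.trans (f₀.preimage_mono (em.preimage_image_eq B).ge)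
    have e1 : (f₀ ≫ em).appLE D ⊤ hle c =
        f₀.appLE B ⊤ hB₀ (Proj.awayToSection (𝒮.deg U hU) (jS j U e) q) := by
      rw [← Scheme.Hom.appLE_comp_appLE f₀ em D (em ⁻¹ᵁ D) ⊤ le_rfl hle, CommRingCat.comp_apply,
        Scheme.Hom.appLE_eq_app]
      rw [hc, ← CommRingCat.comp_apply, Scheme.Hom.map_appLE]
    rw [← e1]
    simp only [hf₀]
    have h2 : (⊤ : W.toScheme.Opens) ≤ W.ι ⁻¹ᵁ W := fun w _ => w.2
    rw [← Scheme.Hom.appLE_comp_appLE W.ι f D W ⊤ hf h2, CommRingCat.comp_apply]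
    refine congrArg (fun ψ : Γ(X, W) ⟶ Γ(W.toScheme, ⊤) => ψ (f.appLE D W hf c)) ?_
    rw [Scheme.Opens.ι_appLE]
    rfl
  have hθ : (r₀.appLE B ⊤ hB).hom.comp (Proj.awayToSection (𝒮.deg U hU) (jS j U e)).hom =
      (r₀'.appLE B ⊤ hB').hom.comp (Proj.awayToSection (𝒮.deg U hU) (jS j U e)).hom := by
    refine away_ringHom_ext (jS_mem hj hU e) (SymGenLib.isGenDegOne hj U hU) _ _ (fun z hz => ?_) (fun z hz => ?_)
    · obtain ⟨t, rfl⟩ := exists_of_mem_zero hj hU hz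
      have hc := app_const hP hU e (jS_mem hj hU e) t
      refine (htr r inf_le_left r₀ hr₀ hB _ _ hc).trans (Eq.trans ?_ (htr r' inf_le_right r₀' hr₀' hB' _ _ hc).symm)
      refine congrArg W.topIso.inv ?_
      rw [← CommRingCat.comp_apply, ← CommRingCat.comp_apply, ← CommRingCat.comp_apply, ← CommRingCat.comp_apply]
      have hWg : W ≤ g ⁻¹ᵁ U := fun w hw => by
        rw [← hr]
        exact bOpen_le (p := p) (chart := chart) (j := j) hU e hw.1
      have key : ∀ (f : X ⟶ P) (hfp : f ≫ p = g) (hf : W ≤ f ⁻¹ᵁ D),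
          p.app U ≫ P.presheaf.map (homOfLE (bOpen_le (p := p) (chart := chart) (j := j) hU e)).op ≫ f.appLE D W hf =
            g.appLE U W hWg := by
        intro f hfp hf
        subst hfp
        rw [Scheme.Hom.map_appLE, ← Scheme.Hom.appLE_eq_app]
        exact Scheme.Hom.appLE_comp_appLE f p U (p ⁻¹ᵁ U) W le_rfl _
      simp only [Category.assoc]
      rw [key r hr inf_le_left, key r' hr' inf_le_right]
    · obtain ⟨m, rfl⟩ := exists_of_mem_one hj U hU hz
      obtain ⟨c, hc⟩ := (ConcreteCategory.bijective_of_isIso (em.app D)).2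
        ((Proj (𝒮.deg U hU)).presheaf.map (homOfLE (em.preimage_image_eq _).le).op
          (Proj.awayToSection (𝒮.deg U hU) (jS j U e) (frac (jS_mem hj hU e) 1 (jS j U m) (jS_mem hj hU m))))
      refine (htr r inf_le_left r₀ hr₀ hB c _ hc).trans (Eq.trans ?_ (htr r' inf_le_right r₀' hr₀' hB' c _ hc).symm)
      refine congrArg W.topIso.inv ?_
      have hsm := smul_canonical hO1 hj hφ hU e m c hc
      have hgen := genOn_canonical hO1 hj hφ hU e
      have hWg : W ≤ g ⁻¹ᵁ U := fun w hw => by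
        rw [← hr]
        exact bOpen_le (p := p) (chart := chart) (j := j) hU e hw.1
      have hprop : ∀ (f : X ⟶ P) (hfp : f ≫ p = g) (τ : pb f O1 ≅ L)
          (_ : ∀ (U : Y.Opens) (m : Γ(E, U)),
            L.presheaf.map (eqToHom (by rw [← hfp]; rfl)).op
              (τ.hom.app (f ⁻¹ᵁ (p ⁻¹ᵁ U)) (puSec f (show Γ(O1, p ⁻¹ᵁ U) from φ.app U m))) = qVal s U m)
          (hf : W ≤ f ⁻¹ᵁ D),
          GenOn L (res L hWg (qVal s U e)) ∧ res L hWg (qVal s U m) = f.appLE D W hf c • res L hWg (qVal s U e) := by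
        intro f hfp τ hτ hf
        have hv : ∀ n : Γ(E, U), res L hWg (qVal s U n) =
            τ.hom.app W (res (pb f O1) hf (puSec f (res O1 (bOpen_le (p := p) (chart := chart) (j := j) hU e)
              (show Γ(O1, p ⁻¹ᵁ U) from φ.app U n)))) := by
          intro n
          rw [← hτ U n, TwistLib.puSec_res, AmpleLib.res_res]
          exact (QCohLib.map_map' L _ _ _).trans (QCohLib.app_map τ.hom _ _).symm
        refine ⟨?_, ?_⟩
        · rw [hv e]
          refine TwistLib.genOn_of_genAt fun w hw => ?_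
          rw [TwistLib.genAt_app_iso, AmpleLib.genAt_res]
          exact TwistLib.GenAt.puSec f (hgen.genAt (hf hw))
        · rw [hv m, hv e, hsm, TwistLib.puSec_smul, AmpleLib.res_smul, QCohLib.app_smul]
          rfl
      obtain ⟨hgW, h1⟩ := hprop r hr τ hτ inf_le_left
      obtain ⟨-, h2⟩ := hprop r' hr' τ' hτ' inf_le_right
      refine (hgW W le_rfl).1 ?_
      dsimp only
      rw [AmpleLib.res_res]
      exact h1.symm.trans h2
  have hr00 : r₀ = r₀' := proj_hom_ext r₀ r₀' hB hB' (fun q => congr($hθ q)) (jS_mem hj hU e)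
  rw [← hr₀, ← hr₀', hr00]

end EGA2SymLib

end
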