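import Mathlib
import Groth.Agent.EGA2SymLib.PBUniq

/-!
# A criterion for a morphism to a projective bundle to be an immersion
-/

set_option autoImplicit false
universe u

open CategoryTheory CategoryTheory.Limits AlgebraicGeometry TopologicalSpace Opposite
open KFlatLib (pb puSec)
open scoped HomogeneousIdeal
open AmpleLib (res GenOn GenAt)

noncomputable section

namespace EGA2SymLib

section general

variable {A σ : Type u} [CommRing A] [SetLike σ A] [AddSubgroupClass σ A] {𝒜 : ℕ → σ} [GradedRing 𝒜]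

theorem awayToSection_surjective {a : A} {m : ℕ} (ha : a ∈ 𝒜 m) (hm : 0 < m) :
    Function.Surjective (Proj.awayToSection 𝒜 a) := by
  intro z
  haveI : IsIso (Proj.basicOpenToSpec 𝒜 a) := Proj.basicOpenIsoSpec_hom 𝒜 a ha hm ▸ Iso.isIso_hom _
  haveI : IsIso ((Proj.basicOpenToSpec 𝒜 a).app ⊤) := inferInstance
  obtain ⟨w, hw⟩ := (ConcreteCategory.bijective_of_isIso ((Proj.basicOpenToSpec 𝒜 a).app ⊤)).2
    ((Proj.basicOpen 𝒜 a).topIso.inv z)
  rw [Proj.basicOpenToSpec_app_top] at hw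
  exact ⟨_, (ConcreteCategory.bijective_of_isIso (Proj.basicOpen 𝒜 a).topIso.inv).1 hw⟩

variable {a : A} (ha : a ∈ 𝒜 1) (hgen : Subring.closure ((𝒜 0 : Set A) ∪ (𝒜 1 : Set A)) = ⊤)

include hgen in
/-- the degree-zero localisation is generated by degree-one fractions -/
theorem closure_frac_eq_top :
    Subring.closure {q : HomogeneousLocalization.Away 𝒜 a | ∃ (x : A) (hx : x ∈ 𝒜 1), q = frac ha 1 x hx} = ⊤ := by
  classical
  let S := Subring.closure {q : HomogeneousLocalization.Away 𝒜 a | ∃ (x : A) (hx : x ∈ 𝒜 1), q = frac ha 1 x hx}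
  have frac_congr : ∀ {n : ℕ} {x y : A} (e : x = y) (hx : x ∈ 𝒜 n) (hy : y ∈ 𝒜 n),
      frac ha n x hx = frac ha n y hy := by rintro n x y rfl hx hy; rfl
  have h1 : ∀ (x : A) (hx : x ∈ 𝒜 1), frac ha 1 x hx ∈ S := fun x hx => Subring.subset_closure ⟨x, hx, rfl⟩
  have h0 : ∀ (x : A) (hx : x ∈ 𝒜 0), frac ha 0 x hx ∈ S := fun x hx => by
    have hxa : x * a ∈ 𝒜 1 := by simpa using SetLike.GradedMul.mul_mem hx ha
    have e : frac ha 0 x hx = frac ha 1 (x * a) hxa :=
      HomogeneousLocalization.val_injective _ (by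
        simp only [HomogeneousLocalization.Away.val_mk]
        exact Localization.mk_eq_mk_iff.mpr (Localization.r_of_eq (by simp [mul_comm])))
    rw [e]
    exact h1 _ hxa
  let Q : A → Prop := fun y => ∀ n, frac ha n (DirectSum.decompose 𝒜 y n : A) (SetLike.coe_mem _) ∈ S
  have key : ∀ y, Q y := by
    intro y
    induction (show y ∈ Subring.closure ((𝒜 0 : Set A) ∪ (𝒜 1 : Set A)) from hgen ▸ trivial)
      using Subring.closure_induction with
    | mem y hy =>
      intro n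
      rcases hy with hy | hy
      · by_cases hn : 0 = n
        · subst hn; rw [frac_congr (DirectSum.decompose_of_mem_same 𝒜 hy) _ hy]; exact h0 _ hy
        · rw [frac_congr (DirectSum.decompose_of_mem_ne 𝒜 hy hn) _ (zero_mem _), frac_zero]; exact zero_mem _
      · by_cases hn : 1 = n
        · subst hn; rw [frac_congr (DirectSum.decompose_of_mem_same 𝒜 hy) _ hy]; exact h1 _ hy
        · rw [frac_congr (DirectSum.decompose_of_mem_ne 𝒜 hy hn) _ (zero_mem _), frac_zero]; exact zero_mem _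
    | zero =>
      intro n
      rw [frac_congr (show (DirectSum.decompose 𝒜 (0 : A) n : A) = 0 by simp) _ (zero_mem _), frac_zero]
      exact zero_mem _
    | one =>
      intro n
      by_cases hn : 0 = n
      · subst hn
        rw [frac_congr (DirectSum.decompose_of_mem_same 𝒜 SetLike.GradedOne.one_mem) _ SetLike.GradedOne.one_mem]
        exact h0 _ _
      · rw [frac_congr (DirectSum.decompose_of_mem_ne 𝒜 SetLike.GradedOne.one_mem hn) _ (zero_mem _), frac_zero]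
        exact zero_mem _
    | add y z _ _ iy iz =>
      intro n
      rw [frac_congr (show (DirectSum.decompose 𝒜 (y + z) n : A) =
          (DirectSum.decompose 𝒜 y n : A) + (DirectSum.decompose 𝒜 z n : A) by simp) _
        (add_mem (SetLike.coe_mem _) (SetLike.coe_mem _)), frac_add ha (SetLike.coe_mem _) (SetLike.coe_mem _)]
      exact add_mem (iy n) (iz n)
    | neg y _ iy =>
      intro n
      have e : frac ha n (DirectSum.decompose 𝒜 (-y) n : A) (SetLike.coe_mem _) =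
          - frac ha n (DirectSum.decompose 𝒜 y n : A) (SetLike.coe_mem _) :=
        HomogeneousLocalization.val_injective _ (by
          simp only [HomogeneousLocalization.Away.val_mk, HomogeneousLocalization.val_neg, Localization.neg_mk]
          exact congrArg₂ Localization.mk (by rw [DirectSum.decompose_neg, DFinsupp.neg_apply, NegMemClass.coe_neg]) rfl)
      rw [e]
      exact neg_mem (iy n)
    | mul y z _ _ iy iz =>
      intro n
      have e : (DirectSum.decompose 𝒜 (y * z) n : A) =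
          ∑ i ∈ Finset.range (n + 1), (DirectSum.decompose 𝒜 y i : A) * (DirectSum.decompose 𝒜 z (n - i) : A) := by
        rw [DirectSum.decompose_mul, DirectSum.coe_mul_apply_eq_sum_antidiagonal]
        exact Finset.Nat.sum_antidiagonal_eq_sum_range_succ
          (fun i k => (DirectSum.decompose 𝒜 y i : A) * (DirectSum.decompose 𝒜 z k : A)) n
      have hmem : ∀ i ∈ Finset.range (n + 1),
          (DirectSum.decompose 𝒜 y i : A) * (DirectSum.decompose 𝒜 z (n - i) : A) ∈ 𝒜 n := fun i hi => by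
        have hm := SetLike.GradedMul.mul_mem (SetLike.coe_mem (DirectSum.decompose 𝒜 y i))
          (SetLike.coe_mem (DirectSum.decompose 𝒜 z (n - i)))
        rwa [Nat.add_sub_cancel' (Nat.lt_succ_iff.mp (Finset.mem_range.mp hi))] at hm
      have hsum : ∀ s : Finset ℕ, (∀ i ∈ s, i < n + 1) → ∀ hs,
          frac ha n (∑ i ∈ s, (DirectSum.decompose 𝒜 y i : A) * (DirectSum.decompose 𝒜 z (n - i) : A)) hs ∈ S := by
        intro s
        induction s using Finset.induction_on with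
        | empty => intro _ hs; rw [frac_congr Finset.sum_empty _ (zero_mem _), frac_zero]; exact zero_mem _
        | insert i s hi ih =>
          intro hlt hs
          have h' : ∀ i ∈ s, i < n + 1 := fun i hi' => hlt i (Finset.mem_insert_of_mem hi')
          have hi' := hmem i (Finset.mem_range.mpr (hlt i (Finset.mem_insert_self i s)))
          have hs' := sum_mem fun j hj => hmem j (Finset.mem_range.mpr (h' j hj))
          rw [frac_congr (Finset.sum_insert hi) _ (add_mem hi' hs'), frac_add ha hi' hs']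
          refine add_mem ?_ (ih h' hs')
          have hin : i + (n - i) = n := Nat.add_sub_cancel' (Nat.lt_succ_iff.mp (hlt i (Finset.mem_insert_self i s)))
          have e2 : frac ha n ((DirectSum.decompose 𝒜 y i : A) * (DirectSum.decompose 𝒜 z (n - i) : A)) hi' =
              frac ha (i + (n - i)) ((DirectSum.decompose 𝒜 y i : A) * (DirectSum.decompose 𝒜 z (n - i) : A))
                (SetLike.GradedMul.mul_mem (SetLike.coe_mem _) (SetLike.coe_mem _)) :=
            HomogeneousLocalization.val_injective _ (by simp only [HomogeneousLocalization.Away.val_mk, hin])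
          rw [e2, frac_mul ha (SetLike.coe_mem _) (SetLike.coe_mem _)]
          exact mul_mem (iy i) (iz (n - i))
      rw [frac_congr e _ (sum_mem hmem)]
      exact hsum _ (fun i hi => Finset.mem_range.mp hi) _
  refine eq_top_iff.mpr fun q _ => ?_
  obtain ⟨n, x, hx, rfl⟩ := HomogeneousLocalization.Away.mk_surjective 𝒜 ha q
  have hx' : x ∈ 𝒜 n := by simpa using hx
  have := key x n
  rwa [frac_congr (DirectSum.decompose_of_mem_same 𝒜 hx') _ hx'] at this

end general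

/-- into an affine scheme, an immersion is detected by the functions it pulls back -/
theorem isImmersion_of_range_le {W A B : Scheme.{u}} [IsAffine A] [IsAffine B] (h : W ⟶ A) [IsImmersion h]
    (f : W ⟶ B) (hle : h.appTop.hom.range ≤ f.appTop.hom.range) : IsImmersion f := by
  let R := f.appTop.hom.range
  let ι' : CommRingCat.of R ⟶ Γ(W, ⊤) := CommRingCat.ofHom R.subtype
  let θ : Γ(A, ⊤) ⟶ CommRingCat.of R := CommRingCat.ofHom (h.appTop.hom.codRestrict R fun x => hle ⟨x, rfl⟩)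
  let π : Γ(B, ⊤) ⟶ CommRingCat.of R := CommRingCat.ofHom f.appTop.hom.rangeRestrict
  let e : W ⟶ Spec (CommRingCat.of R) := W.toSpecΓ ≫ Spec.map ι'
  have h1 : e ≫ Spec.map θ = h ≫ A.toSpecΓ := by
    rw [Category.assoc, ← Spec.map_comp, Scheme.toSpecΓ_naturality]
    rfl
  have h2 : e ≫ Spec.map π = f ≫ B.toSpecΓ := by
    rw [Category.assoc, ← Spec.map_comp, Scheme.toSpecΓ_naturality]
    rfl
  haveI : IsImmersion (e ≫ Spec.map θ) := h1 ▸ inferInstance
  haveI : IsImmersion e := IsImmersion.of_comp e (Spec.map θ)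
  haveI : IsClosedImmersion (Spec.map π) :=
    IsClosedImmersion.spec_of_surjective π f.appTop.hom.rangeRestrict_surjective
  haveI : IsImmersion (f ≫ B.toSpecΓ) := h2 ▸ inferInstance
  exact IsImmersion.of_comp f B.toSpecΓ

/-- being an immersion may be checked on open sets of the target covering the image -/
theorem isImmersion_of_targets {X P : Scheme.{u}} (r : X ⟶ P)
    (h : ∀ x : X, ∃ D : P.Opens, r x ∈ D ∧ IsImmersion ((r ⁻¹ᵁ D).ι ≫ r)) : IsImmersion r := by
  choose D hxD hD using h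
  let V : P.Opens := ⨆ x, D x
  have hr : Set.range r.base ⊆ Set.range V.ι.base := by
    rw [Scheme.Opens.range_ι]
    rintro _ ⟨x, rfl⟩
    exact Opens.mem_iSup.mpr ⟨x, hxD x⟩
  let rV := IsOpenImmersion.lift V.ι r hr
  suffices IsImmersion rV by
    rw [← IsOpenImmersion.lift_fac V.ι r hr]; infer_instance
  refine (IsZariskiLocalAtTarget.iff_of_iSup_eq_top (P := @IsImmersion) (fun x => V.ι ⁻¹ᵁ D x) ?_).mpr fun x => ?_
  · rw [← Scheme.Hom.preimage_iSup]
    exact eq_top_iff.mpr fun z _ => z.2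
  have e : rV ⁻¹ᵁ (V.ι ⁻¹ᵁ D x) = r ⁻¹ᵁ D x := by
    rw [← Scheme.Hom.comp_preimage, IsOpenImmersion.lift_fac]
  haveI := hD x
  haveI : IsImmersion ((rV ∣_ (V.ι ⁻¹ᵁ D x)) ≫ (V.ι ⁻¹ᵁ D x).ι ≫ V.ι) := by
    rw [← Category.assoc, morphismRestrict_ι, Category.assoc, IsOpenImmersion.lift_fac,
      ← Scheme.isoOfEq_hom_ι (X := X) e, Category.assoc]
    infer_instance
  exact IsImmersion.of_comp _ ((V.ι ⁻¹ᵁ D x).ι ≫ V.ι)

variable {Y X P : Scheme.{u}} {E : Y.Modules} {g : X ⟶ Y} {L : X.Modules} (s : pb g E ⟶ L)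

/-- the ratios of values of the quotient by a given one -/
def ratios {U : Y.Opens} {W : X.Opens} (hW : W ≤ g ⁻¹ᵁ U) (e : Γ(E, U)) : Set Γ(X, W) :=
  {a | ∃ m : Γ(E, U), res L hW (qVal s U m) = a • res L hW (qVal s U e)}

variable {s}

variable {𝒮 : RelProj.QCGrAlg Y} {j : E ⟶ 𝒮.toModule} {p : P ⟶ Y}
  {chart : ∀ (U : Y.Opens) (hU : IsAffineOpen U), (((p ⁻¹ᵁ U : P.Opens) : Scheme.{u}) ≅ Proj (𝒮.deg U hU))}
  {O1 : P.Modules} {φ : E ⟶ (Scheme.Modules.pushforward p).obj O1}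
  {lam : ∀ (U : Y.Opens) (hU : IsAffineOpen U),
    O1 ⟶ (Scheme.Modules.pushforward (RelProj.emb p chart U hU)).obj (GrTwist.twist (𝒮.deg U hU) 1)}
  (hO1 : RelProj.IsRelTwist 𝒮 p chart 1 O1 lam)
  (hj : RelProj.IsGrSymAlg E 𝒮 j)
  (hφ : ∀ (U : Y.Opens) (hU : IsAffineOpen U) (e : Γ(E, U))
    (y : ↥(RelProj.emb p chart U hU ⁻¹ᵁ (p ⁻¹ᵁ U))),
    GrTwist.val (V := RelProj.emb p chart U hU ⁻¹ᵁ (p ⁻¹ᵁ U))
        ((lam U hU).app (p ⁻¹ᵁ U) ((φ.app U) e)) y =
      algebraMap (𝒮.presheaf.obj (op U)) (GrTwist.Loc (𝒮.deg U hU) y.1)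
        ((j.app U) e : 𝒮.presheaf.obj (op U)))
  {r : X ⟶ P} {hr : r ≫ p = g} (τ : pb r O1 ≅ L)
  (hτ : ∀ (U : Y.Opens) (m : Γ(E, U)),
      L.presheaf.map (eqToHom (by rw [← hr]; rfl)).op
        (τ.hom.app (r ⁻¹ᵁ (p ⁻¹ᵁ U)) (puSec r (show Γ(O1, p ⁻¹ᵁ U) from φ.app U m))) = qVal s U m)

include hO1 hj hφ hτ in
theorem genOn_qVal_of_le {U : Y.Opens} (hU : IsAffineOpen U) (e : Γ(E, U)) {W : X.Opens} (hW : W ≤ g ⁻¹ᵁ U)
    (hf : W ≤ r ⁻¹ᵁ bOpen p chart j hU e) : GenOn L (res L hW (qVal s U e)) := by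
  refine TwistLib.genOn_of_genAt fun w hw => (AmpleLib.genAt_res hW _ (x := w) hw).mpr ?_
  exact (genAt_qVal_iff (hr := hr) τ hτ e (hW hw)).mpr
    ((AmpleLib.genAt_res (r.preimage_mono (bOpen_le (p := p) (chart := chart) (j := j) hU e)) _ (x := w) (hf hw)).mp
      (by rw [← TwistLib.puSec_res r (bOpen_le (p := p) (chart := chart) (j := j) hU e)]; exact TwistLib.GenAt.puSec r ((genOn_canonical hO1 hj hφ hU e).genAt (hf hw))))

variable [Coh.IsQCoh E]

include hO1 hj hφ hτ in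
/-- pulling back functions of a chart gives exactly the ring generated by the ratios -/
theorem range_appLE_eq_closure {U : Y.Opens} (hU : IsAffineOpen U) (e : Γ(E, U)) {W : X.Opens} (hW : W ≤ g ⁻¹ᵁ U)
    (hf : W ≤ r ⁻¹ᵁ bOpen p chart j hU e) :
    (r.appLE (bOpen p chart j hU e) W hf).hom.range = Subring.closure (ratios s hW e) := by
  let em := RelProj.emb p chart U hU
  let D := bOpen p chart j hU e
  haveI : IsIso (em.app D) := em.isIso_app D (em.image_le_opensRange _)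
  have hgW := genOn_qVal_of_le (hr := hr) hO1 hj hφ τ hτ hU e hW hf
  let χ : HomogeneousLocalization.Away (𝒮.deg U hU) (jS j U e) →+* Γ(P, D) :=
    (Proj.awayToSection (𝒮.deg U hU) (jS j U e) ≫
      (Proj (𝒮.deg U hU)).presheaf.map (homOfLE (em.preimage_image_eq _).le).op ≫ inv (em.app D)).hom
  have hχ : ∀ q, em.app D (χ q) = (Proj (𝒮.deg U hU)).presheaf.map (homOfLE (em.preimage_image_eq _).le).op
      (Proj.awayToSection (𝒮.deg U hU) (jS j U e) q) := fun q => CategoryTheory.IsIso.inv_hom_id_apply (em.app D) _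
  have hsurj : Function.Surjective χ := by
    intro c
    obtain ⟨q, hq⟩ := awayToSection_surjective (jS_mem hj hU e) one_pos
      ((Proj (𝒮.deg U hU)).presheaf.map (homOfLE (em.preimage_image_eq _).ge).op (em.app D c))
    refine ⟨q, (ConcreteCategory.bijective_of_isIso (em.app D)).1 ?_⟩
    rw [hχ, hq]
    exact (QCohLib.map_map' (Coh.structureModule (Proj (𝒮.deg U hU))) _ _ _).trans
      (congr($((Coh.structureModule (Proj (𝒮.deg U hU))).presheaf.map_id _) (em.app D c)))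
  have hval : ∀ m : Γ(E, U), res L hW (qVal s U m) =
      r.appLE D W hf (χ (frac (jS_mem hj hU e) 1 (jS j U m) (jS_mem hj hU m))) • res L hW (qVal s U e) := by
    intro m
    have hv : ∀ n : Γ(E, U), res L hW (qVal s U n) =
        τ.hom.app W (res (pb r O1) hf (puSec r (res O1 (bOpen_le (p := p) (chart := chart) (j := j) hU e)
          (show Γ(O1, p ⁻¹ᵁ U) from φ.app U n)))) := by
      intro n
      rw [← hτ U n, TwistLib.puSec_res, AmpleLib.res_res]
      exact (QCohLib.map_map' L _ _ _).trans (QCohLib.app_map τ.hom _ _).symm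
    rw [hv m, hv e, smul_canonical hO1 hj hφ hU e m _ (hχ _), TwistLib.puSec_smul, AmpleLib.res_smul,
      QCohLib.app_smul]
    rfl
  apply le_antisymm
  · rintro _ ⟨c, rfl⟩
    obtain ⟨q, rfl⟩ := hsurj c
    have hq : q ∈ Subring.closure {q : HomogeneousLocalization.Away (𝒮.deg U hU) (jS j U e) |
        ∃ (x : 𝒮.presheaf.obj (op U)) (hx : x ∈ 𝒮.deg U hU 1), q = frac (jS_mem hj hU e) 1 x hx} := by
      rw [closure_frac_eq_top (jS_mem hj hU e) (SymGenLib.isGenDegOne hj U hU)]; trivial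
    refine (Subring.closure_le (t := (Subring.closure (ratios s hW e)).comap
      ((r.appLE D W hf).hom.comp χ))).mpr ?_ hq
    rintro _ ⟨x, hx, rfl⟩
    obtain ⟨m, rfl⟩ := exists_of_mem_one hj U hU hx
    exact Subring.subset_closure ⟨m, hval m⟩
  · refine Subring.closure_le.mpr ?_
    rintro a ⟨m, hm⟩
    refine ⟨χ (frac (jS_mem hj hU e) 1 (jS j U m) (jS_mem hj hU m)), (hgW W le_rfl).1 ?_⟩
    dsimp only
    rw [AmpleLib.res_res]
    exact (hval m).symm.trans hm

include hO1 hj hφ hτ in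
/-- the immersion criterion, comparing with a morphism to another bundle -/
theorem isImmersion_of_compare {P₁ : Scheme.{u}} {E₁ : Y.Modules} [Coh.IsQCoh E₁] {L₁ : X.Modules}
    {s₁ : pb g E₁ ⟶ L₁} {𝒮₁ : RelProj.QCGrAlg Y} {j₁ : E₁ ⟶ 𝒮₁.toModule} {p₁ : P₁ ⟶ Y}
    {chart₁ : ∀ (U : Y.Opens) (hU : IsAffineOpen U), (((p₁ ⁻¹ᵁ U : P₁.Opens) : Scheme.{u}) ≅ Proj (𝒮₁.deg U hU))}
    {O1₁ : P₁.Modules} {φ₁ : E₁ ⟶ (Scheme.Modules.pushforward p₁).obj O1₁}
    {lam₁ : ∀ (U : Y.Opens) (hU : IsAffineOpen U),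
      O1₁ ⟶ (Scheme.Modules.pushforward (RelProj.emb p₁ chart₁ U hU)).obj (GrTwist.twist (𝒮₁.deg U hU) 1)}
    (hP₁ : RelProj.IsRelProj 𝒮₁ p₁ chart₁) (hO1₁ : RelProj.IsRelTwist 𝒮₁ p₁ chart₁ 1 O1₁ lam₁)
    (hj₁ : RelProj.IsGrSymAlg E₁ 𝒮₁ j₁)
    (hφ₁ : ∀ (U : Y.Opens) (hU : IsAffineOpen U) (e : Γ(E₁, U))
      (y : ↥(RelProj.emb p₁ chart₁ U hU ⁻¹ᵁ (p₁ ⁻¹ᵁ U))),
      GrTwist.val (V := RelProj.emb p₁ chart₁ U hU ⁻¹ᵁ (p₁ ⁻¹ᵁ U))
          ((lam₁ U hU).app (p₁ ⁻¹ᵁ U) ((φ₁.app U) e)) y =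
        algebraMap (𝒮₁.presheaf.obj (op U)) (GrTwist.Loc (𝒮₁.deg U hU) y.1)
          ((j₁.app U) e : 𝒮₁.presheaf.obj (op U)))
    {r₁ : X ⟶ P₁} (hr₁ : r₁ ≫ p₁ = g) [IsImmersion r₁] (hI₁ : Induces s₁ φ₁ r₁ hr₁)
    (h : ∀ x : X, ∃ (U : Y.Opens) (_ : IsAffineOpen U) (e₁ : Γ(E₁, U)) (e : Γ(E, U)) (hx : x ∈ g ⁻¹ᵁ U),
      GenAt L (qVal s U e) hx ∧
      (∀ (z : X) (hz : z ∈ g ⁻¹ᵁ U), GenAt L (qVal s U e) hz → GenAt L₁ (qVal s₁ U e₁) hz) ∧
      ∀ (W : X.Opens) (hW : W ≤ g ⁻¹ᵁ U), ratios s₁ hW e₁ ⊆ ratios s hW e) :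
    IsImmersion r := by
  obtain ⟨τ₁, hτ₁⟩ := hI₁
  refine isImmersion_of_targets r fun x => ?_
  obtain ⟨U, hU, e₁, e, hx, hgx, hloc, hrat⟩ := h x
  let D := bOpen p chart j hU e
  let D₁ := bOpen p₁ chart₁ j₁ hU e₁
  let W := r ⁻¹ᵁ D
  have hW : W ≤ g ⁻¹ᵁ U := fun z hz => by
    rw [← hr]
    exact bOpen_le (p := p) (chart := chart) (j := j) hU e hz
  refine ⟨D, (mem_bOpen_iff (hr := hr) hO1 hj hφ τ hτ hU e hx).mpr hgx, ?_⟩
  have hW₁ : W ≤ r₁ ⁻¹ᵁ D₁ := fun z hz => (mem_bOpen_iff (hr := hr₁) hO1₁ hj₁ hφ₁ τ₁ hτ₁ hU e₁ (hW hz)).mpr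
    (hloc z (hW hz) ((mem_bOpen_iff (hr := hr) hO1 hj hφ τ hτ hU e (hW hz)).mp hz))
  haveI : IsAffine (D : Scheme.{u}) :=
    (IsAffineOpen.image_of_isOpenImmersion
      (Proj.isAffineOpen_basicOpen (𝒮.deg U hU) (jS j U e) (jS_mem hj hU e) one_pos) (RelProj.emb p chart U hU))
  haveI : IsAffine (D₁ : Scheme.{u}) :=
    (IsAffineOpen.image_of_isOpenImmersion
      (Proj.isAffineOpen_basicOpen (𝒮₁.deg U hU) (jS j₁ U e₁) (jS_mem hj₁ hU e₁) one_pos)
      (RelProj.emb p₁ chart₁ U hU))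
  haveI : IsImmersion (r.resLE D W le_rfl) := by
    refine isImmersion_of_range_le (r₁.resLE D₁ W hW₁) _ ?_
    rintro _ ⟨c, rfl⟩
    have h1 : r₁.appLE D₁ W hW₁ (D₁.topIso.hom c) ∈ (r.appLE D W le_rfl).hom.range := by
      rw [range_appLE_eq_closure (hr := hr) hO1 hj hφ τ hτ hU e hW le_rfl]
      refine Subring.closure_mono (hrat W hW) ?_
      rw [← range_appLE_eq_closure (hr := hr₁) hO1₁ hj₁ hφ₁ τ₁ hτ₁ hU e₁ hW hW₁]
      exact ⟨_, rfl⟩
    obtain ⟨d, hd⟩ := h1
    refine ⟨D.topIso.inv d, ?_⟩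
    simp only [Scheme.Hom.appTop, Scheme.Hom.resLE_app_top, CommRingCat.comp_apply,
      ← CommRingCat.comp_apply _ D.topIso.hom, Iso.inv_hom_id, CommRingCat.id_apply]
    exact congrArg W.topIso.inv hd
  rw [← Scheme.Hom.resLE_comp_ι r (le_refl W)]
  infer_instance

end EGA2SymLib

end
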