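import Mathlib
import Groth.Agent.EGA2SymLib.PBUniq
import Groth.Agent.SerreVanLib.Converse
import Groth.Agent.AmpleDevLib.Pull
import Groth.Agent.KFlatLib.PullTensor

/-!
# Twisting the module of a projective bundle by an invertible module: generalities
-/

set_option autoImplicit false
universe u

open CategoryTheory CategoryTheory.Limits AlgebraicGeometry TopologicalSpace Opposite
open KFlatLib (pb puSec pullθ)
open scoped HomogeneousIdeal
open AmpleLib (res GenOn GenAt shT)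

noncomputable section

namespace EGA2SymLib

section general

variable {X Y T : Scheme.{u}}

theorem shT_add_left {A B : X.Modules} {W : X.Opens} (a a' : Γ(A, W)) (b : Γ(B, W)) :
    shT (a + a') b = shT a b + shT a' b :=
  (congrArg (KFlatLib.shApp A B W) (TensorProduct.add_tmul (R := Γ(X, W)) a a' b)).trans
    (map_add (((PresheafOfModules.sheafificationAdjunction.{u} (R := X.ringCatSheaf)
      (𝟙 X.ringCatSheaf.obj)).unit.app (KFlatLib.pT A B : X.PresheafOfModules)).app (op W)).hom _ _)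

/-- generators go to generators under an isomorphism -/
theorem genOn_app_iso {M N : X.Modules} (τ : M ≅ N) {W : X.Opens} {σ : Γ(M, W)} (h : GenOn M σ) :
    GenOn N (τ.hom.app W σ) :=
  TwistLib.genOn_of_genAt fun _ hx => (TwistLib.genAt_app_iso τ σ hx).mpr (h.genAt hx)

/-- epimorphism onto a module generated by images -/
theorem epi_of_genAt {A B : X.Modules} (f : A ⟶ B)
    (h : ∀ x : X, ∃ (W : X.Opens) (hx : x ∈ W) (a : Γ(A, W)), GenAt B (f.app W a) hx) : Epi f := by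
  refine Preadditive.epi_of_cancel_zero _ fun {N : X.Modules} (q : B ⟶ N) hq => ?_
  refine Scheme.Modules.hom_ext _ _ fun V => ConcreteCategory.hom_ext _ _ fun t =>
    TwistLib.mod_ext N fun x hx => ?_
  obtain ⟨W, hxW, a, ha⟩ := h x
  obtain ⟨c, hc⟩ := ha.2 (B.presheaf.germ V x hx t)
  dsimp only at hc
  let G := ((DerSch.stalkFunctor X x).map q).hom
  change N.presheaf.germ V x hx (q.app V t) = N.presheaf.germ V x hx 0
  have e1 : G (B.presheaf.germ V x hx t) = N.presheaf.germ V x hx (q.app V t) :=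
    DerSch.stalkFunctor_map_germ x q V hx t
  have e2 : G (B.presheaf.germ W x hxW (f.app W a)) = N.presheaf.germ W x hxW (q.app W (f.app W a)) :=
    DerSch.stalkFunctor_map_germ x q W hxW (f.app W a)
  have h0 : q.app W (f.app W a) = 0 := congr($(hq).app W a)
  rw [← e1, ← hc, map_zero]
  have e3 : G (B.presheaf.germ W x hxW (f.app W a)) = 0 := by rw [e2, h0, map_zero]; rfl
  refine (G.map_smul c _).trans ((congrArg (c • ·) e3).trans ?_)
  exact smul_zero _

/-- tensoring an invertible module with a global generator -/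
theorem exists_tensor_gen_iso {A B : X.Modules} (hA : PicF.IsInvertible A) {n₀ : Γ(B, ⊤)} (hn : GenOn B n₀) :
    ∃ κ : A ≅ CohB1.tensorMod A B, ∀ (V : X.Opens) (a : Γ(A, V)),
      κ.hom.app V a = shT a (res B le_top n₀) := by
  let α : A.presheaf ⟶ (CohB1.tensorMod A B).presheaf :=
    { app := fun V => AddCommGrpCat.ofHom (AddMonoidHom.mk' (fun a : Γ(A, V.unop) => shT a (res B le_top n₀))
        fun a b => shT_add_left a b _)
      naturality := fun U V i => by
        ext a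
        refine Eq.trans ?_ (AmpleLib.shT_res i.unop.le a (res B le_top n₀)).symm
        exact congrArg (shT _) (AmpleLib.res_res B _ _ n₀).symm }
  let f : A ⟶ CohB1.tensorMod A B := ⟨PresheafOfModules.homMk α fun V r a => by
    show shT ((show Γ(X, V.unop) from r) • (show Γ(A, V.unop) from a)) (res B le_top n₀) =
      (show Γ(X, V.unop) from r) • shT (show Γ(A, V.unop) from a) (res B le_top n₀)
    have h := AmpleLib.shT_smul (show Γ(X, V.unop) from r) 1 (show Γ(A, V.unop) from a) (res B le_top n₀)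
    rwa [one_smul, mul_one] at h⟩
  haveI : IsIso f := TwistLib.isIso_of_gen f fun x => by
    obtain ⟨U, e, hxU, he⟩ := TwistLib.exists_genOn hA x
    exact ⟨U, hxU, e, he.genAt hxU, (AmpleThLib.shT_genOn he (hn.res le_top)).genAt hxU⟩
  exact ⟨asIso f, fun V a => rfl⟩

/-- the canonical comparison of composites, on pulled back sections -/
theorem comp_congr_puSec {Z : Scheme.{u}} (f : Z ⟶ T) {h : T ⟶ Y} {k : Z ⟶ Y} (e : f ≫ h = k) (M : Y.Modules)
    {W : Y.Opens} (x : Γ(M, W)) :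
    (((Scheme.Modules.pullbackComp f h).hom.app M) ≫ (Scheme.Modules.pullbackCongr e).hom.app M).app
        (f ⁻¹ᵁ (h ⁻¹ᵁ W)) (puSec f (puSec h x)) =
      res (pb k M) (by rw [← e]; rfl) (puSec k x) := by
  show ((Scheme.Modules.pullbackCongr e).hom.app M).app _
    (((Scheme.Modules.pullbackComp f h).hom.app M).app _ (puSec f (puSec h x))) = _
  rw [CohCmpLib.pullbackComp_puSec]
  exact pullbackCongr_hom_puSec e M x

/-- the comparison of a tensor product -/
theorem pullθ_shT (f : X ⟶ Y) (M N : Y.Modules) {U : Y.Opens} (m : Γ(M, U)) (n : Γ(N, U)) :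
    (pullθ f M N).app (f ⁻¹ᵁ U) (puSec f (shT m n : Γ(CohB1.tensorMod M N, U))) =
      (shT (puSec f m) (puSec f n) : Γ(CohB1.tensorMod (pb f M) (pb f N), f ⁻¹ᵁ U)) :=
  KFlatLib.pullθ_puSec f M N m n

/-- maps act on pure tensors factorwise -/
theorem tensMap_shT {A A' : X.Modules} (a : A ⟶ A') (B : X.Modules) {U : X.Opens} (m : Γ(A, U)) (n : Γ(B, U)) :
    (((DCoh.tensorBi (X := X)).map a).app B).app U (shT m n : Γ(CohB1.tensorMod A B, U)) =
      (shT (a.app U m) n : Γ(CohB1.tensorMod A' B, U)) :=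
  KFlatLib.tensorBi_map₁_shTm a B m n

theorem tensMap₂_shT (A : X.Modules) {B B' : X.Modules} (b : B ⟶ B') {U : X.Opens} (m : Γ(A, U)) (n : Γ(B, U)) :
    ((((DCoh.tensorBi (X := X)).obj A)).map b).app U (shT m n : Γ(CohB1.tensorMod A B, U)) =
      (shT m (b.app U n) : Γ(CohB1.tensorMod A B', U)) :=
  KFlatLib.tensorBi_map₂_shTm A b m n

/-- homs out of a tensor product -/
theorem tensorMod_hom_ext {M N : Y.Modules} {F : X.Modules} {f : X ⟶ Y}
    {a b : pb f (CohB1.tensorMod M N) ⟶ F}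
    (h : ∀ (U : Y.Opens) (m : Γ(M, U)) (n : Γ(N, U)),
      a.app (f ⁻¹ᵁ U) (puSec f (shT m n)) = b.app (f ⁻¹ᵁ U) (puSec f (shT m n))) : a = b :=
  KFlatLib.pullTens_hom_ext f h

end general

section bundle

variable {Y T P : Scheme.{u}} {E : Y.Modules} {g : T ⟶ Y} {M : T.Modules} {𝒮 : RelProj.QCGrAlg Y}
  {j : E ⟶ 𝒮.toModule} {p : P ⟶ Y}
  {chart : ∀ (U : Y.Opens) (hU : IsAffineOpen U), (((p ⁻¹ᵁ U : P.Opens) : Scheme.{u}) ≅ Proj (𝒮.deg U hU))}
  {O1 : P.Modules} (φ : E ⟶ (Scheme.Modules.pushforward p).obj O1)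

/-- the adjoint of the canonical map -/
abbrev adjA : pb p E ⟶ O1 := ((Scheme.Modules.pullbackPushforwardAdjunction p).homEquiv E O1).symm φ

theorem adjA_puSec {U : Y.Opens} (m : Γ(E, U)) :
    (adjA φ).app (p ⁻¹ᵁ U) (puSec p m) = (show Γ(O1, p ⁻¹ᵁ U) from φ.app U m) :=
  congrArg (fun χ => Scheme.Modules.Hom.app χ U m)
    (((Scheme.Modules.pullbackPushforwardAdjunction p).homEquiv_unit E O1 (adjA φ)).symm.trans
      (Equiv.apply_symm_apply _ φ))

/-- the quotient induced by a morphism -/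
abbrev indQ {r : T ⟶ P} (hr : r ≫ p = g) (τ : pb r O1 ⟶ M) : pb g E ⟶ M := CycPBLib.compQ (adjA φ) hr τ

theorem indQ_puSec {r : T ⟶ P} (hr : r ≫ p = g) (τ : pb r O1 ⟶ M) {U : Y.Opens} (m : Γ(E, U)) :
    (indQ φ hr τ).app (g ⁻¹ᵁ U) (puSec g m) =
      M.presheaf.map (eqToHom (by rw [← hr]; rfl)).op
        (τ.app (r ⁻¹ᵁ (p ⁻¹ᵁ U)) (puSec r (show Γ(O1, p ⁻¹ᵁ U) from φ.app U m))) := by
  rw [← adjA_puSec φ m]
  exact CycPBLib.comp_apply_puSec (adjA φ) hr τ m

variable {lam : ∀ (U : Y.Opens) (hU : IsAffineOpen U),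
    O1 ⟶ (Scheme.Modules.pushforward (RelProj.emb p chart U hU)).obj (GrTwist.twist (𝒮.deg U hU) 1)}
  (hP : RelProj.IsRelProj 𝒮 p chart) (hO1 : RelProj.IsRelTwist 𝒮 p chart 1 O1 lam)
  (hj : RelProj.IsGrSymAlg E 𝒮 j)
  (hφ : ∀ (U : Y.Opens) (hU : IsAffineOpen U) (e : Γ(E, U))
    (y : ↥(RelProj.emb p chart U hU ⁻¹ᵁ (p ⁻¹ᵁ U))),
    GrTwist.val (V := RelProj.emb p chart U hU ⁻¹ᵁ (p ⁻¹ᵁ U))
        ((lam U hU).app (p ⁻¹ᵁ U) ((φ.app U) e)) y =
      algebraMap (𝒮.presheaf.obj (op U)) (GrTwist.Loc (𝒮.deg U hU) y.1)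
        ((j.app U) e : 𝒮.presheaf.obj (op U)))

include hP hO1 hj hφ in
/-- morphisms inducing the same quotient agree -/
theorem eq_of_indQ [Coh.IsQCoh E] {r r' : T ⟶ P} (hr : r ≫ p = g) (hr' : r' ≫ p = g)
    (τ : pb r O1 ≅ M) (τ' : pb r' O1 ≅ M) (h : indQ φ hr τ.hom = indQ φ hr' τ'.hom) : r = r' :=
  eq_of_induces (s := indQ φ hr' τ'.hom) (hr := hr) (hr' := hr') hP hO1 hj hφ
    ⟨τ, fun U m => (indQ_puSec φ hr τ.hom m).symm.trans congr(($h).app (g ⁻¹ᵁ U) (puSec g m))⟩
    ⟨τ', fun U m => (indQ_puSec φ hr' τ'.hom m).symm⟩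

include hP hO1 hj hφ in
/-- the canonical quotient is onto -/
theorem epi_adjA [Coh.IsQCoh E] : Epi (adjA φ) :=
  Groth.Agent.S5732.result E inferInstance 𝒮 j hj p chart hP O1 lam hO1 φ hφ

end bundle

end EGA2SymLib

end
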