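import Mathlib
import Groth.Agent.EGA2SymLib.ImmCrit
import Groth.Agent.EGA2SymLib.PBTensor
import Groth.Agent.AmpleThLib.Ample
import Groth.Agent.S2297

/-!
# Very ample tensor a quotient of a pulled back module
-/

set_option autoImplicit false
universe u

open CategoryTheory CategoryTheory.Limits AlgebraicGeometry TopologicalSpace Opposite
open KFlatLib (pb puSec pullθ)
open scoped HomogeneousIdeal
open AmpleLib (res GenOn GenAt shT)

noncomputable section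

namespace EGA2SymLib

variable {X Y : Scheme.{u}}

/-- a factor of a generating tensor generates -/
theorem genAt_left_of_tensor {A B : X.Modules} (hA : PicF.IsInvertible A) (hB : PicF.IsInvertible B)
    {W : X.Opens} {a : Γ(A, W)} {b : Γ(B, W)} {x : X} (hx : x ∈ W)
    (h : GenAt (CohB1.tensorMod A B) (shT a b) hx) : GenAt A a hx := by
  obtain ⟨U, g, hxU, hg⟩ := TwistLib.exists_genOn hA x
  obtain ⟨U', g', hxU', hg'⟩ := TwistLib.exists_genOn hB x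
  let V := W ⊓ (U ⊓ U')
  have hxV : x ∈ V := ⟨hx, hxU, hxU'⟩
  have hVW : V ≤ W := inf_le_left
  have hgV := hg.res (inf_le_right.trans inf_le_left : V ≤ U)
  have hg'V := hg'.res (inf_le_right.trans inf_le_right : V ≤ U')
  obtain ⟨c, hc⟩ := (hg V (inf_le_right.trans inf_le_left)).2 (res A hVW a)
  obtain ⟨d, hd⟩ := (hg' V (inf_le_right.trans inf_le_right)).2 (res B hVW b)
  dsimp only at hc hd
  have h1 := (AmpleLib.genAt_res hVW _ (x := x) hxV).mpr h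
  rw [AmpleLib.shT_res, ← hc, ← hd, AmpleLib.shT_smul,
    AmpleLib.genAt_smul_iff _ _ hxV ((hgV.genAt hxV).tensor (hg'V.genAt hxV)), Scheme.basicOpen_mul] at h1
  refine (AmpleLib.genAt_res hVW a (x := x) hxV).mp ?_
  rw [← hc, AmpleLib.genAt_smul_iff _ _ hxV (hgV.genAt hxV)]
  exact h1.1

/-- a point of a bundle lies in the chart of some section -/
theorem exists_genAt_of_induces {P : Scheme.{u}} {E : Y.Modules} [Coh.IsQCoh E] {g : X ⟶ Y} {L : X.Modules}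
    {s : pb g E ⟶ L} {𝒮 : RelProj.QCGrAlg Y} {j : E ⟶ 𝒮.toModule} {p : P ⟶ Y}
    {chart : ∀ (U : Y.Opens) (hU : IsAffineOpen U), (((p ⁻¹ᵁ U : P.Opens) : Scheme.{u}) ≅ Proj (𝒮.deg U hU))}
    {O1 : P.Modules} {φ : E ⟶ (Scheme.Modules.pushforward p).obj O1}
    {lam : ∀ (U : Y.Opens) (hU : IsAffineOpen U),
      O1 ⟶ (Scheme.Modules.pushforward (RelProj.emb p chart U hU)).obj (GrTwist.twist (𝒮.deg U hU) 1)}
    (hO1 : RelProj.IsRelTwist 𝒮 p chart 1 O1 lam)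
    (hj : RelProj.IsGrSymAlg E 𝒮 j)
    (hφ : ∀ (U : Y.Opens) (hU : IsAffineOpen U) (e : Γ(E, U))
      (y : ↥(RelProj.emb p chart U hU ⁻¹ᵁ (p ⁻¹ᵁ U))),
      GrTwist.val (V := RelProj.emb p chart U hU ⁻¹ᵁ (p ⁻¹ᵁ U))
          ((lam U hU).app (p ⁻¹ᵁ U) ((φ.app U) e)) y =
        algebraMap (𝒮.presheaf.obj (op U)) (GrTwist.Loc (𝒮.deg U hU) y.1)
          ((j.app U) e : 𝒮.presheaf.obj (op U)))
    {r : X ⟶ P} {hr : r ≫ p = g} (hI : Induces s φ r hr) {U : Y.Opens} (hU : IsAffineOpen U) {x : X}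
    (hx : x ∈ g ⁻¹ᵁ U) : ∃ e : Γ(E, U), GenAt L (qVal s U e) hx := by
  obtain ⟨τ, hτ⟩ := hI
  have hxp : r x ∈ p ⁻¹ᵁ U := by
    show x ∈ r ⁻¹ᵁ (p ⁻¹ᵁ U)
    rw [← Scheme.Hom.comp_preimage, hr]; exact hx
  obtain ⟨y, hy⟩ := (MiscFlat6.emb_opensRange (chart := chart) U hU).ge hxp
  obtain ⟨b, hb, hyb⟩ := GrTwistLib.exists_basicOpen_of_genDegOne _ (SymGenLib.isGenDegOne hj U hU) y
  obtain ⟨e, rfl⟩ := exists_of_mem_one hj U hU hb
  exact ⟨e, (mem_bOpen_iff (hr := hr) hO1 hj hφ τ hτ hU e hx).mp ⟨y, hyb, hy⟩⟩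

/-- the tensor product of two quotients -/
def quotT {q : X ⟶ Y} {E E' : Y.Modules} {L L' : X.Modules} (s : pb q E ⟶ L) (s' : pb q E' ⟶ L') :
    pb q (CohB1.tensorMod E E') ⟶ CohB1.tensorMod L L' :=
  (pullθ q E E' : pb q (CohB1.tensorMod E E') ⟶ CohB1.tensorMod (pb q E) (pb q E')) ≫
    (((DCoh.tensorBi (X := X)).map s).app (pb q E') :
      CohB1.tensorMod (pb q E) (pb q E') ⟶ CohB1.tensorMod L (pb q E')) ≫
    (((DCoh.tensorBi (X := X)).obj L).map s' : CohB1.tensorMod L (pb q E') ⟶ CohB1.tensorMod L L')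

theorem qVal_quotT {q : X ⟶ Y} {E E' : Y.Modules} {L L' : X.Modules} (s : pb q E ⟶ L) (s' : pb q E' ⟶ L')
    {U : Y.Opens} (m : Γ(E, U)) (n : Γ(E', U)) :
    qVal (quotT s s') U (shT m n) = shT (qVal s U m) (qVal s' U n) := by
  show (((DCoh.tensorBi (X := X)).obj L).map s').app _
    ((((DCoh.tensorBi (X := X)).map s).app (pb q E')).app _ ((pullθ q E E').app _ (puSec q (shT m n)))) = _
  rw [pullθ_shT]
  refine (congrArg (((DCoh.tensorBi (X := X)).obj L).map s' |>.app _).hom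
    (tensMap_shT s (pb q E') (puSec q m) (puSec q n))).trans ?_
  exact tensMap₂_shT L s' _ _

/-- tensoring a very ample module with a quotient of a pulled back module -/
theorem isRelVeryAmple_tensor_of_quot {q : X ⟶ Y} {L L' : X.Modules} (hL : PicF.IsInvertible L)
    (hL' : PicF.IsInvertible L') (hva : RelProj.IsRelVeryAmple q L) {E' : Y.Modules} [Coh.IsQCoh E']
    (s' : pb q E' ⟶ L') [Epi s'] : RelProj.IsRelVeryAmple q (CohB1.tensorMod L L') := by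
  obtain ⟨E, hE, 𝒮, j, hj, P, p, chart, hP, O1, lam, hO1, i, hi, hip, ⟨e⟩⟩ := hva
  haveI := hE
  haveI := hi
  obtain ⟨φ, hφ⟩ := exists_canonicalMap_one hP hO1 j hj.2
  let s : pb q E ⟶ L := indQ φ hip e.symm.hom
  have hI : Induces s φ i hip := ⟨e.symm, fun U m => (indQ_puSec φ hip e.symm.hom m).symm⟩
  haveI : Coh.IsQCoh L' :=
    (LocSuppLib.isCoh_of_isFinLocFree fun x =>
      let ⟨V, h⟩ := (CohCmpLib.invertible_iff_rank_one _).1 hL' x; ⟨V, 1, h⟩).1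
  obtain ⟨𝒮', j', hj'⟩ := exists_isGrSymAlg E'
  obtain ⟨P', p', chart', hP'⟩ := MiscFlat6.exists_relProj 𝒮'
  obtain ⟨O1', lam', hO1'⟩ := GrModLib6.exists_isRelTwist hP' 1
  obtain ⟨φ', hφ'⟩ := exists_canonicalMap_one hP' hO1' j' hj'.2
  obtain ⟨r', hr', hI'⟩ := exists_induces s' hj' hP' hL' hO1' hφ'
  haveI : Coh.IsQCoh (CohB1.tensorMod E E') := (Groth.Agent.S2297.result E E').1
  have hT : PicF.IsInvertible (CohB1.tensorMod L L') := AmpleThLib.shT_isInvertible hL hL'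
  haveI : Coh.IsQCoh (CohB1.tensorMod L L') :=
    (LocSuppLib.isCoh_of_isFinLocFree fun x =>
      let ⟨V, h⟩ := (CohCmpLib.invertible_iff_rank_one _).1 hT x; ⟨V, 1, h⟩).1
  have hpair : ∀ x : X, ∃ (U : Y.Opens) (_ : IsAffineOpen U) (e : Γ(E, U)) (e' : Γ(E', U)) (hx : x ∈ q ⁻¹ᵁ U),
      GenAt (CohB1.tensorMod L L') (qVal (quotT s s') U (shT e e')) hx := by
    intro x
    obtain ⟨U, hU, hxU, -⟩ := exists_isAffineOpen_mem_and_subset (X := Y) (x := q x) (U := ⊤) trivial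
    have hx : x ∈ q ⁻¹ᵁ U := hxU
    obtain ⟨e, he⟩ := exists_genAt_of_induces hO1 hj hφ hI hU hx
    obtain ⟨e', he'⟩ := exists_genAt_of_induces hO1' hj' hφ' hI' hU hx
    refine ⟨U, hU, e, e', hx, ?_⟩
    rw [qVal_quotT]
    exact he.tensor he'
  haveI : Epi (quotT s s') := epi_of_genAt _ fun x => by
    obtain ⟨U, -, e, e', hx, h⟩ := hpair x
    exact ⟨q ⁻¹ᵁ U, hx, puSec q (shT e e'), h⟩
  obtain ⟨𝒯, k, hk⟩ := exists_isGrSymAlg (CohB1.tensorMod E E')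
  obtain ⟨Q, pQ, chartQ, hQ⟩ := MiscFlat6.exists_relProj 𝒯
  obtain ⟨OQ, lamQ, hOQ⟩ := GrModLib6.exists_isRelTwist hQ 1
  obtain ⟨φQ, hφQ⟩ := exists_canonicalMap_one hQ hOQ k hk.2
  obtain ⟨r, hr, τ, hτ⟩ := exists_induces (quotT s s') hk hQ hT hOQ hφQ
  refine ⟨_, inferInstance, 𝒯, k, hk, Q, pQ, chartQ, hQ, OQ, lamQ, hOQ, r, ?_, hr, ⟨τ.symm⟩⟩
  refine isImmersion_of_compare (hr := hr) hOQ hk hφQ τ hτ hP hO1 hj hφ hip hI fun x => ?_
  obtain ⟨U, hU, e₁, e', hx, h⟩ := hpair x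
  refine ⟨U, hU, e₁, shT e₁ e', hx, h, fun z hz hgz => ?_, fun W hW => ?_⟩
  · rw [qVal_quotT] at hgz
    exact genAt_left_of_tensor hL hL' hz hgz
  · rintro a ⟨m, hm⟩
    refine ⟨shT m e', ?_⟩
    rw [qVal_quotT, qVal_quotT, AmpleLib.shT_res, AmpleLib.shT_res, hm]
    have h2 := AmpleLib.shT_smul a 1 (res L hW (qVal s U e₁)) (res L' hW (qVal s' U e'))
    rwa [one_smul, mul_one] at h2

end EGA2SymLib

end

namespace EGA2SymLib

open CategoryTheory CategoryTheory.Limits AlgebraicGeometry TopologicalSpace Opposite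
open KFlatLib (pb puSec)

variable {X Y : Scheme.{u}}

/-- a very ample module is a quotient of a pulled back module -/
theorem exists_epi_of_isRelVeryAmple {q : X ⟶ Y} {L : X.Modules} (hva : RelProj.IsRelVeryAmple q L) :
    ∃ (E : Y.Modules) (_ : Coh.IsQCoh E) (s : pb q E ⟶ L), Epi s := by
  obtain ⟨E, hE, 𝒮, j, hj, P, p, chart, hP, O1, lam, hO1, i, hi, hip, ⟨e⟩⟩ := hva
  haveI := hE
  obtain ⟨φ, hφ⟩ := exists_canonicalMap_one hP hO1 j hj.2
  have hI : Induces (indQ φ hip e.symm.hom) φ i hip := ⟨e.symm, fun U m => (indQ_puSec φ hip e.symm.hom m).symm⟩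
  refine ⟨E, hE, indQ φ hip e.symm.hom, epi_of_genAt _ fun x => ?_⟩
  obtain ⟨U, hU, hxU, -⟩ := exists_isAffineOpen_mem_and_subset (X := Y) (x := q x) (U := ⊤) trivial
  obtain ⟨m, hm⟩ := exists_genAt_of_induces hO1 hj hφ hI hU (show x ∈ q ⁻¹ᵁ U from hxU)
  exact ⟨q ⁻¹ᵁ U, hxU, puSec q m, hm⟩

theorem isRelVeryAmple_of_iso {q : X ⟶ Y} {L L' : X.Modules} (f : L ≅ L') (h : RelProj.IsRelVeryAmple q L) :
    RelProj.IsRelVeryAmple q L' := by
  obtain ⟨E, hE, 𝒮, j, hj, P, p, chart, hP, O1, lam, hO1, i, hi, hip, ⟨e⟩⟩ := h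
  exact ⟨E, hE, 𝒮, j, hj, P, p, chart, hP, O1, lam, hO1, i, hi, hip, ⟨f.symm ≪≫ e⟩⟩

theorem isRelVeryAmple_tensor {q : X ⟶ Y} {L L' : X.Modules} (hL : PicF.IsInvertible L)
    (hL' : PicF.IsInvertible L') (h : RelProj.IsRelVeryAmple q L) (h' : RelProj.IsRelVeryAmple q L') :
    RelProj.IsRelVeryAmple q (CohB1.tensorMod L L') := by
  obtain ⟨E', hE', s', hs'⟩ := exists_epi_of_isRelVeryAmple h'
  haveI := hE'
  haveI := hs'
  exact isRelVeryAmple_tensor_of_quot hL hL' h s'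

end EGA2SymLib
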