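import Mathlib
import Groth.Agent.EGA2SymLib.TensorVA

/-!
# Very ampleness through the direct image
-/

set_option autoImplicit false
universe u

open CategoryTheory CategoryTheory.Limits AlgebraicGeometry TopologicalSpace Opposite
open KFlatLib (pb puSec)
open scoped HomogeneousIdeal
open AmpleLib (res GenOn GenAt)

noncomputable section

namespace EGA2SymLib

section crit

variable {Y X P : Scheme.{u}} {E : Y.Modules} [Coh.IsQCoh E] {g : X ⟶ Y} {L : X.Modules} {s : pb g E ⟶ L}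
  {𝒮 : RelProj.QCGrAlg Y} {j : E ⟶ 𝒮.toModule} {p : P ⟶ Y}
  {chart : ∀ (U : Y.Opens) (hU : IsAffineOpen U), (((p ⁻¹ᵁ U : P.Opens) : Scheme.{u}) ≅ Proj (𝒮.deg U hU))}
  {O1 : P.Modules} {φ : E ⟶ (Scheme.Modules.pushforward p).obj O1}
  {lam : ∀ (U : Y.Opens) (hU : IsAffineOpen U),
    O1 ⟶ (Scheme.Modules.pushforward (RelProj.emb p chart U hU)).obj (GrTwist.twist (𝒮.deg U hU) 1)}
  (hO1 : RelProj.IsRelTwist 𝒮 p chart 1 O1 lam)
  (hj : RelProj.IsGrSymAlg E 𝒮 j)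
  (hφ : ∀ (U : Y.Opens) (hU : IsAffineOpen U) (e : Γ(E, U))
    (y : ↥(RelProj.emb p chart U hU ⁻¹ᵁ (p ⁻¹ᵁ U))),
    GrTwist.val (V := RelProj.emb p chart U hU ⁻¹ᵁ (p ⁻¹ᵁ U))
        ((lam U hU).app (p ⁻¹ᵁ U) ((φ.app U) e)) y =
      algebraMap (𝒮.presheaf.obj (op U)) (GrTwist.Loc (𝒮.deg U hU) y.1)
        ((j.app U) e : 𝒮.presheaf.obj (op U)))

include hO1 hj hφ in
/-- the immersion criterion on the loci of sections -/
theorem isImmersion_of_local {r : X ⟶ P} {hr : r ≫ p = g} (hI : Induces s φ r hr)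
    (h : ∀ x : X, ∃ (U : Y.Opens) (_ : IsAffineOpen U) (e : Γ(E, U)) (hx : x ∈ g ⁻¹ᵁ U),
      GenAt L (qVal s U e) hx ∧
      ∀ (W : X.Opens) (hW : W ≤ g ⁻¹ᵁ U), (∀ (z : X) (hz : z ∈ g ⁻¹ᵁ U), z ∈ W ↔ GenAt L (qVal s U e) hz) →
        ∃ (A : Scheme.{u}) (_ : IsAffine A) (f : (W : Scheme.{u}) ⟶ A) (_ : IsImmersion f),
          ∀ a : Γ(A, ⊤), W.topIso.hom (f.appTop a) ∈ Subring.closure (ratios s hW e)) :
    IsImmersion r := by
  obtain ⟨τ, hτ⟩ := hI
  refine isImmersion_of_targets r fun x => ?_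
  obtain ⟨U, hU, e, hx, hgx, hrest⟩ := h x
  let D := bOpen p chart j hU e
  let W := r ⁻¹ᵁ D
  have hW : W ≤ g ⁻¹ᵁ U := fun z hz => by
    rw [← hr]
    exact bOpen_le (p := p) (chart := chart) (j := j) hU e hz
  refine ⟨D, (mem_bOpen_iff (hr := hr) hO1 hj hφ τ hτ hU e hx).mpr hgx, ?_⟩
  obtain ⟨A, hA, f, hf, hfa⟩ := hrest W hW fun z hz => mem_bOpen_iff (hr := hr) hO1 hj hφ τ hτ hU e hz
  haveI := hA
  haveI := hf
  haveI : IsAffine (D : Scheme.{u}) :=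
    (IsAffineOpen.image_of_isOpenImmersion
      (Proj.isAffineOpen_basicOpen (𝒮.deg U hU) (jS j U e) (jS_mem hj hU e) one_pos) (RelProj.emb p chart U hU))
  haveI : IsImmersion (r.resLE D W le_rfl) := by
    refine isImmersion_of_range_le f _ ?_
    rintro _ ⟨c, rfl⟩
    have h1 := hfa c
    rw [← range_appLE_eq_closure (hr := hr) hO1 hj hφ τ hτ hU e hW le_rfl] at h1
    obtain ⟨d, hd⟩ := h1
    refine ⟨D.topIso.inv d, ?_⟩
    simp only [Scheme.Hom.appTop, Scheme.Hom.resLE_app_top, CommRingCat.comp_apply,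
      ← CommRingCat.comp_apply _ D.topIso.hom, Iso.inv_hom_id, CommRingCat.id_apply]
    refine (congrArg W.topIso.inv hd).trans ?_
    exact CategoryTheory.Iso.hom_inv_id_apply W.topIso _
  rw [← Scheme.Hom.resLE_comp_ι r (le_refl W)]
  infer_instance

end crit

variable {X Y : Scheme.{u}}

/-- the canonical map from the pullback of the direct image -/
abbrev canQ (q : X ⟶ Y) (L : X.Modules) : pb q ((Scheme.Modules.pushforward q).obj L) ⟶ L :=
  adjA (𝟙 ((Scheme.Modules.pushforward q).obj L))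

theorem qVal_canQ (q : X ⟶ Y) (L : X.Modules) (U : Y.Opens) (m : Γ(L, q ⁻¹ᵁ U)) :
    qVal (canQ q L) U m = m :=
  adjA_puSec (𝟙 ((Scheme.Modules.pushforward q).obj L)) m

/-- very ampleness from sections of the module over affine opens of the base -/
theorem isRelVeryAmple_of_sections {q : X ⟶ Y} {L : X.Modules} (hL : PicF.IsInvertible L)
    [Coh.IsQCoh ((Scheme.Modules.pushforward q).obj L)]
    (h : ∀ x : X, ∃ (U : Y.Opens) (_ : IsAffineOpen U) (e : Γ(L, q ⁻¹ᵁ U)) (hx : x ∈ q ⁻¹ᵁ U),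
      GenAt L e hx ∧
      ∀ (W : X.Opens) (hW : W ≤ q ⁻¹ᵁ U), (∀ (z : X) (hz : z ∈ q ⁻¹ᵁ U), z ∈ W ↔ GenAt L e hz) →
        ∃ (A : Scheme.{u}) (_ : IsAffine A) (f : (W : Scheme.{u}) ⟶ A) (_ : IsImmersion f),
          ∀ a : Γ(A, ⊤), W.topIso.hom (f.appTop a) ∈
            Subring.closure {a : Γ(X, W) | ∃ m : Γ(L, q ⁻¹ᵁ U), res L hW m = a • res L hW e}) :
    RelProj.IsRelVeryAmple q L := by
  haveI : Coh.IsQCoh L :=
    (LocSuppLib.isCoh_of_isFinLocFree fun x =>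
      let ⟨V, h⟩ := (CohCmpLib.invertible_iff_rank_one _).1 hL x; ⟨V, 1, h⟩).1
  haveI : Epi (canQ q L) := epi_of_genAt _ fun x => by
    obtain ⟨U, -, e, hx, hgx, -⟩ := h x
    exact ⟨q ⁻¹ᵁ U, hx, puSec q (show Γ((Scheme.Modules.pushforward q).obj L, U) from e),
      genAt_congr (qVal_canQ q L U e).symm hgx⟩
  obtain ⟨𝒜, jE, hA⟩ := exists_isGrSymAlg ((Scheme.Modules.pushforward q).obj L)
  obtain ⟨P, p, chart, hP⟩ := MiscFlat6.exists_relProj 𝒜
  obtain ⟨O1, lam, hO1⟩ := GrModLib6.exists_isRelTwist hP 1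
  obtain ⟨φ, hφ⟩ := exists_canonicalMap_one hP hO1 jE hA.2
  obtain ⟨r, hr, hI⟩ := exists_induces (canQ q L) hA hP hL hO1 hφ
  refine ⟨_, inferInstance, 𝒜, jE, hA, P, p, chart, hP, O1, lam, hO1, r, ?_, hr, ?_⟩
  · refine isImmersion_of_local hO1 hA hφ hI fun x => ?_
    obtain ⟨U, hU, e, hx, hgx, hrest⟩ := h x
    refine ⟨U, hU, e, hx, genAt_congr (qVal_canQ q L U e).symm hgx, fun W hW hWe => ?_⟩
    simp only [ratios, qVal_canQ] at hWe ⊢
    exact hrest W hW hWe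
  · obtain ⟨τ, -⟩ := hI
    exact ⟨τ.symm⟩

end EGA2SymLib

end

namespace EGA2SymLib

open CategoryTheory CategoryTheory.Limits AlgebraicGeometry TopologicalSpace Opposite
open AmpleLib (res GenOn GenAt)

/-- a multiple only generates where the factor is invertible -/
theorem mem_basicOpen_of_genAt_smul {X : Scheme.{u}} {M : X.Modules} (hM : PicF.IsInvertible M) {W : X.Opens}
    (r : Γ(X, W)) (σ : Γ(M, W)) {x : X} (hx : x ∈ W) (h : GenAt M (r • σ) hx) : x ∈ X.basicOpen r := by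
  obtain ⟨U, g, hxU, hg⟩ := TwistLib.exists_genOn hM x
  have hxV : x ∈ W ⊓ U := ⟨hx, hxU⟩
  obtain ⟨c, hc⟩ := (hg (W ⊓ U) inf_le_right).2 (res M inf_le_left σ)
  dsimp only at hc
  have h1 := (AmpleLib.genAt_res (inf_le_left : W ⊓ U ≤ W) _ (x := x) hxV).mpr h
  rw [AmpleLib.res_smul, ← hc, smul_smul, AmpleLib.genAt_smul_iff _ _ hxV ((hg.res inf_le_right).genAt hxV),
    Scheme.basicOpen_mul, Scheme.basicOpen_res] at h1
  exact h1.1.2

theorem isRelVeryAmple_toSpecΓ (X : Scheme.{u}) [X.IsQuasiAffine] {L : X.Modules} (hL : PicF.IsInvertible L) :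
    RelProj.IsRelVeryAmple X.toSpecΓ L := by
  haveI : Coh.IsQCoh L :=
    (LocSuppLib.isCoh_of_isFinLocFree fun x =>
      let ⟨V, h⟩ := (CohCmpLib.invertible_iff_rank_one _).1 hL x; ⟨V, 1, h⟩).1
  haveI : Coh.IsQCoh ((Scheme.Modules.pushforward X.toSpecΓ).obj L) := QCohLib.isQCoh_pushforward X.toSpecΓ L
  refine isRelVeryAmple_of_sections hL fun x => ?_
  obtain ⟨U₀, g, hxU₀, hg⟩ := TwistLib.exists_genOn hL x
  obtain ⟨_, ⟨_, ⟨r, hr, rfl⟩, rfl⟩, hxr, hrU⟩ :=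
    (Scheme.IsQuasiAffine.isBasis_basicOpen X).exists_subset_of_mem_open hxU₀ U₀.2
  have hrU' : X.basicOpen r ≤ U₀ := hrU
  obtain ⟨n, e₀, he₀⟩ := (QCohLib.localizingAt_of_qcqs L (W := ⊤) isCompact_univ isQuasiSeparated_univ r).exists_extend
    (res L hrU' g)
  let ρ : Γ(X, ⊤) ⟶ Γ(X, X.basicOpen r) := X.presheaf.map (homOfLE (X.basicOpen_le r)).op
  have hu : IsUnit (ρ r) := RingedSpace.isUnit_res_basicOpen _ r
  have hres : res L (X.basicOpen_le r) (r • e₀) = (ρ r * ρ r ^ n) • res L hrU' g := by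
    rw [AmpleLib.res_smul, ← smul_smul]
    exact congrArg (ρ r • ·) he₀
  have hgen : GenOn L (res L (X.basicOpen_le r) (r • e₀)) := by
    rw [hres]
    refine TwistLib.genOn_of_genAt fun z hz => ?_
    rw [AmpleLib.genAt_smul_iff _ _ hz ((hg.res hrU').genAt hz), Scheme.basicOpen_of_isUnit _ (hu.mul (hu.pow n))]
    exact hz
  have hiff : ∀ (z : X) (hz : z ∈ (⊤ : X.Opens)), z ∈ X.basicOpen r ↔ GenAt L (r • e₀) hz := fun z hz =>
    ⟨fun h => (AmpleLib.genAt_res (X.basicOpen_le r) _ (x := z) h).mp (hgen.genAt h),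
      mem_basicOpen_of_genAt_smul hL r e₀ hz⟩
  refine ⟨⊤, isAffineOpen_top _, (show Γ(L, (⊤ : X.Opens)) from r • e₀), trivial, (hiff x trivial).mp hxr,
    fun W hW hWe => ?_⟩
  obtain rfl : W = X.basicOpen r := SetLike.ext fun z => (hWe z trivial).trans (hiff z trivial).symm
  haveI : IsAffine (X.basicOpen r : Scheme.{u}) := hr
  refine ⟨_, inferInstance, 𝟙 _, inferInstance, fun a => ?_⟩
  have key : ∀ b : Γ(X, X.basicOpen r), b ∈ Subring.closure
      {a : Γ(X, X.basicOpen r) | ∃ m : Γ(L, (⊤ : X.Opens)),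
        res L (X.basicOpen_le r) m = a • res L (X.basicOpen_le r) (r • e₀)} := by
    intro b
    letI : Algebra Γ(X, ⊤) Γ(X, X.basicOpen r) := ρ.hom.toAlgebra
    haveI := isLocalization_basicOpen_of_qcqs (X := X) isCompact_univ isQuasiSeparated_univ r
    obtain ⟨⟨c, ⟨_, k, rfl⟩⟩, hb⟩ := IsLocalization.surj (Submonoid.powers r) b
    change b * ρ (r ^ k) = ρ c at hb
    have e : b = ρ c * (↑hu.unit⁻¹ : Γ(X, X.basicOpen r)) ^ k := by
      rw [← hb, map_pow, mul_assoc, ← mul_pow, IsUnit.mul_val_inv, one_pow, mul_one]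
    rw [e]
    refine mul_mem (Subring.subset_closure ⟨c • (r • e₀), AmpleLib.res_smul L (X.basicOpen_le r) c _⟩)
      (pow_mem ?_ k)
    refine Subring.subset_closure ⟨e₀, ?_⟩
    rw [AmpleLib.res_smul, smul_smul]
    exact ((congrArg (· • res L (X.basicOpen_le r) e₀) hu.val_inv_mul).trans (one_smul _ _)).symm
  exact key _

end EGA2SymLib
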