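import Mathlib
import Groth.Agent.EGA2SymLib.LocalCrit
import Groth.Agent.MiscFlat6.RelProjEasy

/-!
# Very ampleness is local on the base
-/

set_option autoImplicit false
universe u

open CategoryTheory CategoryTheory.Limits AlgebraicGeometry TopologicalSpace Opposite
open KFlatLib (pb puSec)
open scoped HomogeneousIdeal
open AmpleLib (res GenOn GenAt)

noncomputable section

namespace EGA2SymLib

variable {X Y : Scheme.{u}}

/-- there is a section over `Ω` generating at `x` whose ratios embed its locus of generation -/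
def SecAt (L : X.Modules) (Ω : X.Opens) (x : X) : Prop :=
  ∃ (e : Γ(L, Ω)) (hx : x ∈ Ω), GenAt L e hx ∧
    ∀ (W : X.Opens) (hW : W ≤ Ω), (∀ (z : X) (hz : z ∈ Ω), z ∈ W ↔ GenAt L e hz) →
      ∃ (A : Scheme.{u}) (_ : IsAffine A) (f : (W : Scheme.{u}) ⟶ A) (_ : IsImmersion f),
        ∀ a : Γ(A, ⊤), W.topIso.hom (f.appTop a) ∈
          Subring.closure {a : Γ(X, W) | ∃ m : Γ(L, Ω), res L hW m = a • res L hW e}

theorem isRelVeryAmple_of_secAt {q : X ⟶ Y} {L : X.Modules} (hL : PicF.IsInvertible L)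
    [Coh.IsQCoh ((Scheme.Modules.pushforward q).obj L)]
    (h : ∀ x : X, ∃ (U : Y.Opens) (_ : IsAffineOpen U), SecAt L (q ⁻¹ᵁ U) x) :
    RelProj.IsRelVeryAmple q L :=
  isRelVeryAmple_of_sections hL fun x => by
    obtain ⟨U, hU, e, hx, h1, h2⟩ := h x
    exact ⟨U, hU, e, hx, h1, h2⟩

theorem secAt_of_isRelVeryAmple {q : X ⟶ Y} {L : X.Modules} (h : RelProj.IsRelVeryAmple q L) {U : Y.Opens}
    (hU : IsAffineOpen U) {x : X} (hx : x ∈ q ⁻¹ᵁ U) : SecAt L (q ⁻¹ᵁ U) x := by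
  obtain ⟨E, hE, 𝒮, j, hj, P, p, chart, hP, O1, lam, hO1, i, hi, hip, ⟨ε⟩⟩ := h
  haveI := hE
  haveI := hi
  obtain ⟨φ, hφ⟩ := exists_canonicalMap_one hP hO1 j hj.2
  let s : pb q E ⟶ L := indQ φ hip ε.symm.hom
  have hI : Induces s φ i hip := ⟨ε.symm, fun U m => (indQ_puSec φ hip ε.symm.hom m).symm⟩
  obtain ⟨τ, hτ⟩ := hI
  obtain ⟨e₁, he₁⟩ := exists_genAt_of_induces (s := s) (hr := hip) hO1 hj hφ ⟨τ, hτ⟩ hU hx
  refine ⟨qVal s U e₁, hx, he₁, fun W hW hWe => ?_⟩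
  let D := bOpen p chart j hU e₁
  have hWD : W ≤ i ⁻¹ᵁ D := fun z hz =>
    (mem_bOpen_iff (hr := hip) hO1 hj hφ τ hτ hU e₁ (hW hz)).mpr ((hWe z (hW hz)).mp hz)
  haveI : IsAffine (D : Scheme.{u}) :=
    (IsAffineOpen.image_of_isOpenImmersion
      (Proj.isAffineOpen_basicOpen (𝒮.deg U hU) (jS j U e₁) (jS_mem hj hU e₁) one_pos) (RelProj.emb p chart U hU))
  refine ⟨_, inferInstance, i.resLE D W hWD, inferInstance, fun a => ?_⟩
  have h1 : W.topIso.hom ((i.resLE D W hWD).appTop a) = i.appLE D W hWD (D.topIso.hom a) := by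
    simp only [Scheme.Hom.appTop, Scheme.Hom.resLE_app_top, CommRingCat.comp_apply]
    exact CategoryTheory.Iso.inv_hom_id_apply W.topIso _
  rw [h1]
  refine Subring.closure_mono ?_ ((range_appLE_eq_closure (hr := hip) hO1 hj hφ τ hτ hU e₁ hW hWD).le ⟨_, rfl⟩)
  rintro b ⟨m, hm⟩
  exact ⟨qVal s U m, hm⟩

section restrict

variable {X' : Scheme.{u}} (j : X' ⟶ X) [IsOpenImmersion j]

/-- generation in a restricted module -/
theorem genAt_restrict {L : X.Modules} (hL : PicF.IsInvertible L) {Ω' : X'.Opens}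
    (e : Γ(L.restrict j, Ω')) {z : X'} (hz : z ∈ Ω') :
    GenAt (L.restrict j) e hz ↔ GenAt L (show Γ(L, j ''ᵁ Ω') from e) (show j z ∈ j ''ᵁ Ω' from ⟨z, hz, rfl⟩) := by
  obtain ⟨U, g, hzU, hg⟩ := TwistLib.exists_genOn hL (j z)
  let V' : X'.Opens := Ω' ⊓ j ⁻¹ᵁ U
  have hzV : z ∈ V' := ⟨hz, hzU⟩
  have h1 : j ''ᵁ V' ≤ j ''ᵁ Ω' := j.image_mono inf_le_left
  have h2 : j ''ᵁ V' ≤ U := by
    rintro _ ⟨y, hy, rfl⟩
    exact hy.2
  have hg' := hg.restrict j V' h2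
  obtain ⟨c, hc⟩ := (hg' V' le_rfl).2 (res (L.restrict j) inf_le_left e)
  dsimp only at hc
  rw [AmpleLib.res_refl] at hc
  rw [← AmpleLib.genAt_res (inf_le_left : V' ≤ Ω') e (x := z) hzV, ← hc,
    AmpleLib.genAt_smul_iff _ _ hzV (hg'.genAt hzV),
    ← AmpleLib.genAt_res h1 (show Γ(L, j ''ᵁ Ω') from e) (x := j z) ⟨z, hzV, rfl⟩]
  have hc' : (j.appIso V').inv c • res L h2 g = res L h1 (show Γ(L, j ''ᵁ Ω') from e) := hc
  rw [← hc', AmpleLib.genAt_smul_iff _ _ _ ((hg.res h2).genAt _)]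
  show z ∈ X'.basicOpen c ↔ j z ∈ X.basicOpen ((j.appIso V').inv c)
  rw [← Scheme.image_basicOpen]
  exact (j.isOpenEmbedding.injective.mem_set_image).symm

/-- scalars of a restricted module -/
theorem smul_eq_of_restrict {L : X.Modules} {Ω' W' : X'.Opens} (hW' : W' ≤ Ω') {W : X.Opens} (hW : W ≤ j ''ᵁ Ω')
    (hWW : W' ≤ j ⁻¹ᵁ W) (hWW' : j ''ᵁ W' = W) (m e : Γ(L, j ''ᵁ Ω')) (b : Γ(X, W)) :
    res (L.restrict j) hW' (show Γ(L.restrict j, Ω') from m) =
        j.appLE W W' hWW b • res (L.restrict j) hW' (show Γ(L.restrict j, Ω') from e) ↔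
      res L hW m = b • res L hW e := by
  subst hWW'
  have e1 : (j.appIso W').inv (j.appLE (j ''ᵁ W') W' hWW b) = b := by
    rw [← CommRingCat.comp_apply, Scheme.Hom.appLE_appIso_inv]
    exact congr($(X.presheaf.map_id _) b)
  show res L hW m = (j.appIso W').inv (j.appLE (j ''ᵁ W') W' hWW b) • res L hW e ↔ _
  rw [e1]

theorem appLE_bijective {W' : X'.Opens} {W : X.Opens} (hWW : W' ≤ j ⁻¹ᵁ W) (hWW' : j ''ᵁ W' = W) :
    Function.Bijective (j.appLE W W' hWW) := by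
  subst hWW'
  refine (Function.Bijective.of_comp_iff' (ConcreteCategory.bijective_of_isIso (j.appIso W').inv) _).mp ?_
  show Function.Bijective fun t => (j.appIso W').inv (j.appLE (j ''ᵁ W') W' hWW t)
  simp only [← CommRingCat.comp_apply, Scheme.Hom.appLE_appIso_inv]
  convert Function.bijective_id using 1
  funext t
  exact congr($(X.presheaf.map_id _) t)

theorem topIso_resLE {W' : X'.Opens} {W : X.Opens} (hWW : W' ≤ j ⁻¹ᵁ W) (t : Γ(W.toScheme, ⊤)) :
    W'.topIso.hom ((j.resLE W W' hWW).appTop t) = j.appLE W W' hWW (W.topIso.hom t) := by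
  simp only [Scheme.Hom.appTop, Scheme.Hom.resLE_app_top, CommRingCat.comp_apply]
  exact CategoryTheory.Iso.inv_hom_id_apply W'.topIso _

theorem mem_closure_iff {L : X.Modules} {Ω' W' : X'.Opens} (hW' : W' ≤ Ω') {W : X.Opens} (hW : W ≤ j ''ᵁ Ω')
    (hWW : W' ≤ j ⁻¹ᵁ W) (hWW' : j ''ᵁ W' = W) (e : Γ(L, j ''ᵁ Ω')) (b : Γ(X, W)) :
    j.appLE W W' hWW b ∈ Subring.closure {a : Γ(X', W') | ∃ m : Γ(L.restrict j, Ω'),
        res (L.restrict j) hW' m = a • res (L.restrict j) hW' (show Γ(L.restrict j, Ω') from e)} ↔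
      b ∈ Subring.closure {a : Γ(X, W) | ∃ m : Γ(L, j ''ᵁ Ω'), res L hW m = a • res L hW e} := by
  have hset : (j.appLE W W' hWW).hom '' {a : Γ(X, W) | ∃ m : Γ(L, j ''ᵁ Ω'), res L hW m = a • res L hW e} =
      {a : Γ(X', W') | ∃ m : Γ(L.restrict j, Ω'),
        res (L.restrict j) hW' m = a • res (L.restrict j) hW' (show Γ(L.restrict j, Ω') from e)} := by
    ext a'
    constructor
    · rintro ⟨a, ⟨m, hm⟩, rfl⟩
      exact ⟨m, (smul_eq_of_restrict j hW' hW hWW hWW' m e a).mpr hm⟩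
    · rintro ⟨m, hm⟩
      obtain ⟨a, rfl⟩ := (appLE_bijective j hWW hWW').2 a'
      exact ⟨a, ⟨m, (smul_eq_of_restrict j hW' hW hWW hWW' m e a).mp hm⟩, rfl⟩
  rw [← hset, ← RingHom.map_closure]
  exact Subring.mem_map.trans ⟨fun ⟨a, ha, h⟩ => (appLE_bijective j hWW hWW').1 h ▸ ha, fun h => ⟨b, h, rfl⟩⟩

theorem secAt_restrict_iff {L : X.Modules} (hL : PicF.IsInvertible L) (Ω' : X'.Opens) (x' : X') :
    SecAt (L.restrict j) Ω' x' ↔ SecAt L (j ''ᵁ Ω') (j x') := by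
  constructor
  · rintro ⟨e, hx, he, h⟩
    refine ⟨e, ⟨x', hx, rfl⟩, (genAt_restrict j hL e hx).mp he, fun W hW hWe => ?_⟩
    let W' : X'.Opens := j ⁻¹ᵁ W
    have hW' : W' ≤ Ω' := fun z hz => by
      obtain ⟨y, hy, hyz⟩ := hW hz
      rwa [← j.isOpenEmbedding.injective hyz]
    have hWW' : j ''ᵁ W' = W := by
      rw [Scheme.Hom.image_preimage_eq_opensRange_inf, inf_eq_right]
      exact hW.trans (j.image_le_opensRange _)
    obtain ⟨A, hA, f, hf, hfa⟩ := h W' hW' fun z hz =>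
      (hWe (j z) ⟨z, hz, rfl⟩).trans (genAt_restrict j hL e hz).symm
    haveI := hA
    haveI := hf
    haveI : IsIso (j.resLE W W' le_rfl) := by
      rw [Scheme.Hom.resLE_eq_morphismRestrict, isIso_iff_isOpenImmersion_and_surjective]
      refine ⟨inferInstance, ⟨fun z => ?_⟩⟩
      obtain ⟨y, -, hy⟩ := hW z.2
      change j y = z.1 at hy
      exact ⟨⟨y, show j y ∈ W by rw [hy]; exact z.2⟩, W.ι.isOpenEmbedding.injective (by
        rw [← Scheme.Hom.comp_apply, morphismRestrict_ι]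
        exact hy)⟩
    refine ⟨A, hA, inv (j.resLE W W' le_rfl) ≫ f, inferInstance, fun a => ?_⟩
    refine (mem_closure_iff j hW' hW le_rfl hWW' e _).mp ?_
    rw [← topIso_resLE j le_rfl]
    refine Eq.subst (motive := fun z => W'.topIso.hom z ∈ _) ?_ (hfa a)
    rw [← CommRingCat.comp_apply, ← Scheme.Hom.comp_appTop, IsIso.hom_inv_id_assoc]
  · rintro ⟨e, hx, he, h⟩
    have hx' : x' ∈ Ω' := by
      obtain ⟨y, hy, hyx⟩ := hx
      rwa [← j.isOpenEmbedding.injective hyx]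
    refine ⟨e, hx', (genAt_restrict j hL e hx').mpr he, fun W' hW' hWe => ?_⟩
    let W : X.Opens := j ''ᵁ W'
    obtain ⟨A, hA, f, hf, hfa⟩ := h W (j.image_mono hW') fun z hz => by
      obtain ⟨y, hy, rfl⟩ := hz
      exact (j.isOpenEmbedding.injective.mem_set_image).trans ((hWe y hy).trans (genAt_restrict j hL e hy))
    haveI := hA
    haveI := hf
    have hWW : W' ≤ j ⁻¹ᵁ W := (j.preimage_image_eq W').ge
    refine ⟨A, hA, j.resLE W W' hWW ≫ f, inferInstance, fun a => ?_⟩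
    rw [Scheme.Hom.comp_appTop, CommRingCat.comp_apply, topIso_resLE j hWW]
    exact (mem_closure_iff j hW' (j.image_mono hW') hWW rfl e _).mpr (hfa a)

end restrict

theorem isSeparated_of_isRelVeryAmple {q : X ⟶ Y} {L : X.Modules} (h : RelProj.IsRelVeryAmple q L) :
    IsSeparated q := by
  obtain ⟨E, hE, 𝒮, j, hj, P, p, chart, hP, O1, lam, hO1, i, hi, hip, -⟩ := h
  haveI := hi
  haveI := MiscFlat6.relProj_isSeparated hP
  rw [← hip]
  infer_instance

theorem isRelVeryAmple_iff_of_openCover (q : X ⟶ Y) [QuasiCompact q] {L : X.Modules} (hL : PicF.IsInvertible L)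
    {ι : Type u} (U : ι → Y.Opens) (hU : ⨆ i, U i = ⊤) :
    RelProj.IsRelVeryAmple q L ↔
      ∀ i, RelProj.IsRelVeryAmple (q ∣_ (U i)) (L.restrict (q ⁻¹ᵁ (U i)).ι) := by
  haveI : Coh.IsQCoh L :=
    (LocSuppLib.isCoh_of_isFinLocFree fun x =>
      let ⟨V, h⟩ := (CohCmpLib.invertible_iff_rank_one _).1 hL x; ⟨V, 1, h⟩).1
  constructor
  · intro h i
    haveI := isSeparated_of_isRelVeryAmple h
    let j := (q ⁻¹ᵁ (U i)).ι
    haveI : Coh.IsQCoh (L.restrict j) := Scheme.Modules.isQuasicoherent_restrictFunctor j L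
    haveI : Coh.IsQCoh ((Scheme.Modules.pushforward (q ∣_ U i)).obj (L.restrict j)) :=
      QCohLib.isQCoh_pushforward _ _
    refine isRelVeryAmple_of_secAt (AmpleThLib.restrict_isInvertible hL j) fun x' => ?_
    obtain ⟨V, hV, hxV, -⟩ := exists_isAffineOpen_mem_and_subset (X := (U i : Scheme.{u})) (x := (q ∣_ U i) x')
      (U := ⊤) trivial
    refine ⟨V, hV, (secAt_restrict_iff j hL _ x').mpr ?_⟩
    rw [image_morphismRestrict_preimage]
    refine secAt_of_isRelVeryAmple h (hV.image_of_isOpenImmersion (U i).ι) ?_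
    rw [← image_morphismRestrict_preimage]
    exact ⟨x', hxV, rfl⟩
  · intro h
    haveI : IsSeparated q :=
      (IsZariskiLocalAtTarget.iff_of_iSup_eq_top (P := @IsSeparated) U hU).mpr fun i =>
        isSeparated_of_isRelVeryAmple (h i)
    haveI : Coh.IsQCoh ((Scheme.Modules.pushforward q).obj L) := QCohLib.isQCoh_pushforward _ _
    refine isRelVeryAmple_of_secAt hL fun x => ?_
    obtain ⟨i, hi⟩ := Opens.mem_iSup.mp (hU.ge (trivial : q x ∈ (⊤ : Y.Opens)))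
    let x' : (q ⁻¹ᵁ (U i) : X.Opens) := ⟨x, hi⟩
    obtain ⟨V, hV, hxV, -⟩ := exists_isAffineOpen_mem_and_subset (X := (U i : Scheme.{u})) (x := (q ∣_ U i) x')
      (U := ⊤) trivial
    refine ⟨(U i).ι ''ᵁ V, hV.image_of_isOpenImmersion _, ?_⟩
    rw [← image_morphismRestrict_preimage]
    exact (secAt_restrict_iff (q ⁻¹ᵁ (U i)).ι hL _ x').mp (secAt_of_isRelVeryAmple (h i) hV hxV)

end EGA2SymLib

end
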