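import Mathlib
import Groth.Agent.EGA2SymLib.LocalVA
import Groth.Agent.EGA2SymLib.FinGen

/-!
# Finitely many sections suffice for a morphism of finite type
-/

set_option autoImplicit false
universe u

open CategoryTheory CategoryTheory.Limits AlgebraicGeometry TopologicalSpace Opposite
open AmpleLib (res GenOn GenAt)

noncomputable section

namespace EGA2SymLib

variable {X Y : Scheme.{u}}

/-- the open where a section over an open generates -/
theorem exists_genLocus {L : X.Modules} (hL : PicF.IsInvertible L) {Ω : X.Opens} (e : Γ(L, Ω)) :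
    ∃ W : X.Opens, W ≤ Ω ∧ ∀ (z : X) (hz : z ∈ Ω), z ∈ W ↔ GenAt L e hz := by
  let S : Set X.Opens := {V | ∃ hV : V ≤ Ω, ∀ (z : X) (hz : z ∈ V), GenAt L e (hV hz)}
  refine ⟨sSup S, sSup_le fun V hV => hV.1, fun z hz => ⟨fun h => ?_, fun h => ?_⟩⟩
  · obtain ⟨V, ⟨hV, hVg⟩, hzV⟩ := Opens.mem_sSup.mp h
    exact hVg z hzV
  · obtain ⟨U, g, hzU, hg⟩ := TwistLib.exists_genOn hL z
    obtain ⟨c, hc⟩ := (hg (Ω ⊓ U) inf_le_right).2 (res L inf_le_left e)
    dsimp only at hc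
    have key : ∀ (y : X) (hy : y ∈ Ω ⊓ U), GenAt L e hy.1 ↔ y ∈ X.basicOpen c := fun y hy => by
      rw [← AmpleLib.genAt_res (inf_le_left : Ω ⊓ U ≤ Ω) e (x := y) hy, ← hc,
        AmpleLib.genAt_smul_iff _ _ hy ((hg.res inf_le_right).genAt hy)]
    exact Opens.mem_sSup.mpr ⟨X.basicOpen c, ⟨(X.basicOpen_le c).trans inf_le_left,
      fun y hy => (key y (X.basicOpen_le c hy)).mpr hy⟩, (key z ⟨hz, hzU⟩).mp h⟩

/-- the locus of a section over a quasi-compact open is quasi-compact -/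
theorem isCompact_genLocus {L : X.Modules} (hL : PicF.IsInvertible L) {Ω : X.Opens} (hΩ : IsCompact (Ω : Set X))
    (e : Γ(L, Ω)) {W : X.Opens} (hW : W ≤ Ω) (hWe : ∀ (z : X) (hz : z ∈ Ω), z ∈ W ↔ GenAt L e hz) :
    IsCompact (W : Set X) := by
  classical
  have hloc : ∀ z : X, z ∈ Ω → ∃ (T : X.Opens) (g : Γ(L, T)), IsAffineOpen T ∧ z ∈ T ∧ T ≤ Ω ∧ GenOn L g := by
    intro z hz
    obtain ⟨U, g, hzU, hg⟩ := TwistLib.exists_genOn hL z
    obtain ⟨T, hT, hzT, hTU⟩ := exists_isAffineOpen_mem_and_subset (X := X) (x := z) (U := U ⊓ Ω) ⟨hzU, hz⟩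
    exact ⟨T, res L (fun y hy => (hTU hy).1) g, hT, hzT, fun y hy => (hTU hy).2, hg.res _⟩
  choose T g hT hzT hTΩ hg using hloc
  obtain ⟨t, ht⟩ := hΩ.elim_finite_subcover (fun z : Ω => (T z.1 z.2 : Set X)) (fun z => (T z.1 z.2).2)
    fun z hz => Set.mem_iUnion.mpr ⟨⟨z, hz⟩, hzT z hz⟩
  have hcov : (W : Set X) = ⋃ z ∈ t, ((W ⊓ T z.1 z.2 : X.Opens) : Set X) := by
    ext y
    refine ⟨fun hy => ?_, fun hy => ?_⟩
    · obtain ⟨z, hz, hyz⟩ := Set.mem_iUnion₂.mp (ht (hW hy))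
      exact Set.mem_iUnion₂.mpr ⟨z, hz, hy, hyz⟩
    · obtain ⟨z, -, hyz⟩ := Set.mem_iUnion₂.mp hy
      exact hyz.1
  rw [hcov]
  refine t.finite_toSet.isCompact_biUnion fun z _ => ?_
  obtain ⟨c, hc⟩ := ((hg z.1 z.2) (T z.1 z.2) le_rfl).2 (res L (hTΩ z.1 z.2) e)
  dsimp only at hc
  rw [AmpleLib.res_refl] at hc
  have e1 : W ⊓ T z.1 z.2 = X.basicOpen c := SetLike.ext fun y => by
    refine ⟨fun hy => ?_, fun hy => ?_⟩
    · have h1 := (AmpleLib.genAt_res (hTΩ z.1 z.2) e (x := y) hy.2).mpr ((hWe y (hW hy.1)).mp hy.1)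
      rwa [← hc, AmpleLib.genAt_smul_iff _ _ hy.2 ((hg z.1 z.2).genAt hy.2)] at h1
    · have hyT := X.basicOpen_le c hy
      refine ⟨(hWe y (hTΩ z.1 z.2 hyT)).mpr ((AmpleLib.genAt_res (hTΩ z.1 z.2) e (x := y) hyT).mp ?_), hyT⟩
      rw [← hc, AmpleLib.genAt_smul_iff _ _ hyT ((hg z.1 z.2).genAt hyT)]
      exact hy
  rw [e1]
  exact ((hT z.1 z.2).basicOpen c).isCompact

/-- finitely many sections suffice -/
theorem exists_finite_secAt (q : X ⟶ Y) [LocallyOfFiniteType q] [QuasiCompact q] {L : X.Modules}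
    (hL : PicF.IsInvertible L) {U : Y.Opens} (hU : IsAffineOpen U) {x : X} (h : SecAt L (q ⁻¹ᵁ U) x) :
    ∃ (e : Γ(L, q ⁻¹ᵁ U)) (hx : x ∈ q ⁻¹ᵁ U) (ms : Finset Γ(L, q ⁻¹ᵁ U)), GenAt L e hx ∧
      ∀ (W : X.Opens) (hW : W ≤ q ⁻¹ᵁ U), (∀ (z : X) (hz : z ∈ q ⁻¹ᵁ U), z ∈ W ↔ GenAt L e hz) →
        ∃ (A : Scheme.{u}) (_ : IsAffine A) (f : (W : Scheme.{u}) ⟶ A) (_ : IsImmersion f),
          ∀ a : Γ(A, ⊤), W.topIso.hom (f.appTop a) ∈ Subring.closure (Set.range (q.appLE U W hW) ∪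
            {c : Γ(X, W) | ∃ m ∈ ms, res L hW m = c • res L hW e}) := by
  classical
  obtain ⟨e, hx, he, hrest⟩ := h
  obtain ⟨W, hW, hWe⟩ := exists_genLocus hL e
  obtain ⟨A, hA, f, hf, hfa⟩ := hrest W hW hWe
  haveI := hA
  haveI := hf
  haveI : CompactSpace (W : Scheme.{u}) :=
    isCompact_iff_compactSpace.mp
      (isCompact_genLocus hL (q.isCompact_preimage hU.isCompact) e hW hWe)
  haveI : IsAffine (U : Scheme.{u}) := hU
  let π := q.resLE U W hW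
  obtain ⟨S, hS, hB⟩ := exists_finite_gens f π
  have hfin : ∀ s ∈ S, ∃ t : Finset Γ(X, W),
      ↑t ⊆ {a : Γ(X, W) | ∃ m : Γ(L, q ⁻¹ᵁ U), res L hW m = a • res L hW e} ∧
        W.topIso.hom s ∈ Subring.closure (t : Set Γ(X, W)) := by
    intro s hs
    obtain ⟨a, rfl⟩ := hS hs
    exact exists_finset_mem_closure (hfa a)
  choose! t ht hst using hfin
  choose! mu hmu using fun (c : Γ(X, W)) (hc : ∃ m : Γ(L, q ⁻¹ᵁ U), res L hW m = c • res L hW e) => hc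
  refine ⟨e, hx, (S.biUnion t).image mu, he, fun W' hW' hWe' => ?_⟩
  obtain rfl : W' = W := SetLike.ext fun z =>
    ⟨fun hz => (hWe z (hW' hz)).mpr ((hWe' z (hW' hz)).mp hz),
      fun hz => (hWe' z (hW hz)).mpr ((hWe z (hW hz)).mp hz)⟩
  let G := Set.range (q.appLE U W' hW) ∪
    {c : Γ(X, W') | ∃ m ∈ (S.biUnion t).image mu, res L hW m = c • res L hW e}
  let B : Subring Γ(W'.toScheme, ⊤) := (Subring.closure G).comap W'.topIso.hom.hom
  haveI := hB B (fun s hs => by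
      refine (Subring.closure_mono ?_) (hst s hs)
      intro c hc
      exact Or.inr ⟨mu c, Finset.mem_image_of_mem mu (Finset.mem_biUnion.mpr ⟨s, hs, hc⟩), hmu c (ht s hs hc)⟩)
    (by
      rintro _ ⟨r, rfl⟩
      show W'.topIso.hom (π.appTop r) ∈ Subring.closure G
      refine Subring.subset_closure (Or.inl ⟨U.topIso.hom r, ?_⟩)
      simp only [π, Scheme.Hom.appTop, Scheme.Hom.resLE_app_top, CommRingCat.comp_apply]
      exact (CategoryTheory.Iso.inv_hom_id_apply _ _).symm)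
  refine ⟨_, inferInstance, toSpecSubring W'.toScheme B, inferInstance, fun a => ?_⟩
  obtain ⟨β, rfl⟩ := (ConcreteCategory.bijective_of_isIso (Scheme.ΓSpecIso (CommRingCat.of B)).inv).2 a
  rw [toSpecSubring_appTop]
  exact β.2

end EGA2SymLib

end
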