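import Mathlib
import Groth.Agent.EGA2SymLib.FinSec
import Groth.Agent.EGA2SymLib.LocalCrit
import Groth.Agent.QCohLib.Extend

/-!
# Very ampleness through a finite type submodule of the direct image
-/

set_option autoImplicit false
universe u

open CategoryTheory CategoryTheory.Limits AlgebraicGeometry TopologicalSpace Opposite
open AmpleLib (res GenOn GenAt)
open KFlatLib (pb puSec)

noncomputable section

namespace EGA2SymLib

open QCohLib (LocSub map_map' map_smul')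

section join

variable {X : Scheme.{u}} {F : X.Modules}

/-- the sum of two submodules -/
def joinSub (S T : LocSub F) : LocSub F where
  mem V a := ∀ p : X, p ∈ V → ∃ (W : X.Opens) (h : W ≤ V), p ∈ W ∧
    ∃ b c : Γ(F, W), S.mem W b ∧ T.mem W c ∧ F.presheaf.map (homOfLE h).op a = b + c
  zero V p hp := ⟨V, le_rfl, hp, 0, 0, S.zero V, T.zero V, by simp⟩
  add {V a a'} ha ha' p hp := by
    obtain ⟨W, h, hpW, b, c, hb, hc, e⟩ := ha p hp
    obtain ⟨W', h', hpW', b', c', hb', hc', e'⟩ := ha' p hp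
    refine ⟨W ⊓ W', inf_le_left.trans h, ⟨hpW, hpW'⟩, _, _,
      S.add (S.res (inf_le_left : W ⊓ W' ≤ W) hb) (S.res (inf_le_right : W ⊓ W' ≤ W') hb'),
      T.add (T.res (inf_le_left : W ⊓ W' ≤ W) hc) (T.res (inf_le_right : W ⊓ W' ≤ W') hc'), ?_⟩
    have h1 := congr_arg (F.presheaf.map (homOfLE (inf_le_left : W ⊓ W' ≤ W)).op) e
    have h2 := congr_arg (F.presheaf.map (homOfLE (inf_le_right : W ⊓ W' ≤ W')).op) e'
    rw [map_map', map_add] at h1 h2
    rw [map_add]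
    refine (congr_arg₂ (· + ·) h1 h2).trans ?_
    abel
  smul {V} r {a} ha p hp := by
    obtain ⟨W, h, hpW, b, c, hb, hc, e⟩ := ha p hp
    refine ⟨W, h, hpW, _, _, S.smul (X.presheaf.map (homOfLE h).op r) hb,
      T.smul (X.presheaf.map (homOfLE h).op r) hc, ?_⟩
    rw [map_smul', e, smul_add]
  res {V V'} hVV {a} ha p hp := by
    obtain ⟨W, h, hpW, b, c, hb, hc, e⟩ := ha p (hVV hp)
    refine ⟨W ⊓ V', inf_le_right, ⟨hpW, hp⟩, _, _, S.res (inf_le_left : W ⊓ V' ≤ W) hb,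
      T.res (inf_le_left : W ⊓ V' ≤ W) hc, ?_⟩
    have h1 := congr_arg (F.presheaf.map (homOfLE (inf_le_left : W ⊓ V' ≤ W)).op) e
    rw [map_map', map_add] at h1
    exact (map_map' F _ _ a).trans h1
  local' {V} a h p hp := by
    obtain ⟨W, hW, hpW, hm⟩ := h p hp
    obtain ⟨W', h', hpW', b, c, hb, hc, e⟩ := hm p hpW
    rw [map_map'] at e
    exact ⟨W', h'.trans hW, hpW', b, c, hb, hc, e⟩

theorem mem_joinSub_left (S T : LocSub F) {V : X.Opens} {a : Γ(F, V)} (h : S.mem V a) :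
    (joinSub S T).mem V a :=
  fun _ hp => ⟨V, le_rfl, hp, _, 0, S.res le_rfl h, T.zero V, (add_zero _).symm⟩

theorem mem_joinSub_right (S T : LocSub F) {V : X.Opens} {a : Γ(F, V)} (h : T.mem V a) :
    (joinSub S T).mem V a :=
  fun _ hp => ⟨V, le_rfl, hp, 0, _, S.zero V, T.res le_rfl h, (zero_add _).symm⟩

theorem span_res {U U₁ W : X.Opens} (hU : U ≤ U₁) (hW : W ≤ U) {I : Type u} [Fintype I] {s : I → Γ(F, U₁)}
    {b : Γ(F, W)} (hb : (LocSub.span F U₁ s).mem W b) :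
    (LocSub.span F U (fun k => F.presheaf.map (homOfLE hU).op (s k))).mem W b := by
  intro x hx hxU
  obtain ⟨O, hO, hOU, hxO, d, hd⟩ := hb x hx (hU hxU)
  refine ⟨O, hO, hO.trans hW, hxO, d, hd.trans (Finset.sum_congr rfl fun k _ => ?_)⟩
  exact congrArg (d k • ·) (map_map' F _ _ (s k)).symm

theorem ftBelow_joinSub (S T : LocSub F) (hS : S.FTBelow ⊤) (hT : T.FTBelow ⊤) :
    (joinSub S T).FTBelow ⊤ := by
  intro p hp
  obtain ⟨U₁, -, hp1, n, s, hs, hsg⟩ := hS p hp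
  obtain ⟨U₂, -, hp2, m, t, ht, htg⟩ := hT p hp
  let U := U₁ ⊓ U₂
  let r : ULift.{u} (Fin (n + m)) → Γ(F, U) := fun i => Fin.addCases
    (fun k => F.presheaf.map (homOfLE (inf_le_left : U₁ ⊓ U₂ ≤ U₁)).op (s ⟨k⟩))
    (fun k => F.presheaf.map (homOfLE (inf_le_right : U₁ ⊓ U₂ ≤ U₂)).op (t ⟨k⟩)) i.down
  have hl : ∀ k, r ⟨Fin.castAdd m k⟩ =
      F.presheaf.map (homOfLE (inf_le_left : U₁ ⊓ U₂ ≤ U₁)).op (s ⟨k⟩) := fun k => Fin.addCases_left k
  have hr : ∀ k, r ⟨Fin.natAdd n k⟩ =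
      F.presheaf.map (homOfLE (inf_le_right : U₁ ⊓ U₂ ≤ U₂)).op (t ⟨k⟩) := fun k => Fin.addCases_right k
  refine ⟨U, le_top, ⟨hp1, hp2⟩, n + m, r, fun i => ?_, fun W hW a ha q hq hqU => ?_⟩
  · rcases i with ⟨i⟩
    refine Fin.addCases (fun k => ?_) (fun k => ?_) i
    · rw [hl]
      exact mem_joinSub_left S T (S.res inf_le_left (hs ⟨k⟩))
    · rw [hr]
      exact mem_joinSub_right S T (T.res inf_le_right (ht ⟨k⟩))
  · refine LocSub.local' (LocSub.span F U r) a (fun x hx => ?_) q hq hqU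
    obtain ⟨W', h', hxW', b, c, hb, hc, e⟩ := ha x hx
    refine ⟨W', h', hxW', e ▸ LocSub.add _ ?_ ?_⟩
    · refine LocSub.span_le (LocSub.span F U r) (V := W') (fun k => ?_) (h'.trans hW)
        (span_res (inf_le_left : U₁ ⊓ U₂ ≤ U₁) (h'.trans hW) (hsg W' ((h'.trans hW).trans inf_le_left) b hb))
      exact hl k.down ▸ LocSub.span_self r ⟨Fin.castAdd m k.down⟩
    · refine LocSub.span_le (LocSub.span F U r) (V := W') (fun k => ?_) (h'.trans hW)
        (span_res (inf_le_right : U₁ ⊓ U₂ ≤ U₂) (h'.trans hW) (htg W' ((h'.trans hW).trans inf_le_right) c hc))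
      exact hr k.down ▸ LocSub.span_self r ⟨Fin.natAdd n k.down⟩

/-- a finite type submodule through finitely many sections -/
theorem exists_ft_through_finset [CompactSpace X] [QuasiSeparatedSpace X] [Coh.IsQCoh F]
    (t : Finset (Σ U : X.affineOpens, Γ(F, U.1))) :
    ∃ S : LocSub F, S.FTBelow ⊤ ∧ ∀ i ∈ t, S.mem i.1.1 i.2 := by
  classical
  induction t using Finset.induction_on with
  | empty =>
    obtain ⟨S, hS, -⟩ := LocSub.exists_ft_through (⊥ : X.Opens) (isAffineOpen_bot X) (0 : Γ(F, ⊥))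
    exact ⟨S, hS, fun i hi => absurd hi (Finset.notMem_empty i)⟩
  | insert i t _ ih =>
    obtain ⟨S, hS, hSt⟩ := ih
    obtain ⟨T, hT, hTi⟩ := LocSub.exists_ft_through i.1.1 i.1.2 i.2
    refine ⟨joinSub T S, ftBelow_joinSub T S hT hS, fun k hk => ?_⟩
    rcases Finset.mem_insert.mp hk with rfl | hk
    · exact mem_joinSub_left T S hTi
    · exact mem_joinSub_right T S (hSt k hk)

end join

section data

variable {X Y : Scheme.{u}}

/-- very ampleness is witnessed by a finite type submodule of the direct image -/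
theorem exists_ft_sub_secData (hY : (CompactSpace Y ∧ Y.IsSeparated) ∨ NoetherianSpace Y) (q : X ⟶ Y)
    [QuasiCompact q] [LocallyOfFiniteType q] {L : X.Modules} (hL : PicF.IsInvertible L)
    (h : RelProj.IsRelVeryAmple q L) :
    ∃ (E : Y.Modules) (ι : E ⟶ (Scheme.Modules.pushforward q).obj L), Coh.IsQCoh E ∧ CohB1.IsFT E ∧
      (∀ U : Y.Opens, Function.Injective (ι.app U)) ∧
      ∀ x : X, ∃ (U : Y.Opens) (_ : IsAffineOpen U) (e : Γ(E, U)) (hx : x ∈ q ⁻¹ᵁ U),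
        GenAt L (show Γ(L, q ⁻¹ᵁ U) from ι.app U e) hx ∧
        ∀ (W : X.Opens) (hW : W ≤ q ⁻¹ᵁ U),
          (∀ (z : X) (hz : z ∈ q ⁻¹ᵁ U), z ∈ W ↔ GenAt L (show Γ(L, q ⁻¹ᵁ U) from ι.app U e) hz) →
          ∃ (A : Scheme.{u}) (_ : IsAffine A) (f : (W : Scheme.{u}) ⟶ A) (_ : IsImmersion f),
            ∀ a : Γ(A, ⊤), W.topIso.hom (f.appTop a) ∈ Subring.closure {a : Γ(X, W) | ∃ m : Γ(E, U),
              res L hW (show Γ(L, q ⁻¹ᵁ U) from ι.app U m) =
                a • res L hW (show Γ(L, q ⁻¹ᵁ U) from ι.app U e)} := by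
  classical
  haveI : CompactSpace Y := by rcases hY with h | h <;> [exact h.1; exact inferInstance]
  haveI : QuasiSeparatedSpace Y := by
    rcases hY with h | h
    · haveI := h.2
      infer_instance
    · exact ⟨fun U V _ _ _ _ => NoetherianSpace.isCompact _⟩
  haveI := isSeparated_of_isRelVeryAmple h
  haveI : Coh.IsQCoh L :=
    (LocSuppLib.isCoh_of_isFinLocFree fun x =>
      let ⟨V, h⟩ := (CohCmpLib.invertible_iff_rank_one _).1 hL x; ⟨V, 1, h⟩).1
  haveI : Coh.IsQCoh ((Scheme.Modules.pushforward q).obj L) := QCohLib.isQCoh_pushforward q L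
  haveI : CompactSpace X := QuasiCompact.compactSpace_of_compactSpace q
  have hx : ∀ x : X, ∃ U : Y.affineOpens, q x ∈ U.1 := fun x => by
    obtain ⟨U, hU, hxU⟩ := QCohLib.exists_affine_nhd (q x)
    exact ⟨⟨U, hU⟩, hxU⟩
  choose U hxU using hx
  choose e he ms hge hrest using fun x =>
    exists_finite_secAt q hL (U x).2 (secAt_of_isRelVeryAmple h (U x).2 (x := x) (hxU x))
  choose W hW hWe using fun x => exists_genLocus hL (e x)
  obtain ⟨t, ht⟩ := isCompact_univ.elim_finite_subcover (fun x => (W x : Set X)) (fun x => (W x).isOpen)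
    (fun x _ => Set.mem_iUnion.mpr ⟨x, (hWe x x (he x)).mpr (hge x)⟩)
  obtain ⟨S, hS, hSt⟩ := exists_ft_through_finset (F := (Scheme.Modules.pushforward q).obj L)
    (t.biUnion fun x => (insert (e x) (ms x)).image fun m =>
      (⟨U x, m⟩ : Σ V : Y.affineOpens, Γ((Scheme.Modules.pushforward q).obj L, V.1)))
  have hmem : ∀ x ∈ t, ∀ m ∈ insert (e x) (ms x), S.mem (U x).1 m := fun x hx m hm =>
    hSt ⟨U x, m⟩ (Finset.mem_biUnion.mpr ⟨x, hx, Finset.mem_image_of_mem _ hm⟩)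
  refine ⟨S.toModules, S.ι, LocSub.isQCoh_toModules S hS, LocSub.isFT_toModules S hS, S.ι_app_injective,
    fun y => ?_⟩
  obtain ⟨x, hxt, hyW⟩ := Set.mem_iUnion₂.mp (ht (Set.mem_univ y))
  let e' := S.lift (e x) (hmem x hxt _ (Finset.mem_insert_self _ _))
  refine ⟨(U x).1, (U x).2, e', hW x hyW, (hWe x y (hW x hyW)).mp hyW, fun W' hW' hWe' => ?_⟩
  obtain ⟨A, hA, f, hf, hfa⟩ := hrest x W' hW' hWe'
  refine ⟨A, hA, f, hf, fun a => Subring.closure_mono ?_ (hfa a)⟩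
  rintro c (⟨r, rfl⟩ | ⟨m, hm, hmc⟩)
  · refine ⟨r • e', ?_⟩
    rw [QCohLib.app_smul]
    exact AmpleLib.res_smul L hW' (q.app (U x).1 r) _
  · exact ⟨S.lift m (hmem x hxt _ (Finset.mem_insert_of_mem hm)), hmc⟩

end data

end EGA2SymLib

end
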