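import Mathlib
import Groth.Agent.EGA2SymLib.LocalVA
import Groth.Agent.LinSysLib.ImmPn
import Groth.Agent.MiscFlat6.RelAmpleLocal
import Groth.Agent.MiscFlat6.AmpleGen
import Groth.Agent.CubeConsLib.IsoCls

/-!
# High powers of a relatively ample module are very ample
-/

set_option autoImplicit false
universe u

open CategoryTheory CategoryTheory.Limits AlgebraicGeometry TopologicalSpace Opposite
open AmpleLib (res GenOn GenAt)
open TwistLib (genSet)

noncomputable section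

namespace EGA2SymLib

variable {X Y : Scheme.{u}}

/-- global sections with affine loci and generated functions give sections at points -/
theorem secAt_of_data (q : X ⟶ Y) {M : X.Modules} (hM : PicF.IsInvertible M) {m : ℕ}
    (v : Fin (m + 1) → Γ(M, ⊤)) (k : Fin (m + 1)) (haff : IsAffineOpen (genSet hM (v k)))
    {U : Y.Opens} (hle : genSet hM (v k) ≤ q ⁻¹ᵁ U)
    (hsurj : Subring.closure (Set.range (q.appLE U (genSet hM (v k)) hle) ∪
      {c | ∃ l, c • res M (le_top : genSet hM (v k) ≤ ⊤) (v k) = res M le_top (v l)}) = ⊤)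
    {x : X} (hx : x ∈ genSet hM (v k)) : SecAt M (q ⁻¹ᵁ U) x := by
  refine ⟨res M le_top (v k), hle hx, (AmpleLib.genAt_res le_top (v k) (x := x) (hle hx)).mpr hx,
    fun W hW hWe => ?_⟩
  obtain rfl : W = genSet hM (v k) := SetLike.ext fun z =>
    ⟨fun hz => (AmpleLib.genAt_res le_top (v k) (x := z) (hW hz)).mp ((hWe z (hW hz)).mp hz),
      fun hz => (hWe z (hle hz)).mpr ((AmpleLib.genAt_res le_top (v k) (x := z) (hle hz)).mpr hz)⟩
  haveI : IsAffine (genSet hM (v k) : Scheme.{u}) := haff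
  refine ⟨_, inferInstance, 𝟙 _, inferInstance, fun a => ?_⟩
  refine (show Subring.closure _ ≤ _ from Subring.closure_mono ?_) (hsurj.ge (Subring.mem_top _))
  rintro c (⟨t, rfl⟩ | ⟨l, hl⟩)
  · refine ⟨q.app U t • res M le_top (v k), ?_⟩
    rw [AmpleLib.res_smul, AmpleLib.res_res]
    rfl
  · refine ⟨res M le_top (v l), ?_⟩
    rw [AmpleLib.res_res, AmpleLib.res_res]
    exact hl.symm

/-- over a quasi-separated morphism, data at every point give very ampleness -/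
theorem isRelVeryAmple_of_data (q : X ⟶ Y) [QuasiCompact q] [QuasiSeparated q] {M : X.Modules}
    (hM : PicF.IsInvertible M) {m : ℕ}
    (v : Fin (m + 1) → Γ(M, ⊤)) (K : Set (Fin (m + 1)))
    (hcov : ∀ x : X, ∃ k ∈ K, x ∈ genSet hM (v k))
    (haff : ∀ k ∈ K, IsAffineOpen (genSet hM (v k)))
    (hsurj : ∀ k ∈ K, ∃ (U : Y.Opens) (_ : IsAffineOpen U) (hle : genSet hM (v k) ≤ q ⁻¹ᵁ U),
      Subring.closure (Set.range (q.appLE U (genSet hM (v k)) hle) ∪
      {c | ∃ l, c • res M (le_top : genSet hM (v k) ≤ ⊤) (v k) = res M le_top (v l)}) = ⊤) :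
    RelProj.IsRelVeryAmple q M := by
  haveI : Coh.IsQCoh M :=
    (LocSuppLib.isCoh_of_isFinLocFree fun x =>
      let ⟨V, h⟩ := (CohCmpLib.invertible_iff_rank_one _).1 hM x; ⟨V, 1, h⟩).1
  haveI : Coh.IsQCoh ((Scheme.Modules.pushforward q).obj M) := QCohLib.isQCoh_pushforward q M
  refine isRelVeryAmple_of_secAt hM fun x => ?_
  obtain ⟨k, hk, hx⟩ := hcov x
  obtain ⟨U, hU, hle, hgen⟩ := hsurj k hk
  exact ⟨U, hU, secAt_of_data q hM v k (haff k hk) hle hgen hx⟩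

theorem eventually_tensorPow_isRelVeryAmple [CompactSpace Y] (f : X ⟶ Y) [QuasiCompact f] [LocallyOfFiniteType f]
    {L : X.Modules} (hL : PicF.IsInvertible L) (h : RelAmple.IsRelAmple f L) :
    ∃ n₀ : ℕ, 0 < n₀ ∧ ∀ n : ℕ, n₀ ≤ n → RelProj.IsRelVeryAmple f (CohB1.tensorPow L n) := by
  classical
  haveI := MiscFlat6.isSeparated_of_isRelAmple f h
  obtain ⟨S, hS⟩ := isCompact_univ.elim_finite_subcover (fun V : Y.affineOpens => (V.1 : Set Y))
    (fun V => V.1.2) (fun y _ => by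
      obtain ⟨V, hV, hy, -⟩ := exists_isAffineOpen_mem_and_subset (X := Y) (x := y) (U := ⊤) trivial
      exact Set.mem_iUnion.mpr ⟨⟨V, hV⟩, hy⟩)
  choose N hN using fun V : Y.affineOpens =>
    LinSysLib.exists_data_gen (f ∣_ V.1) (AmpleThLib.restrict_isInvertible hL (f ⁻¹ᵁ V.1).ι) (h.2 V)
  refine ⟨S.sum N + 1, Nat.succ_pos _, fun n hn => ?_⟩
  refine (isRelVeryAmple_iff_of_openCover f (AmpleThLib.tensorPow_isInvertible hL n) (fun V : S => V.1.1) ?_).mpr
    fun V => ?_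
  · refine eq_top_iff.mpr fun y _ => ?_
    obtain ⟨V, hV, hy⟩ := Set.mem_iUnion₂.mp (hS (Set.mem_univ y))
    exact Opens.mem_iSup.mpr ⟨⟨V, hV⟩, hy⟩
  obtain ⟨m, v, K, hcov, haff, hsurj⟩ :=
    hN V.1 n (le_trans (Finset.single_le_sum (f := N) (fun i _ => Nat.zero_le (N i)) V.2) (le_trans (Nat.le_succ _) hn))
  obtain ⟨φ, -⟩ := AmpleThLib.exists_restrIso hL (f ⁻¹ᵁ V.1.1).ι n
  exact isRelVeryAmple_of_iso φ (isRelVeryAmple_of_data (f ∣_ V.1.1) _ v K hcov haff hsurj)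

end EGA2SymLib

end

namespace EGA2SymLib

open CategoryTheory CategoryTheory.Limits AlgebraicGeometry TopologicalSpace Opposite
open AmpleLib (res GenOn GenAt)

variable {X Y : Scheme.{u}}

/-- restriction commutes with tensor products -/
theorem nonempty_restrictTensorIso {X' : Scheme.{u}} (j : X' ⟶ X) [IsOpenImmersion j] (A B : X.Modules) :
    Nonempty ((CohB1.tensorMod A B).restrict j ≅ CohB1.tensorMod (A.restrict j) (B.restrict j)) := by
  haveI := KFlatLib.isIso_pullθ j A B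
  exact ⟨(Scheme.Modules.restrictFunctorIsoPullback j).app _ ≪≫ @asIso _ _ _ _ (KFlatLib.pullθ j A B) (KFlatLib.isIso_pullθ j A B) ≪≫
    PicGrp.tensorModIso ((Scheme.Modules.restrictFunctorIsoPullback j).app A).symm
      ((Scheme.Modules.restrictFunctorIsoPullback j).app B).symm⟩

/-- twists by high powers are relatively generated -/
theorem eventually_twist_epi_canQ [CompactSpace Y] (f : X ⟶ Y)
    {L L' : X.Modules} (hL : PicF.IsInvertible L) (hL' : PicF.IsInvertible L') (h : RelAmple.IsRelAmple f L) :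
    ∃ n₀ : ℕ, ∀ n : ℕ, n₀ ≤ n → Epi (canQ f (CohB1.tensorMod (CohB1.tensorPow L n) L')) := by
  classical
  obtain ⟨S, hS⟩ := isCompact_univ.elim_finite_subcover (fun V : Y.affineOpens => (V.1 : Set Y))
    (fun V => V.1.2) (fun y _ => by
      obtain ⟨V, hV, hy, -⟩ := exists_isAffineOpen_mem_and_subset (X := Y) (x := y) (U := ⊤) trivial
      exact Set.mem_iUnion.mpr ⟨⟨V, hV⟩, hy⟩)
  choose N hN using fun V : Y.affineOpens =>
    MiscFlat6.exists_gen_twist (h.2 V) (AmpleThLib.restrict_isInvertible hL' (f ⁻¹ᵁ V.1).ι)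
  refine ⟨S.sum N, fun n hn => epi_of_genAt _ fun x => ?_⟩
  obtain ⟨V, hVS, hx⟩ := Set.mem_iUnion₂.mp (hS (Set.mem_univ (f x)))
  let j := (f ⁻¹ᵁ V.1).ι
  let M := CohB1.tensorMod (CohB1.tensorPow L n) L'
  obtain ⟨φ, -⟩ := AmpleThLib.exists_restrIso hL j n
  obtain ⟨ψ⟩ := nonempty_restrictTensorIso j (CohB1.tensorPow L n) L'
  let Φ := ψ ≪≫ PicGrp.tensorModIso φ.symm (Iso.refl _)
  obtain ⟨σ, hσ⟩ := hN V n (le_trans (Finset.single_le_sum (f := N) (fun i _ => Nat.zero_le (N i)) hVS) hn) ⟨x, hx⟩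
  let σ' : Γ(M.restrict j, ⊤) := Φ.inv.app ⊤ σ
  have h1 : GenAt (M.restrict j) σ' (show (⟨x, hx⟩ : (f ⁻¹ᵁ V.1 : X.Opens)) ∈ (⊤ : Opens _) from trivial) :=
    (TwistLib.genAt_app_iso Φ.symm σ (Set.mem_univ _)).mpr hσ
  have h2 := (genAt_restrict j (AmpleThLib.shT_isInvertible (AmpleThLib.tensorPow_isInvertible hL n) hL') σ' _).mp h1
  have e : j ''ᵁ ⊤ = f ⁻¹ᵁ V.1 := Scheme.Opens.ι_image_top _
  refine ⟨f ⁻¹ᵁ V.1, hx, KFlatLib.puSec f (show Γ((Scheme.Modules.pushforward f).obj M, V.1) from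
    res M e.ge (show Γ(M, j ''ᵁ ⊤) from σ')), ?_⟩
  refine genAt_congr (qVal_canQ f M V.1 _).symm ?_
  exact (AmpleLib.genAt_res e.ge _ (x := x) hx).mpr h2

theorem eventually_twist_isRelVeryAmple [CompactSpace Y] (f : X ⟶ Y) [QuasiCompact f] [LocallyOfFiniteType f]
    {L L' : X.Modules} (hL : PicF.IsInvertible L) (hL' : PicF.IsInvertible L') (h : RelAmple.IsRelAmple f L) :
    ∃ n₀ : ℕ, ∀ n : ℕ, n₀ ≤ n → RelProj.IsRelVeryAmple f (CohB1.tensorMod (CohB1.tensorPow L n) L') := by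
  haveI := MiscFlat6.isSeparated_of_isRelAmple f h
  obtain ⟨m, -, hm⟩ := eventually_tensorPow_isRelVeryAmple f hL h
  obtain ⟨k, hk⟩ := eventually_twist_epi_canQ f hL hL' h
  refine ⟨m + k, fun n hn => ?_⟩
  obtain ⟨t, rfl⟩ : ∃ t, n = m + t := ⟨n - m, by omega⟩
  have hM : PicF.IsInvertible (CohB1.tensorMod (CohB1.tensorPow L t) L') :=
    AmpleThLib.shT_isInvertible (AmpleThLib.tensorPow_isInvertible hL t) hL'
  haveI : Coh.IsQCoh (CohB1.tensorMod (CohB1.tensorPow L t) L') :=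
    (LocSuppLib.isCoh_of_isFinLocFree fun x =>
      let ⟨V, h⟩ := (CohCmpLib.invertible_iff_rank_one _).1 hM x; ⟨V, 1, h⟩).1
  haveI : Coh.IsQCoh ((Scheme.Modules.pushforward f).obj (CohB1.tensorMod (CohB1.tensorPow L t) L')) :=
    QCohLib.isQCoh_pushforward f _
  haveI := hk t (by omega)
  refine isRelVeryAmple_of_iso ?_ (isRelVeryAmple_tensor_of_quot (AmpleThLib.tensorPow_isInvertible hL m) hM
    (hm m le_rfl) (canQ f _))
  exact (HilbPolyLib.assocIso _ _ _).symm ≪≫ PicGrp.tensorModIso (AmpleThLib.mulIso hL m t) (Iso.refl _)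

end EGA2SymLib
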