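import Mathlib
import Groth.Agent.EGA2SymLib.FinSec
import Groth.Agent.EGA2SymLib.AmpleVA

/-!
# Very ample relative to projective spaces and to projective bundles
-/

set_option autoImplicit false
universe u

open CategoryTheory CategoryTheory.Limits AlgebraicGeometry TopologicalSpace Opposite
open ChowLib RelProjLib AmpleThLib
open AmpleLib (res GenOn GenAt)
open TwistLib (genSet)

noncomputable section

namespace EGA2SymLib

variable {X Y : Scheme.{u}}

/-- functions of a standard open of projective space -/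
theorem closure_cj_eq_top {m : ℕ} (k : Fin (m + 1)) :
    Subring.closure (Set.range fun l => (cj.{u} k l : Γ(PZ.{u} m, Dplus k))) = ⊤ := by
  have hgen : Subring.closure ((gr.{u} m 0 : Set (MvPolynomial (Fin (m + 1)) Z.{u})) ∪ (gr.{u} m 1 : Set _)) = ⊤ := by
    refine eq_top_iff.mpr fun p hp0 => ?_
    clear hp0
    induction p using MvPolynomial.induction_on with
    | C c => exact Subring.subset_closure (Or.inl (MvPolynomial.isHomogeneous_C _ c))
    | add p q hp hq => exact add_mem hp hq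
    | mul_X p i hp => exact mul_mem hp (Subring.subset_closure (Or.inr (MvPolynomial.isHomogeneous_X _ i)))
  refine eq_top_iff.mpr fun c _ => ?_
  obtain ⟨q, rfl⟩ := awayToSection_surjective (𝒜 := gr.{u} m) (ChowLib.X_mem k) one_pos c
  have hq : q ∈ Subring.closure {q : HomogeneousLocalization.Away (gr.{u} m) (MvPolynomial.X k) |
      ∃ (x : MvPolynomial (Fin (m + 1)) Z.{u}) (hx : x ∈ gr.{u} m 1), q = frac (ChowLib.X_mem k) 1 x hx} := by
    rw [closure_frac_eq_top (ChowLib.X_mem k) hgen]; trivial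
  refine (Subring.closure_le (t := (Subring.closure (Set.range fun l => (cj.{u} k l : Γ(PZ.{u} m, Dplus k)))).comap
    (Proj.awayToSection (gr.{u} m) (MvPolynomial.X k)).hom)).mpr ?_ hq
  rintro _ ⟨x, hx, rfl⟩
  let S := (Subring.closure (Set.range fun l => (cj.{u} k l : Γ(PZ.{u} m, Dplus k)))).comap
    (Proj.awayToSection (gr.{u} m) (MvPolynomial.X k)).hom
  have hlin : ∀ y ∈ Submodule.span Z.{u} (Set.range (MvPolynomial.X : Fin (m + 1) → MvPolynomial _ Z.{u})),
      ∀ hy : y ∈ gr.{u} m 1, frac (ChowLib.X_mem k) 1 y hy ∈ S := by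
    intro y hys
    induction hys using Submodule.span_induction with
    | mem y hy =>
      obtain ⟨l, rfl⟩ := hy
      intro _
      exact Subring.subset_closure ⟨l, rfl⟩
    | zero => intro _; rw [frac_zero]; exact zero_mem _
    | add a b ha hb iha ihb =>
      intro hab
      have ha' : a ∈ gr.{u} m 1 := by
        show a ∈ MvPolynomial.homogeneousSubmodule _ _ 1
        rw [MvPolynomial.homogeneousSubmodule_one_eq_span_X]; exact ha
      have hb' : b ∈ gr.{u} m 1 := by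
        show b ∈ MvPolynomial.homogeneousSubmodule _ _ 1
        rw [MvPolynomial.homogeneousSubmodule_one_eq_span_X]; exact hb
      rw [show frac (ChowLib.X_mem k) 1 (a + b) hab = _ from frac_add (ChowLib.X_mem k) ha' hb']
      exact add_mem (iha ha') (ihb hb')
    | smul c y hy ih =>
      intro hcy
      have hy' : y ∈ gr.{u} m 1 := by
        show y ∈ MvPolynomial.homogeneousSubmodule _ _ 1
        rw [MvPolynomial.homogeneousSubmodule_one_eq_span_X]; exact hy
      have e : frac (ChowLib.X_mem k) 1 (c • y) hcy = c.down • frac (ChowLib.X_mem k) 1 y hy' := by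
        apply HomogeneousLocalization.val_injective
        rw [HomogeneousLocalization.val_smul]
        simp only [HomogeneousLocalization.Away.val_mk, Localization.smul_mk]
        exact congrArg₂ Localization.mk (by
          rw [Algebra.smul_def, show (algebraMap Z.{u} (MvPolynomial (Fin (m + 1)) Z.{u})) c =
            (c.down : MvPolynomial (Fin (m + 1)) Z.{u}) by
              rw [← map_intCast (algebraMap Z.{u} (MvPolynomial (Fin (m + 1)) Z.{u}))]; congr 1,
            ← zsmul_eq_mul]) rfl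
      rw [e]
      exact zsmul_mem (ih hy') _
  refine hlin x ?_ hx
  rw [← MvPolynomial.homogeneousSubmodule_one_eq_span_X]
  exact hx

/-- opens of the factors cut out a fibre product -/
theorem isPullback_opens {P A B T : Scheme.{u}} {a : P ⟶ A} {b : P ⟶ B} {f : A ⟶ T} {g : B ⟶ T}
    (h : IsPullback a b f g) (D : A.Opens) (U : B.Opens) {O : P.Opens} (hO : O = a ⁻¹ᵁ D ⊓ b ⁻¹ᵁ U)
    (hD : O ≤ a ⁻¹ᵁ D) (hU : O ≤ b ⁻¹ᵁ U) :
    IsPullback (a.resLE D O hD) (b.resLE U O hU) (D.ι ≫ f) (U.ι ≫ g) := by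
  have w : a.resLE D O hD ≫ D.ι ≫ f = b.resLE U O hU ≫ U.ι ≫ g := by
    rw [← Category.assoc, ← Category.assoc, Scheme.Hom.resLE_comp_ι, Scheme.Hom.resLE_comp_ι, Category.assoc,
      Category.assoc, h.w]
  let L := fun (s : PullbackCone (D.ι ≫ f) (U.ι ≫ g)) =>
    h.lift (s.fst ≫ D.ι) (s.snd ≫ U.ι) (by simpa only [Category.assoc] using s.condition)
  have hr : ∀ s, Set.range (L s).base ⊆ Set.range O.ι.base := by
    intro s
    rw [Scheme.Opens.range_ι]
    rintro _ ⟨z, rfl⟩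
    show (L s) z ∈ O
    rw [hO]
    refine ⟨?_, ?_⟩
    · show (L s ≫ a) z ∈ D
      rw [h.lift_fst]
      exact (s.fst z).2
    · show (L s ≫ b) z ∈ U
      rw [h.lift_snd]
      exact (s.snd z).2
  refine IsPullback.of_isLimit' ⟨w⟩ (PullbackCone.IsLimit.mk _ (fun s => IsOpenImmersion.lift O.ι (L s) (hr s))
    (fun s => ?_) (fun s => ?_) fun s l hl1 hl2 => ?_)
  · rw [← cancel_mono D.ι, Category.assoc, Scheme.Hom.resLE_comp_ι, IsOpenImmersion.lift_fac_assoc, h.lift_fst]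
  · rw [← cancel_mono U.ι, Category.assoc, Scheme.Hom.resLE_comp_ι, IsOpenImmersion.lift_fac_assoc, h.lift_snd]
  · rw [← cancel_mono O.ι, IsOpenImmersion.lift_fac]
    apply h.hom_ext
    · rw [h.lift_fst, ← hl1, Category.assoc, Category.assoc, Scheme.Hom.resLE_comp_ι]
    · rw [h.lift_snd, ← hl2, Category.assoc, Category.assoc, Scheme.Hom.resLE_comp_ι]

/-- functions on a fibre product of affine schemes -/
theorem closure_range_of_isPullback {O D U T : Scheme.{u}} [IsAffine O] [IsAffine D] [IsAffine U] [IsAffine T]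
    {a : O ⟶ D} {b : O ⟶ U} {c : D ⟶ T} {d : U ⟶ T} (h : IsPullback a b c d) :
    Subring.closure (Set.range a.appTop ∪ Set.range b.appTop) = ⊤ := by
  let R := Subring.closure (Set.range a.appTop ∪ Set.range b.appTop)
  let e := toSpecSubring O R
  have lift : ∀ {D' : Scheme.{u}} [IsAffine D'] (a' : O ⟶ D'), Set.range a'.appTop ⊆ R →
      ∃ a₀ : Spec (CommRingCat.of R) ⟶ D', e ≫ a₀ = a' := by
    intro D' _ a' ha'
    refine ⟨Spec.map (CommRingCat.ofHom (a'.appTop.hom.codRestrict R fun x => ha' ⟨x, rfl⟩)) ≫ inv D'.toSpecΓ, ?_⟩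
    rw [← Category.assoc, IsIso.comp_inv_eq, Scheme.toSpecΓ_naturality, Category.assoc, ← Spec.map_comp]
    rfl
  obtain ⟨a₀, ha₀⟩ := lift a (Set.subset_union_left.trans Subring.subset_closure)
  obtain ⟨b₀, hb₀⟩ := lift b (Set.subset_union_right.trans Subring.subset_closure)
  have hcomm : a₀ ≫ c = b₀ ≫ d := by
    have h1 : e ≫ a₀ ≫ c = e ≫ b₀ ≫ d := by rw [← Category.assoc, ha₀, h.w, ← hb₀, Category.assoc]
    refine ext_of_isAffine (CommRingCat.hom_ext (RingHom.ext fun t => ?_))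
    obtain ⟨β, hβ⟩ := (ConcreteCategory.bijective_of_isIso (Scheme.ΓSpecIso (CommRingCat.of R)).inv).2 ((a₀ ≫ c).appTop t)
    obtain ⟨β', hβ'⟩ := (ConcreteCategory.bijective_of_isIso (Scheme.ΓSpecIso (CommRingCat.of R)).inv).2 ((b₀ ≫ d).appTop t)
    have h2 := congr($(congrArg Scheme.Hom.appTop h1) t)
    simp only [Scheme.Hom.comp_appTop _ (a₀ ≫ c), Scheme.Hom.comp_appTop _ (b₀ ≫ d), CommRingCat.comp_apply] at h2
    rw [← hβ, ← hβ', toSpecSubring_appTop, toSpecSubring_appTop] at h2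
    rw [← hβ, ← hβ', Subtype.ext h2]
  let s := h.lift a₀ b₀ hcomm
  have hs : e ≫ s = 𝟙 O := by
    apply h.hom_ext
    · rw [Category.assoc, h.lift_fst, ha₀, Category.id_comp]
    · rw [Category.assoc, h.lift_snd, hb₀, Category.id_comp]
  refine eq_top_iff.mpr fun x _ => ?_
  have hx : e.appTop (s.appTop x) = x := by
    rw [← CommRingCat.comp_apply, ← Scheme.Hom.comp_appTop, hs]
    simp
  obtain ⟨β, hβ⟩ := (ConcreteCategory.bijective_of_isIso (Scheme.ΓSpecIso (CommRingCat.of R)).inv).2 (s.appTop x)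
  rw [← hx, ← hβ, toSpecSubring_appTop]
  exact β.2

end EGA2SymLib

end

namespace EGA2SymLib

open CategoryTheory CategoryTheory.Limits AlgebraicGeometry TopologicalSpace Opposite
open ChowLib RelProjLib AmpleThLib
open AmpleLib (res GenOn GenAt)
open TwistLib (genSet)

variable {X Y : Scheme.{u}}

/-- the sections of an immersion into projective space -/
theorem exists_pn_data (q : X ⟶ Y) {M : X.Modules} (h : RelAmple.IsRelVeryAmplePn q M) :
    ∃ (n : ℕ) (τ : Fin (n + 1) → Γ(M, ⊤)),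
      (∀ x : X, ∃ a, GenAt M (τ a) (show x ∈ (⊤ : X.Opens) from trivial)) ∧
      ∀ (a : Fin (n + 1)) (U : Y.Opens) (_ : IsAffineOpen U) (W : X.Opens) (hW : W ≤ q ⁻¹ᵁ U),
        (∀ z ∈ W, GenAt M (τ a) (show z ∈ (⊤ : X.Opens) from trivial)) →
        ∃ (A : Scheme.{u}) (_ : IsAffine A) (f : (W : Scheme.{u}) ⟶ A) (_ : IsImmersion f),
          ∀ t : Γ(A, ⊤), W.topIso.hom (f.appTop t) ∈ Subring.closure (Set.range (q.appLE U W hW) ∪
            {c : Γ(X, W) | ∃ l, c • res M (le_top : W ≤ ⊤) (τ a) = res M le_top (τ l)}) := by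
  classical
  obtain ⟨n, i, hi, hiq, ⟨φ⟩⟩ := h
  haveI := hi
  change i ≫ CohB1.ProjSpaceOver.toBase n Y = q at hiq
  let r := i ≫ toPZ n Y
  let O1 := Twist.twist (gr.{u} n) ((1 : ℕ) : ℤ)
  let ψ : KFlatLib.pb r O1 ≅ M := ((Scheme.Modules.pullbackComp i (toPZ n Y)).app _).symm ≪≫ φ.symm
  let glob : Fin (n + 1) → Γ(O1, ⊤) := fun a =>
    Twist.globalOf (gr.{u} n) ⟨MvPolynomial.X a, X_mem a⟩
  let τ : Fin (n + 1) → Γ(M, ⊤) := fun j => ψ.hom.app ⊤ (KFlatLib.puSec r (glob j))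
  let b := Pi.basisFun Z.{u} (Fin (n + 1))
  let ι : (Fin (n + 1) → Z.{u}) →ₗ[Z.{u}] MvPolynomial (Fin (n + 1)) Z.{u} :=
    Module.Basis.constr b Z.{u} MvPolynomial.X
  have hι : ∀ c, ι c ∈ gr.{u} n 1 := by
    intro c
    rw [Module.Basis.constr_apply_fintype]
    exact sum_mem fun i _ => Submodule.smul_mem _ _ (MvPolynomial.isHomogeneous_X _ i)
  have hsym : IsSymmetricAlgebra ι := SymmetricAlgebra.IsSymmetricAlgebra.mvPolynomial (Fin (n + 1)) b
  have hgen : ∀ (a : Fin (n + 1)) (z : X), GenAt M (τ a) (show z ∈ (⊤ : X.Opens) from trivial) ↔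
      z ∈ r ⁻¹ᵁ Dplus a := by
    intro a z
    have hbι : ι (b a) = MvPolynomial.X a := b.constr_basis _ _ a
    refine (TwistLib.genAt_app_iso ψ _ _).trans ?_
    have h2 := TwistLib.SymUP.genAt_pull_iff (gr.{u} n) ι hι hsym r (b a) z
    have e : (⟨ι (b a), hι (b a)⟩ : gr.{u} n 1) = ⟨MvPolynomial.X a, X_mem a⟩ := Subtype.ext hbι
    change _ ↔ r z ∈ Proj.basicOpen (gr.{u} n) (MvPolynomial.X a)
    rw [← hbι]
    refine Iff.trans ?_ h2
    simp only [glob, ← e]
    rfl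
  have hrel : ∀ (a j : Fin (n + 1)), (show Γ(X, r ⁻¹ᵁ Dplus a) from r.app (Dplus a) (cj a j)) •
      res M (le_top : r ⁻¹ᵁ Dplus a ≤ ⊤) (τ a) = res M le_top (τ j) := by
    intro a j
    have hc := TwistLib.frac_smul_globalOf (gr.{u} n) (X_mem a) (X_mem j)
    have hfr : TwistLib.frac (gr.{u} n) (X_mem a) (X_mem j) = coordRing a j := rfl
    rw [hfr] at hc
    have h1 := congrArg (fun t => ψ.hom.app (r ⁻¹ᵁ Dplus a) (KFlatLib.puSec r t)) hc
    have h2 : ∀ i, ψ.hom.app (r ⁻¹ᵁ Dplus a) (KFlatLib.puSec r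
        (res O1 (le_top : Dplus a ≤ ⊤) (glob i))) = res M (le_top : r ⁻¹ᵁ Dplus a ≤ ⊤) (τ i) := fun i =>
      (congrArg (ψ.hom.app (r ⁻¹ᵁ Dplus a)) (TwistLib.puSec_res r le_top (glob i))).trans
        (NatTrans.naturality_apply ψ.hom.mapPresheaf (homOfLE (le_top : r ⁻¹ᵁ Dplus a ≤ ⊤)).op _)
    have e1 := congrArg (ψ.hom.app (r ⁻¹ᵁ Dplus a)) (TwistLib.puSec_smul r (cj a j)
      (res O1 (le_top : Dplus a ≤ ⊤) (glob a)))
    have h3 := (Scheme.Modules.Hom.app_smul ψ.hom _ _).symm.trans (e1.symm.trans h1)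
    exact ((congrArg (_ • ·) (h2 a)).symm.trans h3).trans (h2 j)
  refine ⟨n, τ, fun x => ?_, fun a U hU W hW hWg => ?_⟩
  · obtain ⟨a, ha⟩ := Opens.mem_iSup.mp (show x ∈ ⨆ a, r ⁻¹ᵁ Dplus a by
      rw [← Scheme.Hom.preimage_iSup, iSup_Dplus]; trivial)
    exact ⟨a, (hgen a x).mpr ha⟩
  let O := Pk Y a ⊓ CohB1.ProjSpaceOver.toBase n Y ⁻¹ᵁ U
  haveI : IsAffine (O : Scheme.{u}) := LinSysLib.isAffineOpen_Pk_inf a hU
  have hWr : W ≤ r ⁻¹ᵁ Dplus a := fun z hz => (hgen a z).mp (hWg z hz)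
  have hWO : W ≤ i ⁻¹ᵁ O := fun z hz => ⟨hWr hz, by
    show (i ≫ CohB1.ProjSpaceOver.toBase n Y) z ∈ U
    rw [hiq]
    exact hW hz⟩
  refine ⟨_, inferInstance, i.resLE O W hWO, inferInstance, fun t => ?_⟩
  have h1 : W.topIso.hom ((i.resLE O W hWO).appTop t) = i.appLE O W hWO (O.topIso.hom t) := by
    simp only [Scheme.Hom.appTop, Scheme.Hom.resLE_app_top, CommRingCat.comp_apply]
    exact CategoryTheory.Iso.inv_hom_id_apply W.topIso _
  rw [h1]
  generalize O.topIso.hom t = c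
  have hc : c ∈ Subring.closure (Set.range ((toPZ n Y).appLE (Dplus a) O inf_le_left) ∪
      Set.range ((CohB1.ProjSpaceOver.toBase n Y).appLE U O inf_le_right)) := by
    haveI : IsAffine (Dplus.{u} a : (PZ.{u} n).Opens).toScheme := isAffineOpen_Dplus a
    haveI : IsAffine (U : Scheme.{u}) := hU
    have hsq : IsPullback ((toPZ n Y).resLE (Dplus a) O inf_le_left)
        ((CohB1.ProjSpaceOver.toBase n Y).resLE U O inf_le_right)
        ((Dplus a).ι ≫ CohB1.ProjSpace.toSpec n (ULift.{u} ℤ)) (U.ι ≫ specULiftZIsTerminal.from Y) := by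
      exact isPullback_opens (IsPullback.of_hasPullback _ _) (Dplus a) U rfl _ _
    have h2 := (closure_range_of_isPullback hsq).ge (Subring.mem_top (O.topIso.inv c))
    have h3 : O.topIso.hom (O.topIso.inv c) ∈
        (Subring.closure (Set.range ((toPZ n Y).resLE (Dplus a) O inf_le_left).appTop ∪
          Set.range ((CohB1.ProjSpaceOver.toBase n Y).resLE U O inf_le_right).appTop)).map O.topIso.hom.hom :=
      ⟨_, h2, rfl⟩
    rw [RingHom.map_closure, Set.image_union, CategoryTheory.Iso.inv_hom_id_apply] at h3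
    refine Subring.closure_mono (Set.union_subset_union ?_ ?_) h3
    · rintro _ ⟨_, ⟨s, rfl⟩, rfl⟩
      refine ⟨(Dplus a).topIso.hom s, ?_⟩
      simp only [Scheme.Hom.appTop, Scheme.Hom.resLE_app_top, CommRingCat.comp_apply]
      exact (CategoryTheory.Iso.inv_hom_id_apply O.topIso _).symm
    · rintro _ ⟨_, ⟨s, rfl⟩, rfl⟩
      refine ⟨U.topIso.hom s, ?_⟩
      simp only [Scheme.Hom.appTop, Scheme.Hom.resLE_app_top, CommRingCat.comp_apply]
      exact (CategoryTheory.Iso.inv_hom_id_apply O.topIso _).symm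
  refine (Subring.closure_le (t := (Subring.closure (Set.range (q.appLE U W hW) ∪
    {c : Γ(X, W) | ∃ l, c • res M (le_top : W ≤ ⊤) (τ a) = res M le_top (τ l)})).comap
      (i.appLE O W hWO).hom)).mpr ?_ hc
  rintro _ (⟨d, rfl⟩ | ⟨s, rfl⟩)
  · have hd : d ∈ Subring.closure (Set.range fun l => (cj.{u} a l : Γ(PZ.{u} n, Dplus a))) := by
      rw [closure_cj_eq_top]; trivial
    refine (Subring.closure_le (t := (Subring.closure (Set.range (q.appLE U W hW) ∪
      {c : Γ(X, W) | ∃ l, c • res M (le_top : W ≤ ⊤) (τ a) = res M le_top (τ l)})).comap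
      ((i.appLE O W hWO).hom.comp ((toPZ n Y).appLE (Dplus a) O inf_le_left).hom))).mpr ?_ hd
    rintro _ ⟨l, rfl⟩
    refine Subring.subset_closure (Or.inr ⟨l, ?_⟩)
    have h5 : i.appLE O W hWO ((toPZ n Y).appLE (Dplus a) O inf_le_left (cj a l)) =
        X.presheaf.map (homOfLE hWr).op (r.app (Dplus a) (cj a l)) := by
      rw [← CommRingCat.comp_apply, Scheme.Hom.appLE_comp_appLE]
      rfl
    have h4 := congrArg (res M hWr) (hrel a l)
    rw [AmpleLib.res_smul, AmpleLib.res_res, AmpleLib.res_res] at h4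
    exact h5 ▸ h4
  · refine Subring.subset_closure (Or.inl ⟨s, ?_⟩)
    show _ = i.appLE O W hWO _
    rw [← CommRingCat.comp_apply, Scheme.Hom.appLE_comp_appLE]
    simp only [hiq]

theorem secAt_of_isRelVeryAmplePn (q : X ⟶ Y) {M : X.Modules}
    (h : RelAmple.IsRelVeryAmplePn q M) {U : Y.Opens} (hU : IsAffineOpen U) {x : X} (hx : x ∈ q ⁻¹ᵁ U) :
    SecAt M (q ⁻¹ᵁ U) x := by
  obtain ⟨n, τ, hcov, hdata⟩ := exists_pn_data q h
  obtain ⟨a, ha⟩ := hcov x
  refine ⟨res M le_top (τ a), hx, (AmpleLib.genAt_res le_top (τ a) (x := x) hx).mpr ha, fun W hW hWe => ?_⟩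
  obtain ⟨A, hA, f, hf, hfa⟩ := hdata a U hU W hW fun z hz =>
    (AmpleLib.genAt_res le_top (τ a) (x := z) (hW hz)).mp ((hWe z (hW hz)).mp hz)
  refine ⟨A, hA, f, hf, fun t => Subring.closure_mono ?_ (hfa t)⟩
  rintro c (⟨s, rfl⟩ | ⟨l, hl⟩)
  · refine ⟨q.app U s • res M le_top (τ a), ?_⟩
    rw [AmpleLib.res_smul]
    rfl
  · refine ⟨res M le_top (τ l), ?_⟩
    rw [AmpleLib.res_res, AmpleLib.res_res]
    exact hl.symm

theorem isRelVeryAmple_of_isRelVeryAmplePn (q : X ⟶ Y) [QuasiCompact q] {M : X.Modules}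
    (hM : PicF.IsInvertible M) (h : RelAmple.IsRelVeryAmplePn q M) : RelProj.IsRelVeryAmple q M := by
  obtain ⟨n, i, hi, hiq, e⟩ := h
  haveI := hi
  haveI : IsSeparated q := by
    rw [← hiq]
    haveI : IsSeparated (CohB1.ProjSpaceOver.toBase n Y) := (ChowLib.isProper_toBase n Y).toIsSeparated
    exact inferInstanceAs (IsSeparated (i ≫ CohB1.ProjSpaceOver.toBase n Y))
  haveI : Coh.IsQCoh M :=
    (LocSuppLib.isCoh_of_isFinLocFree fun x =>
      let ⟨V, h⟩ := (CohCmpLib.invertible_iff_rank_one _).1 hM x; ⟨V, 1, h⟩).1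
  haveI : Coh.IsQCoh ((Scheme.Modules.pushforward q).obj M) := QCohLib.isQCoh_pushforward _ _
  refine isRelVeryAmple_of_secAt hM fun x => ?_
  obtain ⟨U, hU, hxU, -⟩ := exists_isAffineOpen_mem_and_subset (X := Y) (x := q x) (U := ⊤) trivial
  exact ⟨U, hU, secAt_of_isRelVeryAmplePn q ⟨n, i, hi, hiq, e⟩ hU hxU⟩

end EGA2SymLib

namespace EGA2SymLib

open CategoryTheory CategoryTheory.Limits AlgebraicGeometry TopologicalSpace Opposite
open ChowLib RelProjLib AmpleThLib
open AmpleLib (res GenOn GenAt)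
open TwistLib (genSet)

variable {X Y : Scheme.{u}}

/-- sections whose ratios embed their loci give an immersion into projective space -/
theorem isRelVeryAmplePn_of_range (q : X ⟶ Y) {M : X.Modules} (hM : PicF.IsInvertible M) {m : ℕ}
    (v : Fin (m + 1) → Γ(M, ⊤)) (K : Set (Fin (m + 1)))
    (hcov : ∀ x : X, ∃ k ∈ K, x ∈ genSet hM (v k))
    (hrange : ∀ k ∈ K, ∃ (U : Y.Opens) (_ : IsAffineOpen U) (hle : genSet hM (v k) ≤ q ⁻¹ᵁ U)
      (A : Scheme.{u}) (_ : IsAffine A) (f : (genSet hM (v k) : Scheme.{u}) ⟶ A) (_ : IsImmersion f),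
      ∀ a : Γ(A, ⊤), (genSet hM (v k)).topIso.hom (f.appTop a) ∈
        Subring.closure (Set.range (q.appLE U (genSet hM (v k)) hle) ∪
          {c | ∃ l, c • res M (le_top : genSet hM (v k) ≤ ⊤) (v k) = res M le_top (v l)})) :
    RelAmple.IsRelVeryAmplePn q M := by
  obtain ⟨r, τ, hpre, hcoef⟩ := exists_toPZ hM v (fun x => (hcov x).imp fun k hk => hk.2)
  let i : X ⟶ CohB1.ProjSpaceOver m Y := pullback.lift r q (specULiftZIsTerminal.hom_ext _ _)
  have hfst : i ≫ toPZ m Y = r := pullback.lift_fst _ _ _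
  have hsnd : i ≫ CohB1.ProjSpaceOver.toBase m Y = q := pullback.lift_snd _ _ _
  refine ⟨m, i, isImmersion_of_targets i fun x => ?_, hsnd, ⟨τ.symm ≪≫
    ((Scheme.Modules.pullbackCongr hfst).app _).symm ≪≫
    ((Scheme.Modules.pullbackComp i (toPZ m Y)).app _).symm⟩⟩
  obtain ⟨k, hk, hx⟩ := hcov x
  obtain ⟨U, hU, hle, A, hA, f, hf, hfa⟩ := hrange k hk
  haveI := hA
  haveI := hf
  let O := Pk Y k ⊓ CohB1.ProjSpaceOver.toBase m Y ⁻¹ᵁ U
  have hP : i ⁻¹ᵁ O = genSet hM (v k) := by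
    refine le_antisymm (fun z hz => ?_) fun z hz => ⟨?_, ?_⟩
    · rw [← hpre k, ← hfst]; exact hz.1
    · show (i ≫ toPZ m Y) z ∈ Dplus k
      rw [hfst]
      exact (hpre k).ge hz
    · show (i ≫ CohB1.ProjSpaceOver.toBase m Y) z ∈ U
      rw [hsnd]
      exact hle hz
  refine ⟨O, hP.ge hx, ?_⟩
  haveI : IsAffine (O : Scheme.{u}) := LinSysLib.isAffineOpen_Pk_inf k hU
  haveI : IsImmersion (i.resLE O (genSet hM (v k)) hP.ge) := by
    refine isImmersion_of_range_le f _ ?_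
    rintro _ ⟨a, rfl⟩
    have key : Set.range (q.appLE U (genSet hM (v k)) hle) ∪
        {c | ∃ l, c • res M (le_top : genSet hM (v k) ≤ ⊤) (v k) = res M le_top (v l)} ⊆
        (i.appLE O (genSet hM (v k)) hP.ge).hom.range := by
      rintro c (⟨y, rfl⟩ | ⟨l, hl⟩)
      · refine ⟨(CohB1.ProjSpaceOver.toBase m Y).appLE U O inf_le_right y, ?_⟩
        rw [← CommRingCat.comp_apply, Scheme.Hom.appLE_comp_appLE]
        simp only [hsnd]
      · refine ⟨(toPZ m Y).appLE (Dplus k) O inf_le_left (cj k l), ?_⟩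
        rw [← CommRingCat.comp_apply, Scheme.Hom.appLE_comp_appLE]
        simp only [hfst]
        refine (TwistLib.genSet_genOn hM (v k) _ le_rfl).1 ?_
        dsimp only
        rw [AmpleLib.res_res, hl]
        have h1 := congrArg (res M (hpre k).ge) (hcoef k l)
        rw [AmpleLib.res_smul, AmpleLib.res_res, AmpleLib.res_res] at h1
        refine Eq.trans ?_ h1
        congr 1
    obtain ⟨d, hd⟩ := (Subring.closure_le.mpr key) (hfa a)
    refine ⟨O.topIso.inv d, ?_⟩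
    simp only [Scheme.Hom.appTop, Scheme.Hom.resLE_app_top, CommRingCat.comp_apply,
      ← CommRingCat.comp_apply _ O.topIso.hom, Iso.inv_hom_id, CommRingCat.id_apply]
    exact (congrArg (genSet hM (v k)).topIso.inv hd).trans (CategoryTheory.Iso.hom_inv_id_apply _ _)
  have e : (i ⁻¹ᵁ O).ι ≫ i = (X.isoOfEq hP).hom ≫ i.resLE O (genSet hM (v k)) hP.ge ≫ O.ι := by
    rw [Scheme.Hom.resLE_comp_ι, Scheme.isoOfEq_hom_ι_assoc]
  rw [e]
  infer_instance

theorem isRelVeryAmplePn_of_isRelVeryAmple [IsAffine Y] (q : X ⟶ Y) [LocallyOfFiniteType q] [QuasiCompact q]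
    {L : X.Modules} (hL : PicF.IsInvertible L) (h : RelProj.IsRelVeryAmple q L) :
    RelAmple.IsRelVeryAmplePn q L := by
  classical
  have hU : IsAffineOpen (⊤ : Y.Opens) := isAffineOpen_top Y
  haveI : CompactSpace X := QuasiCompact.compactSpace_of_compactSpace q
  choose e hx ms he hrest using fun x : X =>
    exists_finite_secAt q hL hU (secAt_of_isRelVeryAmple h hU (x := x) trivial)
  let s : X → Γ(L, ⊤) := fun x => e x
  obtain ⟨T, hT⟩ := isCompact_univ.elim_finite_subcover (fun x => (genSet hL (s x) : Set X))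
    (fun x => (genSet hL (s x)).2) fun x _ => Set.mem_iUnion.mpr ⟨x, he x⟩
  let F : Finset Γ(L, ⊤) := T.image s ∪ T.biUnion (fun x => ms x) ∪ {0}
  obtain ⟨m, hm⟩ : ∃ m, F.card = m + 1 :=
    ⟨F.card - 1, (Nat.succ_pred_eq_of_pos (Finset.card_pos.mpr ⟨0, by simp [F]⟩)).symm⟩
  let v : Fin (m + 1) → Γ(L, ⊤) := fun k => (F.equivFinOfCardEq hm).symm k
  have hv : ∀ g ∈ F, ∃ k, v k = g := fun g hg => ⟨F.equivFinOfCardEq hm ⟨g, hg⟩, by simp [v]⟩
  refine isRelVeryAmplePn_of_range q hL v {k | ∃ x ∈ T, v k = s x} (fun z => ?_) ?_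
  · obtain ⟨x, hxT, hz⟩ := Set.mem_iUnion₂.mp (hT (Set.mem_univ z))
    obtain ⟨k, hk⟩ := hv (s x) (Finset.mem_union_left _ (Finset.mem_union_left _ (Finset.mem_image_of_mem s hxT)))
    exact ⟨k, ⟨x, hxT, hk⟩, by rw [hk]; exact hz⟩
  rintro k ⟨x, hxT, hk⟩
  obtain ⟨A, hA, f, hf, hfa⟩ := hrest x (genSet hL (v k)) le_top fun z hz => by
    rw [hk]; exact Iff.rfl
  refine ⟨⊤, hU, le_top, A, hA, f, hf, fun a => (Subring.closure_mono ?_) (hfa a)⟩
  rintro c (hc | ⟨g, hg, hgc⟩)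
  · exact Or.inl hc
  · obtain ⟨l, hl⟩ := hv g (Finset.mem_union_left _ (Finset.mem_union_right _ (Finset.mem_biUnion.mpr ⟨x, hxT, hg⟩)))
    exact Or.inr ⟨l, (congrArg (fun t => c • res L (le_top : genSet hL (v k) ≤ ⊤) t) hk).trans
      (hgc.symm.trans (congrArg (res L le_top) hl.symm))⟩

end EGA2SymLib
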