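import Mathlib
import Groth.Agent.EGA2SymLib.PnVA
import Groth.Agent.MiscFlat6.MixedExtend
import Groth.Agent.CubeConsLib.IsoCls

/-!
# Very ample modules and composition
-/

set_option autoImplicit false
universe u

open CategoryTheory CategoryTheory.Limits AlgebraicGeometry TopologicalSpace Opposite
open KFlatLib (pb puSec)
open AmpleThLib
open AmpleLib (res GenOn GenAt shT)
open TwistLib (genSet)

noncomputable section

namespace EGA2SymLib

variable {X Y Z : Scheme.{u}}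

theorem secAt_of_locus {M : X.Modules} {Ω : X.Opens} (e : Γ(M, Ω)) (W : X.Opens) (hW : W ≤ Ω)
    (hWe : ∀ (z : X) (hz : z ∈ Ω), z ∈ W ↔ GenAt M e hz) (A : Scheme.{u}) [IsAffine A]
    (f : (W : Scheme.{u}) ⟶ A) [IsImmersion f]
    (hfa : ∀ a : Γ(A, ⊤), W.topIso.hom (f.appTop a) ∈
      Subring.closure {a : Γ(X, W) | ∃ m : Γ(M, Ω), res M hW m = a • res M hW e})
    {z : X} (hz : z ∈ W) : SecAt M Ω z := by
  refine ⟨e, hW hz, (hWe z (hW hz)).mp hz, fun W' hW' hWe' => ?_⟩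
  obtain rfl : W' = W := SetLike.ext fun y =>
    ⟨fun hy => (hWe y (hW' hy)).mpr ((hWe' y (hW' hy)).mp hy),
      fun hy => (hWe' y (hW hy)).mpr ((hWe y (hW hy)).mp hy)⟩
  exact ⟨A, inferInstance, f, inferInstance, hfa⟩

theorem secAt_of_iso {M M' : X.Modules} (φ : M ≅ M') {Ω : X.Opens} {x : X} (h : SecAt M Ω x) :
    SecAt M' Ω x := by
  obtain ⟨e, hx, he, hrest⟩ := h
  refine ⟨φ.hom.app Ω e, hx, (TwistLib.genAt_app_iso φ e hx).mpr he, fun W hW hWe => ?_⟩
  obtain ⟨A, hA, f, hf, hfa⟩ := hrest W hW fun z hz => (hWe z hz).trans (TwistLib.genAt_app_iso φ e hz)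
  refine ⟨A, hA, f, hf, fun a => Subring.closure_mono ?_ (hfa a)⟩
  rintro c ⟨m, hm⟩
  refine ⟨φ.hom.app Ω m, ?_⟩
  have h1 : ∀ t : Γ(M, Ω), res M' hW (φ.hom.app Ω t) = φ.hom.app W (res M hW t) := fun t =>
    (QCohLib.app_map φ.hom (homOfLE hW) t).symm
  rw [h1, h1, hm, QCohLib.app_smul]

/-- an affine locus of a power whose functions come from sections of degree one -/
theorem exists_affine_chart [CompactSpace Y] [QuasiSeparatedSpace Y] {K : Y.Modules} (hK : PicF.IsInvertible K)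
    {y : Y} (h : SecAt K ⊤ y) :
    ∃ (eK : Γ(K, ⊤)) (d : ℕ) (u : Γ(CohB1.tensorPow K d, ⊤)) (U : Y.Opens) (hU : U ≤ genSet hK eK),
      U = genSet (shT_isInvertible (tensorPow_isInvertible hK d) hK) (shT u eK) ∧ y ∈ U ∧ IsAffineOpen U ∧
      Subring.closure ({c : Γ(Y, U) | ∃ m : Γ(K, ⊤), c • res K (le_top : U ≤ ⊤) eK = res K le_top m} ∪
        {c : Γ(Y, U) | c • res (CohB1.tensorMod (CohB1.tensorPow K d) K) (le_top : U ≤ ⊤) (shT u eK) =
          res _ le_top (shT (pS eK d) eK)}) = ⊤ := by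
  classical
  obtain ⟨eK, hy, hey, hrest⟩ := h
  let W : Y.Opens := genSet hK eK
  obtain ⟨A, hA, h, hh, hha⟩ := hrest W le_top fun z hz => Iff.rfl
  haveI := hA
  haveI := hh
  let yW : (W : Scheme.{u}) := ⟨y, hey⟩
  obtain ⟨a, hale, hza⟩ := (isAffineOpen_top A).exists_basicOpen_le (V := h.coborderRange)
    ⟨h yW, subset_coborder ⟨yW, rfl⟩⟩ trivial
  let D := A.basicOpen a
  let V : W.toScheme.Opens := W.toScheme.basicOpen (h.appTop a)
  have hpre : h ⁻¹ᵁ D = V := Scheme.preimage_basicOpen_top h a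
  haveI : IsAffine (D : Scheme.{u}) := (isAffineOpen_top A).basicOpen a
  haveI : IsClosedImmersion (h ∣_ D) := by
    refine IsClosedImmersion.of_isPreimmersion _ ?_
    have hc := isClosed_preimage_val_coborder (s := Set.range h.base)
    have hr : Set.range (h ∣_ D).base = Subtype.val ⁻¹' Set.range h.base := by
      ext z
      constructor
      · rintro ⟨w, rfl⟩
        exact ⟨w.1, (morphismRestrict_base_coe h D w).symm⟩
      · rintro ⟨w, hw⟩
        exact ⟨⟨w, show h w ∈ D from (congrArg (· ∈ D) hw).mpr z.2⟩,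
          Subtype.ext ((morphismRestrict_base_coe h D _).trans hw)⟩
    rw [hr]
    exact hc.preimage (continuous_inclusion (show (D : Set A) ⊆ coborder (Set.range h.base) from hale))
  haveI : IsAffine (h ⁻¹ᵁ D : W.toScheme.Opens).toScheme := isAffine_of_isAffineHom (h ∣_ D)
  have hsur : Function.Surjective (h.app D) := by
    have h2 : Function.Surjective (h ∣_ D).appTop :=
      (IsClosedImmersion.isAffine_surjective_of_isAffine (h ∣_ D)).2
    intro c
    obtain ⟨d, hd⟩ := h2 ((h ⁻¹ᵁ D).topIso.inv c)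
    refine ⟨D.topIso.hom d, (ConcreteCategory.bijective_of_isIso (h ⁻¹ᵁ D).topIso.inv).1 ?_⟩
    refine Eq.trans ?_ hd
    rw [Scheme.Hom.appTop, ← Scheme.Hom.resLE_eq_morphismRestrict, Scheme.Hom.resLE_app_top,
      CommRingCat.comp_apply, CommRingCat.comp_apply, Scheme.Hom.appLE_eq_app]
  haveI := (isAffineOpen_top A).isLocalization_basicOpen a
  let α : Γ(Y, W) := W.topIso.hom (h.appTop a)
  have hVα : W.ι ''ᵁ V = Y.basicOpen α := by
    rw [← Scheme.Opens.ι_image_basicOpen_topIso_inv]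
    exact congrArg (fun b => W.ι ''ᵁ W.toScheme.basicOpen b)
      (CategoryTheory.Iso.hom_inv_id_apply W.topIso (h.appTop a)).symm
  have hVaff : IsAffineOpen V := by
    rw [← hpre]
    exact inferInstanceAs (IsAffine (h ⁻¹ᵁ D : W.toScheme.Opens).toScheme)
  -- extend `α` times a power of `eK`
  let g : Γ(K, W) := res K le_top eK
  have hg : GenOn K g := TwistLib.genSet_genOn hK eK
  obtain ⟨N, hN⟩ := MiscFlat6.exists_extend_mixed (tensorPow_isInvertible hK 0) hK eK (α • pS g 0)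
  obtain ⟨u₀, hu₀⟩ := hN N le_rfl
  obtain ⟨μ, hμ⟩ := exists_mulIso hK 0 N
  let d := 0 + N
  let u : Γ(CohB1.tensorPow K d, ⊤) := μ.hom.app ⊤ u₀
  have hu : res (CohB1.tensorPow K d) (le_top : W ≤ ⊤) u = α • pS g d := by
    refine (QCohLib.app_map μ.hom (homOfLE le_top) u₀).symm.trans ?_
    have h1 : res _ (le_top : W ≤ ⊤) u₀ = α • shT (pS g 0) (pS g N) := by
      rw [hu₀, pS_res]
      have h2 := AmpleLib.shT_smul α 1 (pS g 0) (pS g N)
      rwa [one_smul, mul_one] at h2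
    refine (congrArg (μ.hom.app W).hom h1).trans ?_
    refine (QCohLib.app_smul μ.hom W α _).trans ?_
    exact congrArg (α • ·) (hμ ⟨W, g, hg⟩)
  have hT := shT_isInvertible (tensorPow_isInvertible hK d) hK
  have ht : res (CohB1.tensorMod (CohB1.tensorPow K d) K) (le_top : W ≤ ⊤) (shT u eK) = α • shT (pS g d) g := by
    rw [AmpleLib.shT_res, hu]
    have h2 := AmpleLib.shT_smul α 1 (pS g d) g
    rwa [one_smul, mul_one] at h2
  have hgen : GenOn (CohB1.tensorMod (CohB1.tensorPow K d) K) (shT (pS g d) g) := shT_genOn (pS_genOn hg d) hg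
  have hloc : genSet hT (shT u eK) = Y.basicOpen α := by
    refine SetLike.ext fun z => ⟨fun hz => ?_, fun hz => ?_⟩
    · have hzW : z ∈ W := ((genSet_shT (tensorPow_isInvertible hK d) hK u eK).le hz).2
      have h1 := (AmpleLib.genAt_res (le_top : W ≤ ⊤) (shT u eK) (x := z) hzW).mpr hz
      rwa [ht, AmpleLib.genAt_smul_iff _ _ hzW (hgen.genAt hzW)] at h1
    · have hzW : z ∈ W := Y.basicOpen_le α hz
      refine (AmpleLib.genAt_res (le_top : W ≤ ⊤) (shT u eK) (x := z) hzW).mp ?_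
      rw [ht, AmpleLib.genAt_smul_iff _ _ hzW (hgen.genAt hzW)]
      exact hz
  have hUW : W.ι ''ᵁ V ≤ W := hVα.le.trans (Y.basicOpen_le α)
  refine ⟨eK, d, u, W.ι ''ᵁ V, hUW, hVα.trans hloc.symm, ⟨yW, hpre.le hza, rfl⟩,
    hVaff.image_of_isOpenImmersion W.ι, ?_⟩
  let ρ : Γ(Y, W) ⟶ Γ(Y, W.ι ''ᵁ V) := Y.presheaf.map (homOfLE hUW).op
  have hαu : IsUnit (ρ α) := by
    have key : ∀ (O : Y.Opens) (hO : O = Y.basicOpen α) (hle : O ≤ W),
        IsUnit (Y.presheaf.map (homOfLE hle).op α) := by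
      rintro _ rfl hle
      exact RingedSpace.isUnit_res_basicOpen _ α
    exact key _ hVα hUW
  refine eq_top_iff.mpr fun c _ => ?_
  let G := {c : Γ(Y, W.ι ''ᵁ V) | ∃ m : Γ(K, ⊤), c • res K (le_top : W.ι ''ᵁ V ≤ ⊤) eK = res K le_top m} ∪
    {c : Γ(Y, W.ι ''ᵁ V) | c • res (CohB1.tensorMod (CohB1.tensorPow K d) K) (le_top : W.ι ''ᵁ V ≤ ⊤) (shT u eK) =
      res _ le_top (shT (pS eK d) eK)}
  have himg : ∀ b : Γ(A, ⊤), ρ (W.topIso.hom (h.appTop b)) ∈ Subring.closure G := by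
    intro b
    refine (Subring.closure_le (t := (Subring.closure G).comap ρ.hom)).mpr ?_ (hha b)
    rintro t ⟨m, hm⟩
    refine Subring.subset_closure (Or.inl ⟨m, ?_⟩)
    have h1 := congrArg (res K hUW) hm
    rw [AmpleLib.res_res, AmpleLib.res_smul, AmpleLib.res_res] at h1
    exact h1.symm
  have hinv : (↑hαu.unit⁻¹ : Γ(Y, W.ι ''ᵁ V)) ∈ Subring.closure G := by
    refine Subring.subset_closure (Or.inr ?_)
    show _ • _ = _
    rw [← AmpleLib.res_res _ (le_top : W ≤ ⊤) hUW (shT u eK),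
      ← AmpleLib.res_res _ (le_top : W ≤ ⊤) hUW (shT (pS eK d) eK), ht, AmpleLib.res_smul, smul_smul]
    refine ((congrArg (· • _) hαu.val_inv_mul).trans (one_smul _ _)).trans ?_
    rw [AmpleLib.shT_res (le_top : W ≤ ⊤), pS_res]
  have key : ∀ (O : W.toScheme.Opens) (hO : O = h ⁻¹ᵁ D) (c : Γ(W.toScheme, O)) (hle : O ≤ ⊤),
      ∃ b : Γ(A, ⊤), ∃ k : ℕ, c * W.toScheme.presheaf.map (homOfLE hle).op (h.appTop a) ^ k =
        W.toScheme.presheaf.map (homOfLE hle).op (h.appTop b) := by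
    rintro _ rfl c hle
    obtain ⟨d', rfl⟩ := hsur c
    obtain ⟨⟨b, ⟨_, k, rfl⟩⟩, hd⟩ := IsLocalization.surj (Submonoid.powers a) d'
    refine ⟨b, k, ?_⟩
    have hnat : ∀ r : Γ(A, ⊤), W.toScheme.presheaf.map (homOfLE hle).op (h.appTop r) =
        h.app D (A.presheaf.map (homOfLE (A.basicOpen_le a)).op r) := fun r =>
      (congr($(h.naturality (homOfLE (A.basicOpen_le a)).op) r)).symm
    rw [hnat, hnat, ← map_pow, ← map_mul]
    refine congrArg (h.app D) ?_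
    rw [← map_pow]
    exact hd
  obtain ⟨b, k, hbk⟩ := key V hpre.symm c le_top
  have hρ : ∀ r : Γ(W.toScheme, ⊤), W.toScheme.presheaf.map (homOfLE (le_top : V ≤ ⊤)).op r = ρ (W.topIso.hom r) := by
    intro r
    exact (QCohLib.map_map' (Coh.structureModule Y) (homOfLE hUW) (eqToHom W.ι_image_top.symm) r).symm
  rw [hρ, hρ] at hbk
  have hbk' : @HMul.hMul Γ(Y, W.ι ''ᵁ V) Γ(Y, W.ι ''ᵁ V) Γ(Y, W.ι ''ᵁ V) _ c
      (ρ (W.topIso.hom (h.appTop a)) ^ k) = ρ (W.topIso.hom (h.appTop b)) := hbk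
  have h1 : ρ (W.topIso.hom (h.appTop a)) * ↑hαu.unit⁻¹ = 1 := hαu.mul_val_inv
  have e : @Eq Γ(Y, W.ι ''ᵁ V) c (ρ (W.topIso.hom (h.appTop b)) * (↑hαu.unit⁻¹ : Γ(Y, W.ι ''ᵁ V)) ^ k) := by
    rw [← hbk', mul_assoc, ← mul_pow, h1, one_pow, mul_one]
  rw [e]
  exact mul_mem (himg b) (pow_mem hinv k)

/-- at a point, high twists by the base have sections embedding a neighbourhood -/
theorem exists_secAt_twist [CompactSpace Y] [QuasiSeparatedSpace Y] (f : X ⟶ Y) [QuasiCompact f]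
    [QuasiSeparated f] [LocallyOfFiniteType f] {L : X.Modules} (hL : PicF.IsInvertible L)
    (hLva : RelProj.IsRelVeryAmple f L) {K : Y.Modules} (hK : PicF.IsInvertible K)
    (hKs : ∀ y : Y, SecAt K ⊤ y) (x : X) :
    ∃ (O : X.Opens) (m : ℕ), x ∈ O ∧ ∀ n, m ≤ n → ∀ z ∈ O,
      SecAt (CohB1.tensorMod L (pb f (CohB1.tensorPow K n))) ⊤ z := by
  classical
  haveI : CompactSpace X := QuasiCompact.compactSpace_of_compactSpace f
  haveI : QuasiSeparatedSpace X := quasiSeparatedSpace_of_quasiSeparated f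
  obtain ⟨eK, d, u, U, hUe, hUt, hxU, hUaff, hUgen⟩ := exists_affine_chart hK (hKs (f x))
  obtain ⟨e, hx, ms, hex, hrest⟩ := exists_finite_secAt f hL hUaff (secAt_of_isRelVeryAmple hLva hUaff hxU)
  obtain ⟨W, hW, hWe⟩ := exists_genLocus hL e
  obtain ⟨A, hA, h, hh, hha⟩ := hrest W hW hWe
  haveI := hA
  haveI := hh
  let Kd := CohB1.tensorMod (CohB1.tensorPow K d) K
  have hKd : PicF.IsInvertible Kd := shT_isInvertible (tensorPow_isInvertible hK d) hK
  let T := pb f Kd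
  have hT : PicF.IsInvertible T := AmpleDevLib.isInvertible_pb f hKd
  let t : Γ(T, ⊤) := puSec f (shT u eK : Γ(Kd, ⊤))
  have ht : genSet hT t = f ⁻¹ᵁ U := by
    rw [hUt]; exact AmpleDevLib.genSet_puSec f hKd _
  have hsT : genSet hT t ≤ f ⁻¹ᵁ U := ht.le
  choose N hN using fun s : Γ(L, f ⁻¹ᵁ U) => MiscFlat6.exists_extend_mixed hL hT t (res L hsT s)
  let N₀ := N e + ms.sum N
  have hext : ∀ s, s = e ∨ s ∈ ms → ∃ s₁ : Γ(CohB1.tensorMod L (CohB1.tensorPow T N₀), ⊤),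
      res _ le_top s₁ = shT (res L hsT s) (res _ le_top (pS t N₀)) := fun s hs => by
    refine hN s N₀ ?_
    rcases hs with rfl | hs
    · exact Nat.le_add_right _ _
    · exact (Finset.single_le_sum (f := N) (fun i _ => Nat.zero_le _) hs).trans (Nat.le_add_left _ _)
  choose! ext hexts using hext
  let L1 := CohB1.tensorMod L (CohB1.tensorPow T N₀)
  have hL1 : PicF.IsInvertible L1 := shT_isInvertible hL (tensorPow_isInvertible hT N₀)
  let K' := pb f K
  have hK' : PicF.IsInvertible K' := AmpleDevLib.isInvertible_pb f hK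
  let k : Γ(K', ⊤) := puSec f eK
  refine ⟨W, (d + 1) * N₀ + (d + 1) + 1, (hWe x hx).mpr hex, fun n hn z hz => ?_⟩
  obtain ⟨j, rfl⟩ : ∃ j, n = (d + 1) * N₀ + (d + 1) + 1 + j := ⟨n - ((d + 1) * N₀ + (d + 1) + 1), by omega⟩
  let P := pb f (CohB1.tensorPow K j)
  have hP : PicF.IsInvertible P := AmpleDevLib.isInvertible_pb f (tensorPow_isInvertible hK j)
  let p : Γ(P, ⊤) := puSec f (pS eK j : Γ(CohB1.tensorPow K j, ⊤))
  let M := CohB1.tensorMod (CohB1.tensorMod L1 (CohB1.tensorMod T K')) P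
  have hTK := shT_isInvertible hT hK'
  have hM0 := shT_isInvertible hL1 hTK
  let σ : Γ(L1, ⊤) → Γ(T, ⊤) → Γ(K', ⊤) → Γ(M, ⊤) := fun a b c => shT (shT a (shT b c)) p
  let e₂ : Γ(M, ⊤) := σ (ext e) t k
  have hWT : W ≤ genSet hT t := hW.trans ht.ge
  have hWk : ∀ w ∈ W, f w ∈ genSet hK eK := fun w hw => hUe (hW hw)
  have hres : ∀ a b c, res M (le_top : W ≤ ⊤) (σ a b c) =
      shT (shT (res L1 le_top a) (shT (res T le_top b) (res K' le_top c))) (res P le_top p) := fun a b c => by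
    simp only [σ, M, AmpleLib.shT_res]
  have hextW : ∀ s, s = e ∨ s ∈ ms →
      res L1 (le_top : W ≤ ⊤) (ext s) = shT (res L hW s) (res (CohB1.tensorPow T N₀) le_top (pS t N₀)) := by
    intro s hs
    rw [← AmpleLib.res_res L1 (le_top : genSet hT t ≤ ⊤) hWT (ext s), hexts s hs, AmpleLib.shT_res,
      AmpleLib.res_res, AmpleLib.res_res]
  have hiff : ∀ (w : X) (hw : w ∈ (⊤ : X.Opens)), w ∈ W ↔ GenAt M e₂ hw := by
    intro w hw
    refine ⟨fun hwW => ?_, fun hgw => ?_⟩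
    · refine (AmpleLib.genAt_res (le_top : W ≤ ⊤) e₂ (x := w) hwW).mp ?_
      rw [hres, hextW e (Or.inl rfl)]
      have hgt : GenOn T (res T (le_top : W ≤ ⊤) t) := by
        rw [← AmpleLib.res_res T (le_top : genSet hT t ≤ ⊤) hWT t]; exact (TwistLib.genSet_genOn hT t).res hWT
      refine GenAt.tensor (GenAt.tensor (GenAt.tensor ?_ ?_) (GenAt.tensor (hgt.genAt hwW) ?_)) ?_
      · exact (AmpleLib.genAt_res hW e (x := w) hwW).mpr ((hWe w (hW hwW)).mp hwW)
      · rw [pS_res]; exact pS_genAt (hgt.genAt hwW) N₀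
      · exact (AmpleLib.genAt_res (le_top : W ≤ ⊤) k (x := w) hwW).mpr
          (TwistLib.GenAt.puSec f (show GenAt K eK (show f w ∈ (⊤ : Y.Opens) from trivial) from hWk w hwW))
      · exact (AmpleLib.genAt_res (le_top : W ≤ ⊤) p (x := w) hwW).mpr
          (TwistLib.GenAt.puSec f (pS_genAt (show GenAt K eK (show f w ∈ (⊤ : Y.Opens) from trivial) from hWk w hwW) j))
    · have h1 : w ∈ genSet (shT_isInvertible hM0 hP) e₂ := hgw
      have h2 := ((genSet_shT hM0 hP (shT (ext e) (shT t k)) p).le h1).1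
      have h3 := (genSet_shT hL1 hTK (ext e) (shT t k)).le h2
      have hwt : w ∈ genSet hT t := ((genSet_shT hT hK' t k).le h3.2).1
      have h4 := (AmpleLib.genAt_res (le_top : genSet hT t ≤ ⊤) (ext e) (x := w) hwt).mpr h3.1
      rw [hexts e (Or.inl rfl)] at h4
      exact (hWe w (hsT hwt)).mpr ((AmpleLib.genAt_res hsT e (x := w) hwt).mp
        (genAt_left_of_tensor hL (tensorPow_isInvertible hT N₀) hwt h4))
  have hsec : SecAt M ⊤ z := by
    refine secAt_of_locus e₂ W le_top hiff A h (fun a => ?_) hz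
    let G := {c : Γ(X, W) | ∃ m : Γ(M, ⊤), res M (le_top : W ≤ ⊤) m = c • res M le_top e₂}
    refine (Subring.closure_le.mpr ?_) (hha a)
    have hscal : ∀ (c : Γ(X, W)) (A₁ : Γ(L, W)) (A₂ : Γ(CohB1.tensorPow T N₀, W)) (B : Γ(T, W)) (C : Γ(K', W))
        (P₁ : Γ(P, W)), c • shT (shT (shT A₁ A₂) (shT B C)) P₁ = shT (shT (shT (c • A₁) A₂) (shT B C)) P₁ := by
      intro c A₁ A₂ B C P₁
      have h1 := AmpleLib.shT_smul c 1 A₁ A₂
      rw [one_smul, mul_one] at h1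
      have h2 := AmpleLib.shT_smul c 1 (shT A₁ A₂) (shT B C)
      rw [one_smul, mul_one] at h2
      have h3 := AmpleLib.shT_smul c 1 (shT (shT A₁ A₂) (shT B C)) P₁
      rw [one_smul, mul_one] at h3
      rw [h1, h2, h3]
    have hscalT : ∀ (c : Γ(X, W)) (A' : Γ(L1, W)) (B : Γ(T, W)) (C : Γ(K', W))
        (P₁ : Γ(P, W)), c • shT (shT A' (shT B C)) P₁ = shT (shT A' (shT (c • B) C)) P₁ := by
      intro c A' B C P₁
      have h1 := AmpleLib.shT_smul c 1 B C
      rw [one_smul, mul_one] at h1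
      have h2 := AmpleLib.shT_smul 1 c A' (shT B C)
      rw [one_smul, one_mul] at h2
      have h3 := AmpleLib.shT_smul c 1 (shT A' (shT B C)) P₁
      rw [one_smul, mul_one] at h3
      rw [h1, h2, h3]
    have hscalK : ∀ (c : Γ(X, W)) (A' : Γ(L1, W)) (B : Γ(T, W)) (C : Γ(K', W))
        (P₁ : Γ(P, W)), c • shT (shT A' (shT B C)) P₁ = shT (shT A' (shT B (c • C))) P₁ := by
      intro c A' B C P₁
      have h1 := AmpleLib.shT_smul 1 c B C
      rw [one_smul, one_mul] at h1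
      have h2 := AmpleLib.shT_smul 1 c A' (shT B C)
      rw [one_smul, one_mul] at h2
      have h3 := AmpleLib.shT_smul c 1 (shT A' (shT B C)) P₁
      rw [one_smul, mul_one] at h3
      rw [h1, h2, h3]
    have hpu : ∀ {N' : Y.Modules} (γ : Γ(Y, U)) (s₁ s₂ : Γ(N', ⊤)),
        γ • res N' (le_top : U ≤ ⊤) s₁ = res N' le_top s₂ →
        f.appLE U W hW γ • res (pb f N') (le_top : W ≤ ⊤) (puSec f s₁) =
          res (pb f N') (le_top : W ≤ ⊤) (puSec f s₂) := by
      intro N' γ s₁ s₂ hγ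
      have h1 := congrArg (fun r => res (pb f N') hW (puSec f r)) hγ
      simp only [TwistLib.puSec_smul, AmpleLib.res_smul, TwistLib.puSec_res, AmpleLib.res_res] at h1
      exact h1
    rintro c (⟨γ, rfl⟩ | ⟨m, hm, hmc⟩)
    · refine (Subring.closure_le (t := (Subring.closure G).comap (f.appLE U W hW).hom)).mpr ?_
        (hUgen.ge (Subring.mem_top γ))
      rintro γ (⟨m, hm⟩ | hm)
      · refine Subring.subset_closure ⟨σ (ext e) t (puSec f m), ?_⟩
        show res M le_top (σ (ext e) t (puSec f m)) = f.appLE U W hW γ • res M le_top (σ (ext e) t k)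
        rw [hres, hres, hscalK, hpu γ eK m hm]
      · refine Subring.subset_closure ⟨σ (ext e) (puSec f (shT (pS eK d) eK : Γ(Kd, ⊤))) k, ?_⟩
        show res M le_top (σ (ext e) (puSec f (shT (pS eK d) eK : Γ(Kd, ⊤))) k) =
          f.appLE U W hW γ • res M le_top (σ (ext e) t k)
        rw [hres, hres, hscalT, hpu (N' := Kd) γ (shT u eK) (shT (pS eK d) eK) hm]
    · refine Subring.subset_closure ⟨σ (ext m) t k, ?_⟩
      show res M le_top (σ (ext m) t k) = c • res M le_top (σ (ext e) t k)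
      rw [hres, hres, hextW m (Or.inr hm), hextW e (Or.inl rfl), hscal, hmc]
  obtain ⟨Φ⟩ : Nonempty (M ≅ CohB1.tensorMod L (pb f (CohB1.tensorPow K ((d + 1) * N₀ + (d + 1) + 1 + j)))) := by
    refine CubeConsLib.cl_eq_iff.1 ?_
    have hpow : ∀ {S : Scheme.{u}} (K₀ : S.Modules) (i : ℕ),
        CubeConsLib.cl (CohB1.tensorPow K₀ i) = CubeConsLib.cl K₀ ^ i := by
      intro S K₀ i
      induction i with
      | zero => rw [pow_zero]; rfl
      | succ i ih => rw [pow_succ, ← ih]; rfl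
    simp only [M, L1, T, K', P, Kd, pb, CubeConsLib.cl_tensor, hpow, ← CubeConsLib.pull_cl, map_mul, map_pow,
      ← pow_succ, ← pow_mul]
    simp only [pow_add, pow_one]
    ac_rfl
  exact secAt_of_iso Φ hsec

end EGA2SymLib

end

namespace EGA2SymLib

open CategoryTheory CategoryTheory.Limits AlgebraicGeometry TopologicalSpace Opposite
open KFlatLib (pb puSec)
open AmpleThLib
open AmpleLib (res GenOn GenAt shT)

variable {X Y Z : Scheme.{u}}

theorem cl_restrict {X' : Scheme.{u}} (j : X' ⟶ X) [IsOpenImmersion j] (M : X.Modules) :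
    CubeConsLib.cl (M.restrict j) = CubeConsLib.pull j (CubeConsLib.cl M) :=
  CubeConsLib.cl_eq_iff.2 ⟨(Scheme.Modules.restrictFunctorIsoPullback j).app M⟩

theorem cl_tensorPow {S : Scheme.{u}} (K₀ : S.Modules) (i : ℕ) :
    CubeConsLib.cl (CohB1.tensorPow K₀ i) = CubeConsLib.cl K₀ ^ i := by
  induction i with
  | zero => rw [pow_zero]; rfl
  | succ i ih => rw [pow_succ, ← ih]; rfl

theorem eventually_isRelVeryAmple_comp [CompactSpace Z] (f : X ⟶ Y) [QuasiCompact f] [LocallyOfFiniteType f]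
    (g : Y ⟶ Z) [QuasiCompact g] {L : X.Modules} (hL : PicF.IsInvertible L) (hLva : RelProj.IsRelVeryAmple f L)
    {K : Y.Modules} (hK : PicF.IsInvertible K) (hKva : RelProj.IsRelVeryAmple g K) :
    ∃ n₀ : ℕ, 0 < n₀ ∧ ∀ n : ℕ, n₀ ≤ n →
      RelProj.IsRelVeryAmple (f ≫ g) (CohB1.tensorMod L (pb f (CohB1.tensorPow K n))) := by
  classical
  haveI := isSeparated_of_isRelVeryAmple hLva
  haveI := isSeparated_of_isRelVeryAmple hKva
  obtain ⟨S, hS⟩ := isCompact_univ.elim_finite_subcover (fun V : Z.affineOpens => (V.1 : Set Z))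
    (fun V => V.1.2) (fun y _ => by
      obtain ⟨V, hV, hy, -⟩ := exists_isAffineOpen_mem_and_subset (X := Z) (x := y) (U := ⊤) trivial
      exact Set.mem_iUnion.mpr ⟨⟨V, hV⟩, hy⟩)
  have hcovY : ⨆ V : Z.affineOpens, g ⁻¹ᵁ V.1 = ⊤ := by
    rw [← Scheme.Hom.preimage_iSup, QCohLib.iSup_affineOpens_val, Scheme.Hom.preimage_top]
  have hloc : ∀ V : Z.affineOpens, ∃ N : ℕ, ∀ n, N ≤ n → ∀ x : (f ⁻¹ᵁ (g ⁻¹ᵁ V.1) : X.Opens).toScheme,
      SecAt (CohB1.tensorMod (L.restrict (f ⁻¹ᵁ (g ⁻¹ᵁ V.1)).ι)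
        (pb (f ∣_ (g ⁻¹ᵁ V.1)) (CohB1.tensorPow (K.restrict (g ⁻¹ᵁ V.1).ι) n))) ⊤ x := by
    intro V
    haveI : IsAffine (V.1 : Scheme.{u}) := V.2
    let g' := g ∣_ V.1
    let f' := f ∣_ (g ⁻¹ᵁ V.1)
    have hK' := restrict_isInvertible hK (g ⁻¹ᵁ V.1).ι
    have hL' := restrict_isInvertible hL (f ⁻¹ᵁ (g ⁻¹ᵁ V.1)).ι
    have hKva' := (isRelVeryAmple_iff_of_openCover g hK (fun V : Z.affineOpens => V.1) QCohLib.iSup_affineOpens_val).mp hKva V
    have hLva' := (isRelVeryAmple_iff_of_openCover f hL (fun V : Z.affineOpens => g ⁻¹ᵁ V.1) hcovY).mp hLva V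
    haveI : CompactSpace (g ⁻¹ᵁ V.1 : Y.Opens).toScheme := QuasiCompact.compactSpace_of_compactSpace g'
    haveI : CompactSpace (f ⁻¹ᵁ (g ⁻¹ᵁ V.1) : X.Opens).toScheme := QuasiCompact.compactSpace_of_compactSpace f'
    haveI : QuasiSeparatedSpace (g ⁻¹ᵁ V.1 : Y.Opens).toScheme := quasiSeparatedSpace_of_quasiSeparated g'
    choose O m hxO hm using fun x => exists_secAt_twist f' hL' hLva' hK'
      (fun y => secAt_of_isRelVeryAmple hKva' (isAffineOpen_top _) (x := y) trivial) x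
    obtain ⟨T, hT⟩ := isCompact_univ.elim_finite_subcover (fun x => SetLike.coe (O x)) (fun x => (O x).2)
      fun x _ => Set.mem_iUnion.mpr ⟨x, hxO x⟩
    refine ⟨T.sum m, fun n hn x => ?_⟩
    obtain ⟨y, hy, hxy⟩ := Set.mem_iUnion₂.mp (hT (Set.mem_univ x))
    exact hm y n ((Finset.single_le_sum (f := m) (fun i _ => Nat.zero_le _) hy).trans hn) x hxy
  choose N hN using hloc
  refine ⟨S.sum N + 1, Nat.succ_pos _, fun n hn => ?_⟩
  have hM : PicF.IsInvertible (CohB1.tensorMod L (pb f (CohB1.tensorPow K n))) :=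
    shT_isInvertible hL (AmpleDevLib.isInvertible_pb f (tensorPow_isInvertible hK n))
  refine (isRelVeryAmple_iff_of_openCover (f ≫ g) hM (fun V : S => V.1.1) ?_).mpr fun V => ?_
  · refine eq_top_iff.mpr fun y _ => ?_
    obtain ⟨V, hV, hy⟩ := Set.mem_iUnion₂.mp (hS (Set.mem_univ y))
    exact Opens.mem_iSup.mpr ⟨⟨V, hV⟩, hy⟩
  haveI : IsAffine (V.1.1 : Scheme.{u}) := V.1.2
  let g' := g ∣_ V.1.1
  let f' := f ∣_ (g ⁻¹ᵁ V.1.1)
  let j := ((f ≫ g) ⁻¹ᵁ V.1.1).ι
  have hMj := restrict_isInvertible hM j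
  haveI : Coh.IsQCoh ((CohB1.tensorMod L (pb f (CohB1.tensorPow K n))).restrict j) :=
    (LocSuppLib.isCoh_of_isFinLocFree fun x =>
      let ⟨W, h⟩ := (CohCmpLib.invertible_iff_rank_one _).1 hMj x; ⟨W, 1, h⟩).1
  haveI : Coh.IsQCoh ((Scheme.Modules.pushforward ((f ≫ g) ∣_ V.1.1)).obj
      ((CohB1.tensorMod L (pb f (CohB1.tensorPow K n))).restrict j)) := QCohLib.isQCoh_pushforward _ _
  refine isRelVeryAmple_of_secAt hMj fun x => ⟨⊤, isAffineOpen_top _, ?_⟩
  have hnV : N V.1 ≤ n := (Finset.single_le_sum (f := N) (fun i _ => Nat.zero_le _) V.2).trans (le_trans (Nat.le_succ _) hn)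
  obtain ⟨Φ⟩ : Nonempty (CohB1.tensorMod (L.restrict (f ⁻¹ᵁ (g ⁻¹ᵁ V.1.1)).ι)
      (pb f' (CohB1.tensorPow (K.restrict (g ⁻¹ᵁ V.1.1).ι) n)) ≅
      (CohB1.tensorMod L (pb f (CohB1.tensorPow K n))).restrict (f ⁻¹ᵁ (g ⁻¹ᵁ V.1.1)).ι) := by
    refine CubeConsLib.cl_eq_iff.1 ?_
    simp only [pb, CubeConsLib.cl_tensor, cl_restrict, ← CubeConsLib.pull_cl, cl_tensorPow, map_mul, map_pow,
      CubeConsLib.pull_comp]
    rw [morphismRestrict_ι]
  exact secAt_of_iso Φ (hN V.1 n hnV x)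

end EGA2SymLib
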