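import Groth.Agent.EGA2SymLib.Crit

/-!
# Charts of `Proj(u)` over affine opens of an arbitrary base
-/

set_option autoImplicit false
universe u

open CategoryTheory CategoryTheory.Limits AlgebraicGeometry TopologicalSpace Opposite HomogeneousLocalization
open ConeRetrLib (Idx)
open scoped HomogeneousIdeal

noncomputable section

namespace EGA2SymLib

variable {X Y PL P : Scheme.{u}} {𝒮' : RelProj.QCGrAlg X}
  {q : X ⟶ Y} {𝒮 : RelProj.QCGrAlg Y} {u : RelProj.QGrHom q 𝒮 𝒮'}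
  {pL : PL ⟶ X}
  {chartL : ∀ (U : X.Opens) (hU : IsAffineOpen U), (((pL ⁻¹ᵁ U : PL.Opens) : Scheme.{u}) ≅ Proj (𝒮'.deg U hU))}
  {p : P ⟶ Y}
  {chart : ∀ (U : Y.Opens) (hU : IsAffineOpen U), (((p ⁻¹ᵁ U : P.Opens) : Scheme.{u}) ≅ Proj (𝒮.deg U hU))}
  {r : ((RelProj.domQ u pL chartL : PL.Opens) : Scheme.{u}) ⟶ P}
  (hP : RelProj.IsRelProj 𝒮 p chart) (hPL : RelProj.IsRelProj 𝒮' pL chartL)
  (hr : RelProj.IsProjQMapOn u p chart pL chartL (RelProj.domQ u pL chartL) r)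

/-- a standard open of the target over an affine open of the base -/
abbrev gOpen (p : P ⟶ Y) (chart : ∀ (U : Y.Opens) (hU : IsAffineOpen U),
    (((p ⁻¹ᵁ U : P.Opens) : Scheme.{u}) ≅ Proj (𝒮.deg U hU)))
    (U : Y.Opens) (hU : IsAffineOpen U) (g : 𝒮.presheaf.obj (op U)) : P.Opens :=
  RelProj.emb p chart U hU ''ᵁ Proj.basicOpen (𝒮.deg U hU) g

/-- its chart -/
abbrev gEmb (p : P ⟶ Y) (chart : ∀ (U : Y.Opens) (hU : IsAffineOpen U),
    (((p ⁻¹ᵁ U : P.Opens) : Scheme.{u}) ≅ Proj (𝒮.deg U hU)))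
    {U : Y.Opens} (hU : IsAffineOpen U) {d : ℕ} (hd : 0 < d) {g : 𝒮.presheaf.obj (op U)}
    (hg : g ∈ 𝒮.deg U hU d) : Spec (CommRingCat.of (Away (𝒮.deg U hU) g)) ⟶ P :=
  Proj.awayι (𝒮.deg U hU) g hg hd ≫ RelProj.emb p chart U hU

variable {U : Y.Opens} (hU : IsAffineOpen U) {d : ℕ} (hd : 0 < d) {g : 𝒮.presheaf.obj (op U)}
  (hg : g ∈ 𝒮.deg U hU d)

theorem gEmb_opensRange : (gEmb p chart hU hd hg).opensRange = gOpen p chart U hU g := by
  rw [Scheme.Hom.opensRange_comp, Proj.opensRange_awayι]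

theorem isAffineOpen_gOpen (hd : 0 < d) (hg : g ∈ 𝒮.deg U hU d) : IsAffineOpen (gOpen p chart U hU g) := by
  rw [← gEmb_opensRange hU hd hg]
  exact isAffineOpen_opensRange _

include hP hPL hr hd hg in
theorem mem_preimage_iff (y : PL) :
    y ∈ (RelProj.domQ u pL chartL).ι ''ᵁ (r ⁻¹ᵁ gOpen p chart U hU g) ↔
      ∃ (V : X.Opens) (hV : IsAffineOpen V) (hle : V ≤ q ⁻¹ᵁ U) (z : Proj (𝒮'.deg V hV)),
        RelProj.emb pL chartL V hV z = y ∧ z ∈ Proj.basicOpen (𝒮'.deg V hV) (u.gradedAt U hU V hV hle g) := by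
  constructor
  · rintro ⟨x, hx, rfl⟩
    have hxU : p (r x) ∈ U := by
      obtain ⟨t, -, ht⟩ := hx
      rw [← ht]
      exact RelConeLib.mem_of_emb t
    obtain ⟨V, hV, hle, -, w, rfl⟩ := exists_chart_point hr hP hPL x hU hxU (O := ⊤) trivial
    exact ⟨V, hV, hle, w.1, (congr($(RelConeLib.qEmb_ι u (chart' := chartL) ⟨U, hU, V, hV, hle⟩) w)).symm,
      (qEmb_mem_iff hr ⟨U, hU, V, hV, hle⟩ w hd hg).mp hx⟩
  · rintro ⟨V, hV, hle, z, rfl, hz⟩
    have hzd : z ∈ RelCone.domOpen (u.gradedAt U hU V hV hle) :=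
      (RelConeLib.mem_domOpen_iff _ z).mpr ⟨⟨d, g, hd, hg⟩, hz⟩
    exact ⟨_, (qEmb_mem_iff hr ⟨U, hU, V, hV, hle⟩ ⟨z, hzd⟩ hd hg).mpr hz,
      congr($(RelConeLib.qEmb_ι u (chart' := chartL) ⟨U, hU, V, hV, hle⟩) ⟨z, hzd⟩)⟩

variable {V : X.Opens} (hV : IsAffineOpen V) (hle : V ≤ q ⁻¹ᵁ U)
  (hW : (RelProj.domQ u pL chartL).ι ''ᵁ (r ⁻¹ᵁ gOpen p chart U hU g) = pL ⁻¹ᵁ V)

include hPL hr hd hg hW in
theorem exists_gsquare :
    ∃ jX : Spec (CommRingCat.of (Away (𝒮'.deg V hV) (u.gradedAt U hU V hV hle g))) ⟶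
        (RelProj.domQ u pL chartL : Scheme.{u}),
      ∃ _ : IsOpenImmersion jX, jX.opensRange = r ⁻¹ᵁ gOpen p chart U hU g ∧
        jX ≫ r = Spec.map (CommRingCat.ofHom (Away.map (u.gradedAt U hU V hV hle) g)) ≫ gEmb p chart hU hd hg := by
  let W : RelConeLib.Pair q := ⟨U, hU, V, hV, hle⟩
  let i : Idx (𝒮.deg U hU) := ⟨d, g, hd, hg⟩
  refine ⟨RelConeLib.dChart (W.hom u) i ≫ RelConeLib.qEmb u (chart' := chartL) W, inferInstance, ?_, ?_⟩
  · ext x
    constructor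
    · rintro ⟨t, rfl⟩
      have h1 : RelConeLib.dChart (W.hom u) i t ∈ (RelConeLib.dChart (W.hom u) i).opensRange := ⟨t, rfl⟩
      rw [RelConeLib.dChart_opensRange] at h1
      exact (qEmb_mem_iff hr W (RelConeLib.dChart (W.hom u) i t) hd hg).mpr h1
    · intro hx
      have h0 : (RelProj.domQ u pL chartL).ι x ∈ pL ⁻¹ᵁ V := by
        rw [← hW]
        exact ⟨x, hx, rfl⟩
      have h1 : x ∈ (RelConeLib.qEmb u (chart' := chartL) W).opensRange := by
        rw [RelConeLib.qEmb_opensRange u hPL]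
        exact h0
      obtain ⟨w, rfl⟩ := h1
      have h2 : w ∈ (RelConeLib.dChart (W.hom u) i).opensRange := by
        rw [RelConeLib.dChart_opensRange]
        exact (qEmb_mem_iff hr W w hd hg).mp hx
      obtain ⟨t, rfl⟩ := h2
      exact ⟨t, rfl⟩
  · rw [Category.assoc, (RelConeLib.isProjQMapOn_iff u r).mp hr W, RelConeLib.qTarget,
      reassoc_of% (RelConeLib.dChart_dMap (W.hom u) i), RelConeLib.dTarget, Category.assoc]

include hPL hr hd hg hW in
theorem gbase_bijective [IsIso pL] :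
    Function.Bijective ((fromZeroRingHom (𝒮'.deg V hV)
      (Submonoid.powers (u.gradedAt U hU V hV hle g))).comp (𝒮'.strZero V hV).hom) := by
  let W : RelConeLib.Pair q := ⟨U, hU, V, hV, hle⟩
  let aw := Proj.awayι (𝒮'.deg V hV) (W.hom u g) ((W.hom u).map_mem hg) hd
  let f := aw ≫ RelProj.emb pL chartL V hV
  have hsurj : ∀ v : Proj (𝒮'.deg V hV), v ∈ Proj.basicOpen _ (W.hom u g) := by
    intro v
    have h0 : RelProj.emb pL chartL V hV v ∈ pL ⁻¹ᵁ V := RelConeLib.mem_of_emb v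
    rw [← hW] at h0
    obtain ⟨x, hx, hxv⟩ := h0
    have hv : v ∈ RelProj.emb pL chartL V hV ⁻¹ᵁ RelProj.domQ u pL chartL :=
      show RelProj.emb pL chartL V hV v ∈ RelProj.domQ u pL chartL from hxv ▸ x.2
    have hv' : v ∈ RelCone.domOpen (W.hom u) := (RelConeLib.emb_preimage_domQ u hPL W).le hv
    have e : RelConeLib.qEmb u (chart' := chartL) W ⟨v, hv'⟩ = x := by
      refine (RelProj.domQ u pL chartL).ι.isOpenEmbedding.injective ?_
      refine Eq.trans ?_ hxv.symm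
      exact congr($(RelConeLib.qEmb_ι u (chart' := chartL) W) ⟨v, hv'⟩)
    exact (qEmb_mem_iff hr W ⟨v, hv'⟩ hd hg).mp (e ▸ hx)
  have hf : f.opensRange = pL ⁻¹ᵁ V := by
    rw [Scheme.Hom.opensRange_comp, Proj.opensRange_awayι,
      show Proj.basicOpen _ (W.hom u g) = ⊤ from top_le_iff.mp fun v _ => hsurj v,
      Scheme.Hom.image_top_eq_opensRange, RelConeLib.emb_opensRange]
  let b := CommRingCat.ofHom ((fromZeroRingHom (𝒮'.deg V hV)
    (Submonoid.powers (W.hom u g))).comp (𝒮'.strZero V hV).hom)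
  have hb : Spec.map b ≫ hV.fromSpec = f ≫ pL := by
    rw [Category.assoc, RelConeLib.emb_over hPL, Proj.awayι_toSpecZero_assoc, ← Spec.map_comp_assoc]
    rfl
  haveI : IsOpenImmersion (Spec.map b) := by
    haveI : IsOpenImmersion (Spec.map b ≫ hV.fromSpec) := hb ▸ inferInstance
    exact IsOpenImmersion.of_comp _ hV.fromSpec
  haveI : IsIso (Spec.map b) := by
    haveI : Epi (Spec.map b).base := by
      rw [TopCat.epi_iff_surjective]
      intro z
      have hz : inv pL (hV.fromSpec z) ∈ pL ⁻¹ᵁ V := by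
        show pL (inv pL (hV.fromSpec z)) ∈ V
        rw [← Scheme.Hom.comp_apply, IsIso.inv_hom_id]
        exact hV.range_fromSpec.le ⟨z, rfl⟩
      rw [← hf] at hz
      obtain ⟨t, ht⟩ := hz
      refine ⟨t, hV.fromSpec.isOpenEmbedding.injective ?_⟩
      rw [← Scheme.Hom.comp_apply, hb, Scheme.Hom.comp_apply, ht, ← Scheme.Hom.comp_apply, IsIso.inv_hom_id]
      rfl
    exact IsOpenImmersion.isIso _
  exact (isIso_SpecMap_iff (f := b)).mp inferInstance

theorem gmap_eq_base_iff (m : ℕ) (a : 𝒮.presheaf.obj (op U)) (ha : a ∈ 𝒮.deg U hU (m • d)) (t : Γ(X, V)) :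
    Away.map (u.gradedAt U hU V hV hle) g (Away.mk (𝒮.deg U hU) hg m a ha) =
      fromZeroRingHom (𝒮'.deg V hV) (Submonoid.powers (u.gradedAt U hU V hV hle g))
        ((𝒮'.strZero V hV).hom t) ↔
    ∃ l : ℕ, (u.gradedAt U hU V hV hle g) ^ l * u.gradedAt U hU V hV hle a =
      (u.gradedAt U hU V hV hle g) ^ l *
        ((u.gradedAt U hU V hV hle g) ^ m * (𝒮'.str.app (op V)).hom t) := by
  rw [Away.map_mk _ g hg m a ha, ← (val_injective _).eq_iff, Away.val_mk]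
  have e : HomogeneousLocalization.val (fromZeroRingHom (𝒮'.deg V hV)
      (Submonoid.powers (u.gradedAt U hU V hV hle g)) ((𝒮'.strZero V hV).hom t)) =
      Localization.mk ((𝒮'.str.app (op V)).hom t) 1 := by
    show HomogeneousLocalization.val (HomogeneousLocalization.mk
      ⟨0, (𝒮'.strZero V hV).hom t, (1 : 𝒮'.deg V hV 0), one_mem _⟩) = _
    rw [HomogeneousLocalization.val_mk]
    rfl
  rw [e, Localization.mk_eq_mk_iff, Localization.r_iff_exists]
  constructor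
  · rintro ⟨⟨_, l, rfl⟩, h⟩
    exact ⟨l, by simp only [OneMemClass.coe_one, one_mul] at h; exact h⟩
  · rintro ⟨l, h⟩
    exact ⟨⟨_, l, rfl⟩, by simp only [OneMemClass.coe_one, one_mul]; exact h⟩

/-- `t` is a degree zero fraction in the image of the chart ring -/
abbrev Frac (u : RelProj.QGrHom q 𝒮 𝒮') {U : Y.Opens} (hU : IsAffineOpen U) (g : 𝒮.presheaf.obj (op U)) (d : ℕ)
    {V : X.Opens} (hV : IsAffineOpen V) (hle : V ≤ q ⁻¹ᵁ U) (t : Γ(X, V)) : Prop :=
  ∃ (l m : ℕ) (a : 𝒮.presheaf.obj (op U)), a ∈ 𝒮.deg U hU (m • d) ∧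
    (u.gradedAt U hU V hV hle g) ^ l * u.gradedAt U hU V hV hle a =
      (u.gradedAt U hU V hV hle g) ^ l *
        ((u.gradedAt U hU V hV hle g) ^ m * (𝒮'.str.app (op V)).hom t)

include hg in
theorem frac_of_surjective (h : Function.Surjective (Away.map (u.gradedAt U hU V hV hle) g)) (t : Γ(X, V)) :
    Frac u hU g d hV hle t := by
  obtain ⟨z, hz⟩ := h (fromZeroRingHom (𝒮'.deg V hV) _ ((𝒮'.strZero V hV).hom t))
  obtain ⟨m, a, ha, rfl⟩ := Away.mk_surjective (𝒮.deg U hU) hg z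
  obtain ⟨l, hl⟩ := (gmap_eq_base_iff hU hg hV hle m a ha t).mp hz
  exact ⟨l, m, a, ha, hl⟩

include hPL hr hd hg hW in
theorem surjective_of_generators [IsIso pL] (G : Set Γ(X, V))
    (hG : letI := (q.appLE U V hle).hom.toAlgebra; Algebra.adjoin Γ(Y, U) G = ⊤)
    (hfrac : ∀ t ∈ G, Frac u hU g d hV hle t) :
    Function.Surjective (Away.map (u.gradedAt U hU V hV hle) g) := by
  letI := (q.appLE U V hle).hom.toAlgebra
  let base := (fromZeroRingHom (𝒮'.deg V hV)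
    (Submonoid.powers (u.gradedAt U hU V hV hle g))).comp (𝒮'.strZero V hV).hom
  intro y
  obtain ⟨t, rfl⟩ := (gbase_bijective hPL hr hU hd hg hV hle hW).2 y
  show base t ∈ (Away.map (u.gradedAt U hU V hV hle) g).range
  have ht : t ∈ Algebra.adjoin Γ(Y, U) G := hG ▸ trivial
  induction ht using Algebra.adjoin_induction with
  | mem x hx =>
    obtain ⟨l, m, a, ha, h⟩ := hfrac x hx
    exact ⟨_, (gmap_eq_base_iff hU hg hV hle m a ha x).mpr ⟨l, h⟩⟩
  | algebraMap c =>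
    refine ⟨Away.mk (𝒮.deg U hU) hg 0 ((𝒮.str.app (op U)).hom c) (by simpa using 𝒮.str_mem U hU c),
      (gmap_eq_base_iff hU hg hV hle 0 _ _ _).mpr ⟨0, ?_⟩⟩
    simp only [pow_zero, one_mul]
    exact congrArg (fun f => f.hom c) (u.toQHom.str_appLE U V hle)
  | add a b _ _ ha hb => rw [map_add]; exact add_mem ha hb
  | mul a b _ _ ha hb => rw [map_mul]; exact mul_mem ha hb

include hPL hr hd hg hW in
theorem gchart_property (Q : MorphismProperty Scheme.{u}) [Q.IsStableUnderBaseChange] {O : P.Opens}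
    {r' : (RelProj.domQ u pL chartL : Scheme.{u}) ⟶ (O : Scheme.{u})} (hr' : r' ≫ O.ι = r)
    (hO : gOpen p chart U hU g ≤ O) (hQ : Q r') :
    Q (Spec.map (CommRingCat.ofHom (Away.map (u.gradedAt U hU V hV hle) g))) := by
  obtain ⟨jX, hjo, hj2, hj3⟩ := exists_gsquare hPL hr hU hd hg hV hle hW
  have hle' : Set.range (gEmb p chart hU hd hg) ⊆ Set.range O.ι := by
    rw [Scheme.Opens.range_ι]
    intro z hz
    refine hO ?_
    rw [← gEmb_opensRange hU hd hg]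
    exact hz
  let jY := IsOpenImmersion.lift O.ι (gEmb p chart hU hd hg) hle'
  haveI : IsOpenImmersion jY := by
    haveI : IsOpenImmersion (jY ≫ O.ι) := (IsOpenImmersion.lift_fac O.ι _ hle').symm ▸ inferInstance
    exact IsOpenImmersion.of_comp jY O.ι
  have hjY : jY.opensRange = O.ι ⁻¹ᵁ gOpen p chart U hU g := by
    rw [← gEmb_opensRange hU hd hg, ← O.ι.preimage_image_eq jY.opensRange, ← Scheme.Hom.opensRange_comp]
    congr 2
    exact IsOpenImmersion.lift_fac _ _ _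
  refine MorphismProperty.of_isPullback
    (IsOpenImmersion.isPullback _ jX jY r' ?_ ?_).flip hQ
  · rw [← cancel_mono O.ι, Category.assoc, Category.assoc, hr', hj3, IsOpenImmersion.lift_fac]
  · rw [hjY, ← Scheme.Hom.comp_preimage, hr', hj2]

omit hU hd hg hV hle hW
include hPL hr in
theorem isImmersion_of_charts {κ : Type u} (U : κ → Y.Opens) (hU : ∀ a, IsAffineOpen (U a)) (d : κ → ℕ)
    (hd : ∀ a, 0 < d a) (g : ∀ a, 𝒮.presheaf.obj (op (U a))) (hg : ∀ a, g a ∈ 𝒮.deg (U a) (hU a) (d a))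
    (V : κ → X.Opens) (hV : ∀ a, IsAffineOpen (V a)) (hle : ∀ a, V a ≤ q ⁻¹ᵁ U a)
    (hW : ∀ a, (RelProj.domQ u pL chartL).ι ''ᵁ (r ⁻¹ᵁ gOpen p chart (U a) (hU a) (g a)) = pL ⁻¹ᵁ V a)
    (hcov : ∀ y : PL, ∃ a, y ∈ pL ⁻¹ᵁ V a)
    (hsurj : ∀ a, Function.Surjective (Away.map (u.gradedAt (U a) (hU a) (V a) (hV a) (hle a)) (g a))) :
    RelProj.domQ u pL chartL = ⊤ ∧ IsImmersion r := by
  let O : P.Opens := ⨆ a, gOpen p chart (U a) (hU a) (g a)
  have hy : ∀ y : PL, ∃ (a : κ) (y' : (RelProj.domQ u pL chartL : Scheme.{u})),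
      r y' ∈ gOpen p chart (U a) (hU a) (g a) ∧ (RelProj.domQ u pL chartL).ι y' = y := by
    intro y
    obtain ⟨a, ha⟩ := hcov y
    rw [← hW a] at ha
    obtain ⟨y', h1, h2⟩ := ha
    exact ⟨a, y', h1, h2⟩
  refine ⟨top_le_iff.mp fun y _ => by obtain ⟨-, y', -, rfl⟩ := hy y; exact y'.2, ?_⟩
  have hrange : Set.range r ⊆ Set.range O.ι := by
    rw [Scheme.Opens.range_ι]
    rintro _ ⟨x, rfl⟩
    obtain ⟨a, y', h1, h2⟩ := hy ((RelProj.domQ u pL chartL).ι x)
    obtain rfl := (RelProj.domQ u pL chartL).ι.isOpenEmbedding.injective h2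
    exact Opens.mem_iSup.mpr ⟨a, h1⟩
  let r' := IsOpenImmersion.lift O.ι r hrange
  have hr' : r' ≫ O.ι = r := IsOpenImmersion.lift_fac _ _ _
  choose jX hj1 hj2 hj3 using fun a => exists_gsquare hPL hr (hU a) (hd a) (hg a) (hV a) (hle a) (hW a)
  have hle' : ∀ a, Set.range (gEmb p chart (hU a) (hd a) (hg a)) ⊆ Set.range O.ι := fun a => by
    rw [Scheme.Opens.range_ι]
    intro z hz
    refine Opens.mem_iSup.mpr ⟨a, ?_⟩
    rw [← gEmb_opensRange (hU a) (hd a) (hg a)]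
    exact hz
  let jY := fun a => IsOpenImmersion.lift O.ι (gEmb p chart (hU a) (hd a) (hg a)) (hle' a)
  haveI : ∀ a, IsOpenImmersion (jY a) := fun a => by
    haveI : IsOpenImmersion (jY a ≫ O.ι) := (IsOpenImmersion.lift_fac O.ι _ (hle' a)).symm ▸ inferInstance
    exact IsOpenImmersion.of_comp (jY a) O.ι
  have hjY : ∀ a, (jY a).opensRange = O.ι ⁻¹ᵁ gOpen p chart (U a) (hU a) (g a) := fun a => by
    rw [← gEmb_opensRange (hU a) (hd a) (hg a), ← O.ι.preimage_image_eq (jY a).opensRange,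
      ← Scheme.Hom.opensRange_comp]
    congr 2
    exact IsOpenImmersion.lift_fac _ _ _
  haveI : IsClosedImmersion r' := by
    refine RelConeLib.of_squares @IsClosedImmersion r' jX jY
      (fun a => Spec.map (CommRingCat.ofHom (Away.map (u.gradedAt (U a) (hU a) (V a) (hV a) (hle a)) (g a))))
      (fun a => ?_) (fun a => ?_) (fun z => ?_)
      (fun a => IsClosedImmersion.spec_of_surjective _ (hsurj a))
    · rw [← cancel_mono O.ι, Category.assoc, Category.assoc, hr', hj3 a, IsOpenImmersion.lift_fac]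
    · rw [hjY, ← Scheme.Hom.comp_preimage, hr', hj2 a]
    · obtain ⟨a, ha⟩ := Opens.mem_iSup.mp z.2
      exact ⟨a, (hjY a).ge ha⟩
  rw [← hr']
  infer_instance

end EGA2SymLib

end
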