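import Mathlib
import Groth.Agent.QCohLib.LocSub
import Groth.Agent.QCohLib.Affine
import Groth.Agent.GrModLib6.RelExist

/-!
# The homogeneous parts of a graded algebra as quasi-coherent modules
-/

set_option autoImplicit false
universe u

open CategoryTheory CategoryTheory.Limits AlgebraicGeometry TopologicalSpace Opposite

noncomputable section

namespace EGA2SymLib

variable {S : Scheme.{u}} (𝒮 : RelProj.QCGrAlg S)

/-- restriction in the ring of sections -/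
abbrev rres {V W : S.Opens} (h : W ≤ V) (a : 𝒮.presheaf.obj (op V)) : 𝒮.presheaf.obj (op W) :=
  (𝒮.presheaf.map (homOfLE h).op).hom a

theorem rres_rres {V W W' : S.Opens} (h : W ≤ V) (h' : W' ≤ W) (a : 𝒮.presheaf.obj (op V)) :
    rres 𝒮 h' (rres 𝒮 h a) = rres 𝒮 (h'.trans h) a := by
  show (𝒮.presheaf.map (homOfLE h).op ≫ 𝒮.presheaf.map (homOfLE h').op).hom a = _
  rw [← Functor.map_comp]
  rfl

theorem rres_str {V W : S.Opens} (h : W ≤ V) (r : Γ(S, V)) :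
    rres 𝒮 h ((𝒮.str.app (op V)).hom r) = (𝒮.str.app (op W)).hom ((S.presheaf.map (homOfLE h).op).hom r) :=
  (congr($(𝒮.str.naturality (homOfLE h).op) r)).symm

theorem rres_decompose {U V : S.Opens} (hU : IsAffineOpen U) (hV : IsAffineOpen V) (h : V ≤ U)
    (a : 𝒮.presheaf.obj (op U)) (d : ℕ) :
    rres 𝒮 h (DirectSum.decompose (𝒮.deg U hU) a d : 𝒮.presheaf.obj (op U)) =
      (DirectSum.decompose (𝒮.deg V hV) (rres 𝒮 h a) d : 𝒮.presheaf.obj (op V)) :=
  GradedRingHom.map_directSumDecompose (𝒜 := 𝒮.deg U hU) (ℬ := 𝒮.deg V hV) (𝒮.res hU hV h)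

/-- a section of the underlying module as a ring element -/
abbrev asR {V : S.Opens} (a : Γ(𝒮.toModule, V)) : 𝒮.presheaf.obj (op V) := a

/-- the condition of being homogeneous of degree `d` -/
def DegMem (d : ℕ) (V : S.Opens) (a : 𝒮.presheaf.obj (op V)) : Prop :=
  ∀ (U : S.Opens) (hU : IsAffineOpen U) (h : U ≤ V), rres 𝒮 h a ∈ 𝒮.deg U hU d

theorem degMem_affine (d : ℕ) {U : S.Opens} (hU : IsAffineOpen U) (a : 𝒮.presheaf.obj (op U)) :
    DegMem 𝒮 d U a ↔ a ∈ 𝒮.deg U hU d := by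
  refine ⟨fun h => ?_, fun h U' hU' hle => 𝒮.map_mem hU hU' hle h⟩
  have := h U hU le_rfl
  rwa [show rres 𝒮 (le_refl U) a = a from congr($(𝒮.presheaf.map_id (op U)) a)] at this

theorem degMem_local (d : ℕ) {V : S.Opens} (a : 𝒮.presheaf.obj (op V))
    (h : ∀ p : S, p ∈ V → ∃ (W : S.Opens) (hW : W ≤ V), p ∈ W ∧ DegMem 𝒮 d W (rres 𝒮 hW a)) : DegMem 𝒮 d V a := by
  intro U hU hUV
  let b : 𝒮.presheaf.obj (op U) := rres 𝒮 hUV a
  suffices h0 : (DirectSum.decompose (𝒮.deg U hU) b d : 𝒮.presheaf.obj (op U)) = b by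
    show b ∈ _
    rw [← h0]
    exact SetLike.coe_mem _
  refine TopCat.Presheaf.section_ext (⟨𝒮.presheaf, 𝒮.isSheaf⟩ : TopCat.Sheaf CommRingCat.{u} S.carrier) _ _ _ fun p hp => ?_
  obtain ⟨W, hW, hpW, hm⟩ := h p (hUV hp)
  obtain ⟨U', hU', hpU', hle⟩ := exists_isAffineOpen_mem_and_subset (x := p) (U := U ⊓ W) ⟨hp, hpW⟩
  have hle1 : U' ≤ U := fun x hx => (hle hx).1
  have hle2 : U' ≤ W := fun x hx => (hle hx).2
  have hb : rres 𝒮 hle1 b ∈ 𝒮.deg U' hU' d := by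
    have := hm U' hU' hle2
    rw [rres_rres] at this
    rw [rres_rres]
    exact this
  have e : rres 𝒮 hle1 (DirectSum.decompose (𝒮.deg U hU) b d : 𝒮.presheaf.obj (op U)) = rres 𝒮 hle1 b := by
    rw [rres_decompose 𝒮 hU hU' hle1]
    exact DirectSum.decompose_of_mem_same _ hb
  have := congrArg (𝒮.presheaf.germ U' p hpU') e
  dsimp only [rres] at this
  erw [TopCat.Presheaf.germ_res_apply, TopCat.Presheaf.germ_res_apply] at this
  exact this

/-- the degree `d` part -/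
def degLoc (d : ℕ) : QCohLib.LocSub 𝒮.toModule where
  mem V a := DegMem 𝒮 d V a
  zero V U hU h := by
    show rres 𝒮 h (0 : 𝒮.presheaf.obj (op V)) ∈ _
    rw [rres, map_zero]
    exact zero_mem _
  add {V a b} ha hb U hU h := by
    show (𝒮.presheaf.map (homOfLE h).op).hom (asR 𝒮 a + asR 𝒮 b) ∈ _
    rw [map_add]
    exact add_mem (ha U hU h) (hb U hU h)
  smul {V} r {a} ha U hU h := by
    show (𝒮.presheaf.map (homOfLE h).op).hom ((𝒮.str.app (op V)).hom r * asR 𝒮 a) ∈ _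
    rw [map_mul]
    refine (zero_add d) ▸ SetLike.mul_mem_graded ?_ (ha U hU h)
    show rres 𝒮 h ((𝒮.str.app (op V)).hom r) ∈ _
    rw [rres_str]
    exact 𝒮.str_mem U hU _
  res {V W} h {a} ha U hU hUW := by
    show rres 𝒮 hUW (rres 𝒮 h a) ∈ _
    rw [rres_rres]
    exact ha U hU _
  local' a h := degMem_local 𝒮 d a h

/-- the degree `d` part as a module -/
abbrev degPart (d : ℕ) : S.Modules := (degLoc 𝒮 d).toModules

/-- its inclusion -/
abbrev degIncl (d : ℕ) : degPart 𝒮 d ⟶ 𝒮.toModule := (degLoc 𝒮 d).ι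

theorem degIncl_mem (d : ℕ) {U : S.Opens} (hU : IsAffineOpen U) (e : Γ(degPart 𝒮 d, U)) :
    (degIncl 𝒮 d).app U e ∈ 𝒮.deg U hU d :=
  (degMem_affine 𝒮 d hU _).mp ((degLoc 𝒮 d).ι_app_mem e)

theorem exists_degIncl_eq (d : ℕ) {U : S.Opens} (hU : IsAffineOpen U) {x : 𝒮.presheaf.obj (op U)}
    (hx : x ∈ 𝒮.deg U hU d) : ∃ e : Γ(degPart 𝒮 d, U), (degIncl 𝒮 d).app U e = x :=
  ⟨(degLoc 𝒮 d).lift x ((degMem_affine 𝒮 d hU x).mpr hx), rfl⟩

theorem isQCoh_degPart (d : ℕ) : Coh.IsQCoh (degPart 𝒮 d) := by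
  refine (QCohLib.isQCoh_iff_localizingAt _).mpr fun U hU f => ⟨fun s => ?_, fun t ht => ?_⟩
  · have hs := degIncl_mem 𝒮 d (hU.basicOpen f) s
    obtain ⟨k, a, ha⟩ := GrModLib6.surj_alg (𝒮 := 𝒮) hU f ((degIncl 𝒮 d).app (S.basicOpen f) s)
    obtain ⟨t, ht⟩ := exists_degIncl_eq 𝒮 d hU (SetLike.coe_mem (DirectSum.decompose (𝒮.deg U hU) a d))
    refine ⟨k, t, (degLoc 𝒮 d).ι_app_injective _ ?_⟩
    refine (QCohLib.app_map (degIncl 𝒮 d) _ t).trans ?_
    rw [Scheme.Modules.Hom.app_smul, ht]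
    show rres 𝒮 (S.basicOpen_le f) (DirectSum.decompose (𝒮.deg U hU) a d : 𝒮.presheaf.obj (op U)) =
      (𝒮.str.app (op (S.basicOpen f))).hom ((S.presheaf.map (homOfLE (S.basicOpen_le f)).op).hom f ^ k) *
        asR 𝒮 ((degIncl 𝒮 d).app (S.basicOpen f) s)
    rw [rres_decompose 𝒮 hU (hU.basicOpen f)]
    have hm : (𝒮.str.app (op (S.basicOpen f))).hom ((S.presheaf.map (homOfLE (S.basicOpen_le f)).op).hom f ^ k) *
        asR 𝒮 ((degIncl 𝒮 d).app (S.basicOpen f) s) ∈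
          𝒮.deg (S.basicOpen f) (hU.basicOpen f) d :=
      by simpa only [zero_add] using SetLike.mul_mem_graded (𝒮.str_mem _ (hU.basicOpen f) _) hs
    have e : rres 𝒮 (S.basicOpen_le f) a = (𝒮.str.app (op (S.basicOpen f))).hom
        ((S.presheaf.map (homOfLE (S.basicOpen_le f)).op).hom f ^ k) *
          asR 𝒮 ((degIncl 𝒮 d).app (S.basicOpen f) s) := by
      rw [map_pow, ← rres_str]
      exact ha
    rw [e]
    exact DirectSum.decompose_of_mem_same _ hm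
  · let _inst := (𝒮.presheaf.map (homOfLE (S.basicOpen_le f)).op).hom.toAlgebra
    have hloc : IsLocalization.Away ((𝒮.str.app (op U)).hom f) (𝒮.presheaf.obj (op (S.basicOpen f))) := 𝒮.isQC U hU f
    have h0 : rres 𝒮 (S.basicOpen_le f) ((degIncl 𝒮 d).app U t) = 0 :=
      (QCohLib.app_map (degIncl 𝒮 d) (homOfLE (S.basicOpen_le f)) t).symm.trans
        ((congrArg ((degIncl 𝒮 d).app (S.basicOpen f)) ht).trans (map_zero _))
    obtain ⟨⟨_, k, rfl⟩, hk⟩ := (IsLocalization.map_eq_zero_iff (Submonoid.powers ((𝒮.str.app (op U)).hom f))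
      (𝒮.presheaf.obj (op (S.basicOpen f))) _).mp h0
    refine ⟨k, (degLoc 𝒮 d).ι_app_injective _ ?_⟩
    rw [Scheme.Modules.Hom.app_smul, map_zero]
    show (𝒮.str.app (op U)).hom ((S.presheaf.map (homOfLE le_rfl).op).hom f ^ k) *
      asR 𝒮 ((degIncl 𝒮 d).app U t) = 0
    rw [show (homOfLE (le_refl U)).op = 𝟙 (op U) from rfl, CategoryTheory.Functor.map_id, CommRingCat.hom_id,
      RingHom.id_apply, map_pow]
    exact hk

end EGA2SymLib

end
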