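import Mathlib
import Groth.Agent.EGA2SymLib.LocalVA

/-!
# The morphism `r_{L,σ}` of a very ample module
-/

set_option autoImplicit false
universe u

open CategoryTheory CategoryTheory.Limits AlgebraicGeometry TopologicalSpace Opposite
open KFlatLib (pb puSec puSecLE)
open scoped HomogeneousIdeal

noncomputable section

namespace EGA2SymLib

variable {Y X P : Scheme.{u}} {E : Y.Modules} [hE : Coh.IsQCoh E] {g : X ⟶ Y} {L : X.Modules}
  (s : pb g E ⟶ L)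
variable {𝒮 : RelProj.QCGrAlg Y} {j : E ⟶ 𝒮.toModule} (hj : RelProj.IsGrSymAlg E 𝒮 j)
  {𝒮L : RelProj.QCGrAlg X} {jL : L ⟶ 𝒮L.toModule} (hjL : RelProj.IsGrSymAlg L 𝒮L jL)
variable {u : RelProj.QGrHom g 𝒮 𝒮L}
  (hu : ∀ (U : Y.Opens) (hU : IsAffineOpen U) (U' : X.Opens) (hU' : IsAffineOpen U') (hle : U' ≤ g ⁻¹ᵁ U)
    (m : Γ(E, U)),
      u.gradedAt U hU U' hU' hle (jS j U m) = jS jL U' (L.presheaf.map (homOfLE hle).op (qVal s U m)))
variable {p : P ⟶ Y}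
  {chart : ∀ (U : Y.Opens) (hU : IsAffineOpen U), (((p ⁻¹ᵁ U : P.Opens) : Scheme.{u}) ≅ Proj (𝒮.deg U hU))}
  (hP : RelProj.IsRelProj 𝒮 p chart) {O1 : P.Modules}

include hE hj hjL hP hu in
/-- the morphism of projective spectra gives the induced morphism -/
theorem induces_of_isProjQMap [Coh.IsQCoh L] [Epi s] (hL : PicF.IsInvertible L)
    {lam : ∀ (U : Y.Opens) (hU : IsAffineOpen U),
      O1 ⟶ (Scheme.Modules.pushforward (RelProj.emb p chart U hU)).obj (GrTwist.twist (𝒮.deg U hU) 1)}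
    (hO1 : RelProj.IsRelTwist 𝒮 p chart 1 O1 lam) {φ : E ⟶ (Scheme.Modules.pushforward p).obj O1}
    (hφ : ∀ (U : Y.Opens) (hU : IsAffineOpen U) (e : Γ(E, U))
      (y : ↥(RelProj.emb p chart U hU ⁻¹ᵁ (p ⁻¹ᵁ U))),
      GrTwist.val (V := RelProj.emb p chart U hU ⁻¹ᵁ (p ⁻¹ᵁ U))
          ((lam U hU).app (p ⁻¹ᵁ U) ((φ.app U) e)) y =
        algebraMap (𝒮.presheaf.obj (op U)) (GrTwist.Loc (𝒮.deg U hU) y.1)
          ((j.app U) e : 𝒮.presheaf.obj (op U))) :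
    ∀ {PL : Scheme.{u}} {pL : PL ⟶ X}
    {chartL : ∀ (U : X.Opens) (hU : IsAffineOpen U), (((pL ⁻¹ᵁ U : PL.Opens) : Scheme.{u}) ≅ Proj (𝒮L.deg U hU))}
    (_ : RelProj.IsRelProj 𝒮L pL chartL) {h : PL ⟶ P} (_ : RelProj.IsProjQMap u p chart pL chartL h)
    (_ : h ≫ p = pL ≫ g) [IsIso pL], ∃ hr : (inv pL ≫ h) ≫ p = g, Induces s φ (inv pL ≫ h) hr := by
  intro PL pL chartL hPL h hh hover _
  obtain ⟨OL, lamL, hOL⟩ := GrModLib6.exists_isRelTwist hPL 1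
  have hirr := irrelevant_le_of_epi s hj hjL hu
  have hg := emb_comp_of_isProjQMap hirr hh
  obtain ⟨φL, hφL⟩ := exists_canonicalMap_one hPL hOL jL hjL.2
  haveI := Groth.Agent.S5732.result L inferInstance 𝒮L jL hjL pL chartL hPL OL lamL hOL φL hφL
  haveI := CohCmpLib.isIso_of_epi_rank_one
    (CohCmpLib.rank_one_pullback pL ((CohCmpLib.invertible_iff_rank_one L).1 hL))
    ((CohCmpLib.invertible_iff_rank_one OL).1 (isInvertible_of_isRelTwist (SymGenLib.isGenDegOne hjL) hOL))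
    (((Scheme.Modules.pullbackPushforwardAdjunction pL).homEquiv L OL).symm φL)
  have hn : (1 : ℤ) = 1 * ((1 : ℕ) : ℤ) := by simp
  obtain ⟨θ, hθiso, hθ⟩ : ∃ θ : O1 ⟶ (Scheme.Modules.pushforward h).obj OL,
      IsIso (((Scheme.Modules.pullbackPushforwardAdjunction h).homEquiv O1 OL).symm θ) ∧
      ∀ c : APair g, θ ≫ (Scheme.Modules.pushforward h).map (lamL c.i.1 c.i.2) = qComap hirr hg lam c := by
    have key : ∀ (m : ℤ), m = 1 * ((1 : ℕ) : ℤ) →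
        ∀ (lam₁ : ∀ (U : Y.Opens) (hU : IsAffineOpen U),
          O1 ⟶ (Scheme.Modules.pushforward (RelProj.emb p chart U hU)).obj (GrTwist.twist (𝒮.deg U hU) m))
        (lamL₁ : ∀ (U : X.Opens) (hU : IsAffineOpen U),
          OL ⟶ (Scheme.Modules.pushforward (RelProj.emb pL chartL U hU)).obj (GrTwist.twist (𝒮L.deg U hU) m)),
        RelProj.IsRelTwist 𝒮 p chart m O1 lam₁ → RelProj.IsRelTwist 𝒮L pL chartL m OL lamL₁ →
        ∃ θ : O1 ⟶ (Scheme.Modules.pushforward h).obj OL,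
          IsIso (((Scheme.Modules.pullbackPushforwardAdjunction h).homEquiv O1 OL).symm θ) ∧
          ∀ c : APair g, θ ≫ (Scheme.Modules.pushforward h).map (lamL₁ c.i.1 c.i.2) = qComap hirr hg lam₁ c := by
      rintro m rfl lam₁ lamL₁ h₁ h₂
      exact exists_twist_comap_iso hirr hg hP hPL (SymGenLib.isGenDegOne hj) h₁ h₂
    exact key 1 hn lam lamL hO1 hOL
  let ι := inv pL
  let r := ι ≫ h
  have hr : r ≫ p = g := by simp [r, ι, hover]
  refine ⟨hr, ?_⟩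
  haveI := hθiso
  let θ' := asIso (((Scheme.Modules.pullbackPushforwardAdjunction h).homEquiv O1 OL).symm θ)
  let a := asIso (((Scheme.Modules.pullbackPushforwardAdjunction pL).homEquiv L OL).symm φL)
  have hιp : ι ≫ pL = 𝟙 X := IsIso.inv_hom_id pL
  let τ : (Scheme.Modules.pullback r).obj O1 ≅ L :=
    ((Scheme.Modules.pullbackComp ι h).app O1).symm ≪≫ (Scheme.Modules.pullback ι).mapIso (θ' ≪≫ a.symm) ≪≫
      (Scheme.Modules.pullbackComp ι pL).app L ≪≫ (Scheme.Modules.pullbackCongr hιp).app L ≪≫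
      (Scheme.Modules.pullbackId X).app L
  refine ⟨τ, fun U m => ?_⟩
  have ha : ∀ (V : X.Opens) (n : Γ(L, V)),
      a.hom.app (pL ⁻¹ᵁ V) (puSec pL n) = (show Γ(OL, pL ⁻¹ᵁ V) from φL.app V n) := fun V n =>
    congrArg (fun χ => Scheme.Modules.Hom.app χ V n)
      (((Scheme.Modules.pullbackPushforwardAdjunction pL).homEquiv_unit L OL a.hom).symm.trans
        (Equiv.apply_symm_apply _ φL))
  have hθ' : ∀ (W : P.Opens) (x : Γ(O1, W)),
      θ'.hom.app (h ⁻¹ᵁ W) (puSec h x) = (show Γ(OL, h ⁻¹ᵁ W) from θ.app W x) := fun W x =>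
    congrArg (fun χ => Scheme.Modules.Hom.app χ W x)
      (((Scheme.Modules.pullbackPushforwardAdjunction h).homEquiv_unit O1 OL θ'.hom).symm.trans
        (Equiv.apply_symm_apply _ θ))
  have hW : h ⁻¹ᵁ (p ⁻¹ᵁ U) = pL ⁻¹ᵁ (g ⁻¹ᵁ U) := by
    rw [← Scheme.Hom.comp_preimage, hover, Scheme.Hom.comp_preimage]
  have hval : ∀ (U : Y.Opens) (hU : IsAffineOpen U) (m : Γ(E, U)),
      L.presheaf.map (eqToHom (by rw [← hr]; rfl)).op
        (τ.hom.app (r ⁻¹ᵁ (p ⁻¹ᵁ U)) (puSec r (show Γ(O1, p ⁻¹ᵁ U) from φ.app U m))) = qVal s U m := by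
    intro U hU m
    have hW : h ⁻¹ᵁ (p ⁻¹ᵁ U) = pL ⁻¹ᵁ (g ⁻¹ᵁ U) := by
      rw [← Scheme.Hom.comp_preimage, hover, Scheme.Hom.comp_preimage]
    exact induces_trace s hιp a ha θ'.hom hθ' hr m hW
      (theta_canonical s hP hOL hu hφ hφL hg hθ hU m hW)
  exact induces_of_affine s φ hr τ hval U m

end EGA2SymLib
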