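import Mathlib
import Groth.Agent.EGA2SymLib.RLSigma
import Groth.Agent.EGA2SymLib.LocalCrit
import Groth.Agent.EGA2SymLib.FTVA
import Groth.Agent.S12143

/-!
# When the morphism given by a family of sections is an immersion
-/

set_option autoImplicit false
universe u

open CategoryTheory CategoryTheory.Limits AlgebraicGeometry TopologicalSpace Opposite
open AmpleLib (res GenOn GenAt)
open KFlatLib (pb puSec)

noncomputable section

namespace EGA2SymLib

theorem symι_injective {R : Type*} [CommRing R] {M : Type*} [AddCommGroup M] [Module R M] :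
    Function.Injective (SymmetricAlgebra.ι R M) := by
  letI : Module Rᵐᵒᵖ M := Module.compHom M (RingEquiv.toOpposite R).symm.toRingHom
  haveI : IsCentralScalar R M := ⟨fun r m => rfl⟩
  intro a b h
  have := congrArg (fun z => (SymmetricAlgebra.lift (TrivSqZeroExt.inrHom R M) z).snd) h
  simpa using this

/-- a module lies inside its symmetric algebra -/
theorem j_app_injective {S : Scheme.{u}} {E : S.Modules} [Coh.IsQCoh E] {A : RelSpec.QCAlg S} {j : E ⟶ A.toModule}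
    (hj : RelSpec.IsSymAlg E A j) (V : S.Opens) : Function.Injective (j.app V) := by
  obtain ⟨ψ, hψ, -⟩ := hj (SymAlgLib.symAlg E) (SymAlgLib.symι E)
  have haff : ∀ (U : S.AffineZariskiSite), Function.Injective (j.app U.1) := by
    intro U a b h
    have h1 : (SymAlgLib.symι E).app U.1 a = (SymAlgLib.symι E).app U.1 b := by
      rw [← hψ]
      exact congrArg (fun z => (RelSpec.QCAlg.Hom.toModuleMap ψ).app U.1 z) h
    have h2 : SymAlgLib.gi E U (SymmetricAlgebra.ι Γ(S, U.1) Γ(E, U.1) a) =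
        SymAlgLib.gi E U (SymmetricAlgebra.ι Γ(S, U.1) Γ(E, U.1) b) :=
      ((SymAlgLib.symι_app E U a).symm.trans h1).trans (SymAlgLib.symι_app E U b)
    refine symι_injective (R := Γ(S, U.1)) (M := Γ(E, U.1)) ?_
    have h3 := congrArg (SymAlgLib.gamma E U) h2
    rwa [gamma_gi, gamma_gi] at h3
  intro a b h
  refine TopCat.Presheaf.section_ext ⟨E.presheaf, E.isSheaf⟩ _ _ _ fun y hy => ?_
  obtain ⟨W, hW, hyW, hle⟩ := exists_isAffineOpen_mem_and_subset (X := S) (x := y) (U := V) hy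
  have : res E (show W ≤ V from hle) a = res E (show W ≤ V from hle) b := haff ⟨W, hW⟩ (by
    rw [QCohLib.app_map, QCohLib.app_map, h])
  have h4 := congrArg (E.presheaf.germ W y hyW) this
  simp only [TopCat.Presheaf.germ_res_apply] at h4
  exact h4

variable {X Y P PL : Scheme.{u}} {q : X ⟶ Y} {L : X.Modules} {F : Y.Modules}
  {𝒮L : RelProj.QCGrAlg X} {jL : L ⟶ 𝒮L.toModule} {𝒯 : RelProj.QCGrAlg Y} {jF : F ⟶ 𝒯.toModule}

/-- a graded morphism of symmetric algebras is given by its degree-one part -/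
theorem exists_sigma [Coh.IsQCoh L] (hjL : RelProj.IsGrSymAlg L 𝒮L jL) (hF : RelProj.IsGrSymAlg F 𝒯 jF)
    (u : RelProj.QGrHom q 𝒯 𝒮L) :
    ∃ σ : F ⟶ (Scheme.Modules.pushforward q).obj L, ∀ (U : Y.Opens) (x : Γ(F, U)),
      (u.app U).hom ((jF.app U) x) = (jL.app (q ⁻¹ᵁ U)) (σ.app U x) := by
  have hinj := j_app_injective hjL.1
  have hex : ∀ (U : Y.Opens) (x : Γ(F, U)), ∃ l : Γ(L, q ⁻¹ᵁ U),
      (jL.app (q ⁻¹ᵁ U)) l = (u.app U).hom ((jF.app U) x) := by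
    intro U x
    let I := {W : X.affineOpens × Y.affineOpens // W.2.1 ≤ U ∧ W.1.1 ≤ q ⁻¹ᵁ W.2.1}
    have hle : ∀ i : I, i.1.1.1 ≤ q ⁻¹ᵁ U := fun i => i.2.2.trans (q.preimage_mono i.2.1)
    have hloc : ∀ i : I, ∃ l : Γ(L, i.1.1.1), jL.app i.1.1.1 l =
        𝒮L.toModule.presheaf.map (homOfLE (hle i)).op
          (show Γ(𝒮L.toModule, q ⁻¹ᵁ U) from (u.app U).hom ((jF.app U) x)) := by
      intro i
      obtain ⟨l, hl⟩ := exists_of_mem_one hjL i.1.1.1 i.1.1.2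
        (u.map_mem i.1.2.1 i.1.2.2 i.1.1.1 i.1.1.2 i.2.2 (hF.2 i.1.2.1 i.1.2.2 (res F i.2.1 x)))
      refine ⟨l, hl.trans ?_⟩
      rw [QCohLib.app_map]
      exact congr($(u.toQHom.map_appLE i.2.1 i.2.2).hom ((jF.app U) x))
    choose l hl using hloc
    obtain ⟨g, hg, -⟩ := TopCat.Sheaf.existsUnique_gluing' (X := X.toTopCat)
      (⟨L.presheaf, L.isSheaf⟩ : TopCat.Sheaf AddCommGrpCat _) (fun i : I => i.1.1.1) (q ⁻¹ᵁ U)
      (fun i => homOfLE (hle i)) (fun y hy => by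
        obtain ⟨W, hW, hyW, hWU⟩ := exists_isAffineOpen_mem_and_subset (X := Y) (x := q y) (U := U) hy
        obtain ⟨V, hV, hyV, hVW⟩ := exists_isAffineOpen_mem_and_subset (X := X) (x := y) (U := q ⁻¹ᵁ W) hyW
        exact Opens.mem_iSup.mpr ⟨⟨(⟨V, hV⟩, ⟨W, hW⟩), hWU, hVW⟩, hyV⟩)
      l fun i k => hinj _ (by
        refine (QCohLib.app_map jL _ _).trans (Eq.trans ?_ (QCohLib.app_map jL _ _).symm)
        rw [hl, hl]
        exact (QCohLib.map_map' 𝒮L.toModule _ _ _).trans (QCohLib.map_map' 𝒮L.toModule (Opens.infLERight i.1.1.1 k.1.1.1) (homOfLE (hle k)) _).symm)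
    refine ⟨g, TopCat.Presheaf.section_ext ⟨𝒮L.toModule.presheaf, 𝒮L.toModule.isSheaf⟩ _ _ _ fun y hy => ?_⟩
    obtain ⟨W, hW, hyW, hWU⟩ := exists_isAffineOpen_mem_and_subset (X := Y) (x := q y) (U := U) hy
    obtain ⟨V, hV, hyV, hVW⟩ := exists_isAffineOpen_mem_and_subset (X := X) (x := y) (U := q ⁻¹ᵁ W) hyW
    let i : I := ⟨(⟨V, hV⟩, ⟨W, hW⟩), hWU, hVW⟩
    have h1 := (QCohLib.app_map jL (homOfLE (hle i)) g).symm.trans ((congrArg (jL.app V) (hg i)).trans (hl i))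
    have h2 := congrArg (𝒮L.toModule.presheaf.germ V y hyV) h1
    simp only [TopCat.Presheaf.germ_res_apply] at h2
    exact h2
  choose l hl using hex
  refine ⟨⟨PresheafOfModules.homMk (M₁ := F.val) (M₂ := ((Scheme.Modules.pushforward q).obj L).val)
    { app := fun U => AddCommGrpCat.ofHom (AddMonoidHom.mk' (fun x => l U.unop x) fun a b => hinj _ ?_)
      naturality := fun U V i => ?_ } fun U r x => ?_⟩, fun U x => (hl U x).symm⟩
  · refine (hl _ _).trans (Eq.trans ?_ (map_add (jL.app (q ⁻¹ᵁ U.unop)).hom (l U.unop a) (l U.unop b)).symm)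
    refine (congrArg (u.app U.unop).hom (map_add (jF.app U.unop).hom a b)).trans ?_
    exact (map_add (u.app U.unop).hom _ _).trans (congrArg₂ (· + ·) (hl _ a).symm (hl _ b).symm)
  · refine ConcreteCategory.hom_ext _ _ fun x => hinj _ ?_
    refine (hl _ _).trans (Eq.trans ?_ (QCohLib.app_map jL _ _).symm)
    refine (congrArg (u.app V.unop).hom (QCohLib.app_map jF i.unop x)).trans ?_
    exact (congr($(u.naturality i.unop.le).hom ((jF.app U.unop) x))).symm.trans (congrArg _ (hl U.unop x).symm)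
  · refine hinj _ ((hl _ _).trans ?_)
    refine Eq.trans ?_ (QCohLib.app_smul jL _ (q.app U.unop r) (l U.unop x)).symm
    rw [hl]
    refine (congrArg (u.app U.unop).hom (QCohLib.app_smul jF U.unop r x)).trans ((map_mul (u.app U.unop).hom _ _).trans ?_)
    exact congrArg (· * _) congr($(u.str_app U.unop).hom r)

/-- the degree one part is given by `σ` on affine pairs -/
theorem graded_of_sigma {u : RelProj.QGrHom q 𝒯 𝒮L} {σ : F ⟶ (Scheme.Modules.pushforward q).obj L}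
    (hu : ∀ (U : Y.Opens) (x : Γ(F, U)), (u.app U).hom ((jF.app U) x) = (jL.app (q ⁻¹ᵁ U)) (σ.app U x))
    (U : Y.Opens) (hU : IsAffineOpen U) (U' : X.Opens) (hU' : IsAffineOpen U') (hle : U' ≤ q ⁻¹ᵁ U)
    (m : Γ(F, U)) :
    u.gradedAt U hU U' hU' hle (jS jF U m) = jS jL U' (L.presheaf.map (homOfLE hle).op (qVal (adjA σ) U m)) := by
  rw [show qVal (adjA σ) U m = _ from adjA_puSec σ m]
  show (𝒮L.presheaf.map (homOfLE hle).op).hom ((u.app U).hom ((jF.app U) m)) = _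
  rw [hu]
  exact (QCohLib.app_map jL (homOfLE hle) _).symm

/-- a family of sections gives a graded morphism of symmetric algebras -/
theorem exists_qgrhom_of_sigma [Coh.IsQCoh F] [Coh.IsQCoh L] (hjL : RelProj.IsGrSymAlg L 𝒮L jL) (hF : RelProj.IsGrSymAlg F 𝒯 jF)
    (σ : F ⟶ (Scheme.Modules.pushforward q).obj L) :
    ∃ u : RelProj.QGrHom q 𝒯 𝒮L,
      ∀ (U : Y.Opens) (x : Γ(F, U)), (u.app U).hom ((jF.app U) x) = (jL.app (q ⁻¹ᵁ U)) (σ.app U x) := by
  obtain ⟨u, hu⟩ := exists_quotient_qgrhom (adjA σ) hF hjL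
  refine ⟨u, fun U x => TopCat.Presheaf.section_ext ⟨𝒮L.toModule.presheaf, 𝒮L.toModule.isSheaf⟩ _ _ _ fun y hy => ?_⟩
  obtain ⟨W, hW, hyW, hWU⟩ := exists_isAffineOpen_mem_and_subset (X := Y) (x := q y) (U := U) hy
  obtain ⟨V, hV, hyV, hVW⟩ := exists_isAffineOpen_mem_and_subset (X := X) (x := y) (U := q ⁻¹ᵁ W) hyW
  have hVU : V ≤ q ⁻¹ᵁ U := (show V ≤ q ⁻¹ᵁ W from hVW).trans (q.preimage_mono hWU)
  have h1 : 𝒮L.toModule.presheaf.map (homOfLE hVU).op
      (show Γ(𝒮L.toModule, q ⁻¹ᵁ U) from (u.app U).hom ((jF.app U) x)) =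
      𝒮L.toModule.presheaf.map (homOfLE hVU).op (jL.app (q ⁻¹ᵁ U) (σ.app U x)) := by
    rw [← QCohLib.app_map]
    refine (congr($(u.toQHom.map_appLE (show W ≤ U from hWU) (show V ≤ q ⁻¹ᵁ W from hVW)).hom ((jF.app U) x))).symm.trans ?_
    refine (congrArg (u.appLE W V hVW).hom (QCohLib.app_map jF (homOfLE (show W ≤ U from hWU)) x)).symm.trans ?_
    refine (hu W hW V hV hVW _).trans (congrArg (jL.app V) ?_)
    rw [show qVal (adjA σ) W _ = _ from adjA_puSec σ _, QCohLib.app_map]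
    exact QCohLib.map_map' L _ _ _
  have h2 := congrArg (𝒮L.toModule.presheaf.germ V y hyV) h1
  simp only [TopCat.Presheaf.germ_res_apply] at h2
  exact h2

/-- there is a section of the family over `U` generating at `x` whose ratios embed its locus of generation -/
def SecAtS (σ : F ⟶ (Scheme.Modules.pushforward q).obj L) (U : Y.Opens) (x : X) : Prop :=
  ∃ (e : Γ(F, U)) (hx : x ∈ q ⁻¹ᵁ U), GenAt L (show Γ(L, q ⁻¹ᵁ U) from σ.app U e) hx ∧
    ∀ (W : X.Opens) (hW : W ≤ q ⁻¹ᵁ U),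
      (∀ (z : X) (hz : z ∈ q ⁻¹ᵁ U), z ∈ W ↔ GenAt L (show Γ(L, q ⁻¹ᵁ U) from σ.app U e) hz) →
      ∃ (A : Scheme.{u}) (_ : IsAffine A) (f : (W : Scheme.{u}) ⟶ A) (_ : IsImmersion f),
        ∀ a : Γ(A, ⊤), W.topIso.hom (f.appTop a) ∈ Subring.closure {a : Γ(X, W) | ∃ m : Γ(F, U),
          res L hW (show Γ(L, q ⁻¹ᵁ U) from σ.app U m) =
            a • res L hW (show Γ(L, q ⁻¹ᵁ U) from σ.app U e)}

section crit

variable {σ : F ⟶ (Scheme.Modules.pushforward q).obj L}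

/-- the morphism given by a family of sections -/
theorem domQ_eq_top_and_isImmersion_iff [Coh.IsQCoh F] [Coh.IsQCoh L] (hL : PicF.IsInvertible L)
    (hjL : RelProj.IsGrSymAlg L 𝒮L jL) {pL : PL ⟶ X}
    {chartL : ∀ (U : X.Opens) (hU : IsAffineOpen U), (((pL ⁻¹ᵁ U : PL.Opens) : Scheme.{u}) ≅ Proj (𝒮L.deg U hU))}
    (hPL : RelProj.IsRelProj 𝒮L pL chartL) (hF : RelProj.IsGrSymAlg F 𝒯 jF) {u : RelProj.QGrHom q 𝒯 𝒮L}
    (hu : ∀ (U : Y.Opens) (x : Γ(F, U)), (u.app U).hom ((jF.app U) x) = (jL.app (q ⁻¹ᵁ U)) (σ.app U x))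
    (hgen : ∀ x : X, ∃ (U : Y.Opens) (e : Γ(F, U)) (hx : x ∈ q ⁻¹ᵁ U),
      GenAt L (show Γ(L, q ⁻¹ᵁ U) from σ.app U e) hx)
    {p : P ⟶ Y} {chart : ∀ (U : Y.Opens) (hU : IsAffineOpen U), (((p ⁻¹ᵁ U : P.Opens) : Scheme.{u}) ≅ Proj (𝒯.deg U hU))}
    (hP : RelProj.IsRelProj 𝒯 p chart)
    (r : ((RelProj.domQ u pL chartL : PL.Opens) : Scheme.{u}) ⟶ P)
    (hr : RelProj.IsProjQMapOn u p chart pL chartL (RelProj.domQ u pL chartL) r) :
    RelProj.domQ u pL chartL = ⊤ ∧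
      (IsImmersion r → ∀ (U : Y.Opens), IsAffineOpen U → ∀ x ∈ q ⁻¹ᵁ U, SecAtS σ U x) ∧
      ((∀ x : X, ∃ (U : Y.Opens) (_ : IsAffineOpen U), SecAtS σ U x) → IsImmersion r) := by
  haveI := Groth.Agent.S12143.result L hL inferInstance 𝒮L jL hjL pL chartL hPL
  haveI : Epi (adjA σ) := epi_of_genAt _ fun x => by
    obtain ⟨U, e, hx, hgx⟩ := hgen x
    exact ⟨q ⁻¹ᵁ U, hx, puSec q e, genAt_congr (adjA_puSec σ e).symm hgx⟩
  have hu' := graded_of_sigma hu
  have hirr := irrelevant_le_of_epi (adjA σ) hF hjL hu'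
  obtain ⟨h', hh, hover⟩ := exists_isProjQMap u hirr hP hPL
  obtain ⟨O1, lam, hO1⟩ := GrModLib6.exists_isRelTwist hP 1
  obtain ⟨φ, hφ⟩ := exists_canonicalMap_one hP hO1 jF hF.2
  obtain ⟨hr0, hI⟩ := induces_of_isProjQMap (adjA σ) hF hjL hu' hP hL hO1 hφ hPL hh hover
  have hon : RelProj.IsProjQMapOn u p chart pL chartL (RelProj.domQ u pL chartL)
      ((RelProj.domQ u pL chartL).ι ≫ h') := fun U hU U' hU' hle d hd f hf hW => by
    rw [← Category.assoc, IsOpenImmersion.lift_fac]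
    exact hh.2 U hU U' hU' hle d hd f hf
  obtain ⟨w, -, huniq⟩ := RelConeLib.existsUnique_isProjQMapOn u hP hPL (chart := chart)
  obtain rfl : r = (RelProj.domQ u pL chartL).ι ≫ h' := (huniq r hr).trans (huniq _ hon).symm
  haveI : IsIso (RelProj.domQ u pL chartL).ι := by
    rw [hh.1]
    exact (Scheme.topIso PL).isIso_hom
  have hval : ∀ (U : Y.Opens) (m : Γ(F, U)), qVal (adjA σ) U m = (show Γ(L, q ⁻¹ᵁ U) from σ.app U m) :=
    fun U m => adjA_puSec σ m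
  refine ⟨hh.1, fun himm U hU x hx => ?_, fun hsec => ?_⟩
  · obtain ⟨τ, hτ⟩ := hI
    haveI : IsImmersion h' := by
      rw [← IsIso.inv_hom_id_assoc (RelProj.domQ u pL chartL).ι h']
      infer_instance
    obtain ⟨e, he⟩ := exists_genAt_of_induces (s := adjA σ) (hr := hr0) hO1 hF hφ ⟨τ, hτ⟩ hU hx
    refine ⟨e, hx, genAt_congr (hval U e) he, fun W hW hWe => ?_⟩
    let i := inv pL ≫ h'
    let D := bOpen p chart jF hU e
    have hWD : W ≤ i ⁻¹ᵁ D := fun z hz =>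
      (mem_bOpen_iff (hr := hr0) hO1 hF hφ τ hτ hU e (hW hz)).mpr
        (genAt_congr (hval U e).symm ((hWe z (hW hz)).mp hz))
    haveI : IsAffine (D : Scheme.{u}) :=
      (IsAffineOpen.image_of_isOpenImmersion
        (Proj.isAffineOpen_basicOpen (𝒯.deg U hU) (jS jF U e) (jS_mem hF hU e) one_pos) (RelProj.emb p chart U hU))
    refine ⟨_, inferInstance, i.resLE D W hWD, inferInstance, fun a => ?_⟩
    have h1 : W.topIso.hom ((i.resLE D W hWD).appTop a) = i.appLE D W hWD (D.topIso.hom a) := by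
      simp only [Scheme.Hom.appTop, Scheme.Hom.resLE_app_top, CommRingCat.comp_apply]
      exact CategoryTheory.Iso.inv_hom_id_apply W.topIso _
    rw [h1]
    refine Subring.closure_mono ?_
      ((range_appLE_eq_closure (hr := hr0) hO1 hF hφ τ hτ hU e hW hWD).le ⟨_, rfl⟩)
    rintro b ⟨m, hm⟩
    rw [hval, hval] at hm
    exact ⟨m, hm⟩
  · have himm : IsImmersion (inv pL ≫ h') := by
      refine isImmersion_of_local hO1 hF hφ hI fun x => ?_
      obtain ⟨U, hU, e, hx, hgx, hrest⟩ := hsec x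
      refine ⟨U, hU, e, hx, genAt_congr (hval U e).symm hgx, fun W hW hWe => ?_⟩
      simp only [ratios, hval] at hWe ⊢
      exact hrest W hW hWe
    rw [← IsIso.hom_inv_id_assoc pL h']
    infer_instance

/-- the degree one part near a point where a member of the family generates -/
theorem exists_span_of_genAt [Coh.IsQCoh L] (hL : PicF.IsInvertible L) (hjL : RelProj.IsGrSymAlg L 𝒮L jL)
    {u : RelProj.QGrHom q 𝒯 𝒮L}
    (hu : ∀ (U : Y.Opens) (x : Γ(F, U)), (u.app U).hom ((jF.app U) x) = (jL.app (q ⁻¹ᵁ U)) (σ.app U x))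
    {x : X} {U : Y.Opens} (e : Γ(F, U)) (hx : x ∈ q ⁻¹ᵁ U)
    (hg : GenAt L (show Γ(L, q ⁻¹ᵁ U) from σ.app U e) hx) :
    ∃ (V : X.Opens) (hV : IsAffineOpen V) (hVU : V ≤ q ⁻¹ᵁ U), x ∈ V ∧
      ((𝒮L.deg V hV 1 : AddSubgroup (𝒮L.presheaf.obj (op V))) : Set (𝒮L.presheaf.obj (op V))) ⊆
        (Ideal.span {(u.appLE U V hVU).hom ((jF.app U) e)} : Set (𝒮L.presheaf.obj (op V))) := by
  obtain ⟨W, hW, hWe⟩ := exists_genLocus hL (show Γ(L, q ⁻¹ᵁ U) from σ.app U e)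
  obtain ⟨V, hV, hxV, hVW⟩ := exists_isAffineOpen_mem_and_subset (X := X) (x := x) (U := W) ((hWe x hx).mpr hg)
  have hVU : V ≤ q ⁻¹ᵁ U := (show V ≤ W from hVW).trans hW
  refine ⟨V, hV, hVU, hxV, fun b hb => ?_⟩
  have hgen : GenOn L (res L hVU (show Γ(L, q ⁻¹ᵁ U) from σ.app U e)) :=
    TwistLib.genOn_of_genAt fun w hw => (AmpleLib.genAt_res hVU _ (x := w) hw).mpr
      ((hWe w (hVU hw)).mp (hVW hw))
  obtain ⟨n, rfl⟩ := exists_of_mem_one hjL V hV hb
  obtain ⟨c, hc⟩ := (hgen V le_rfl).2 n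
  dsimp only at hc
  rw [AmpleLib.res_res] at hc
  refine Ideal.mem_span_singleton'.mpr ⟨(𝒮L.str.app (op V)).hom c, ?_⟩
  rw [← hc, ← str_mul_j]
  refine congrArg ((𝒮L.str.app (op V)).hom c * ·) ?_
  show (𝒮L.presheaf.map (homOfLE hVU).op).hom ((u.app U).hom ((jF.app U) e)) = _
  rw [hu]
  exact (QCohLib.app_map jL (homOfLE hVU) _).symm

/-- conversely -/
theorem genAt_of_span [Coh.IsQCoh L] (hL : PicF.IsInvertible L) (hjL : RelProj.IsGrSymAlg L 𝒮L jL)
    {u : RelProj.QGrHom q 𝒯 𝒮L}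
    (hu : ∀ (U : Y.Opens) (x : Γ(F, U)), (u.app U).hom ((jF.app U) x) = (jL.app (q ⁻¹ᵁ U)) (σ.app U x))
    {x : X} {U : Y.Opens} (e : Γ(F, U)) {V : X.Opens} (hV : IsAffineOpen V) (hVU : V ≤ q ⁻¹ᵁ U) (hxV : x ∈ V)
    (hspan : ((𝒮L.deg V hV 1 : AddSubgroup (𝒮L.presheaf.obj (op V))) : Set (𝒮L.presheaf.obj (op V))) ⊆
        (Ideal.span {(u.appLE U V hVU).hom ((jF.app U) e)} : Set (𝒮L.presheaf.obj (op V)))) :
    GenAt L (show Γ(L, q ⁻¹ᵁ U) from σ.app U e) (hVU hxV) := by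
  classical
  letI := 𝒮L.graded V hV
  refine (AmpleLib.genAt_res hVU _ (x := x) hxV).mp ?_
  let m := res L hVU (show Γ(L, q ⁻¹ᵁ U) from σ.app U e)
  have hm : (u.appLE U V hVU).hom ((jF.app U) e) = jS jL V m := by
    show (𝒮L.presheaf.map (homOfLE hVU).op).hom ((u.app U).hom ((jF.app U) e)) = _
    rw [hu]
    exact (QCohLib.app_map jL (homOfLE hVU) _).symm
  have hdiv : ∀ n : Γ(L, V), ∃ r : Γ(X, V), n = r • m := fun n => by
    obtain ⟨c, hc⟩ := Ideal.mem_span_singleton'.mp (hspan (hjL.2 V hV n))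
    rw [hm] at hc
    obtain ⟨r, hr⟩ := exists_of_mem_zero hjL hV (SetLike.coe_mem (DirectSum.decompose (𝒮L.deg V hV) c 0))
    refine ⟨r, j_app_injective hjL.1 V ?_⟩
    show jS jL V n = jS jL V (r • m)
    rw [← str_mul_j, hr]
    have h1 := DirectSum.coe_decompose_mul_of_right_mem_of_le (𝒮L.deg V hV) (a := c)
      (show jS jL V m ∈ 𝒮L.deg V hV 1 from hjL.2 V hV m) (le_refl 1)
    rw [show 1 - 1 = 0 from rfl] at h1
    rw [← h1, show c * (show 𝒮L.presheaf.obj (op V) from (jL.app V) m) = jS jL V n from hc]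
    exact (DirectSum.decompose_of_mem_same (𝒮L.deg V hV) (show jS jL V n ∈ 𝒮L.deg V hV 1 from hjL.2 V hV n)).symm
  obtain ⟨W, g, hxW, hg⟩ := TwistLib.exists_genOn hL x
  obtain ⟨f, hfW, hxf⟩ := hV.exists_basicOpen_le (V := W) ⟨x, hxW⟩ hxV
  obtain ⟨k, t, ht⟩ := (QCohLib.localizingAt_of_isQCoh hV L f).exists_extend (res L hfW g)
  obtain ⟨r, hr⟩ := hdiv t
  have h1 : GenAt L (res L (X.basicOpen_le f) t) hxf := by
    show GenAt L (L.presheaf.map (homOfLE (X.basicOpen_le f)).op t) hxf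
    rw [ht]
    refine (AmpleLib.genAt_smul_iff _ _ hxf ((hg.res hfW).genAt hxf)).mpr ?_
    rw [Scheme.mem_basicOpen X _ x hxf, map_pow, TopCat.Presheaf.germ_res_apply]
    exact ((Scheme.mem_basicOpen X f x hxV).mp hxf).pow k
  have h2 : GenAt L (r • m) hxV := hr ▸ (AmpleLib.genAt_res (X.basicOpen_le f) t (x := x) hxf).mp h1
  have h3 := mem_basicOpen_of_genAt_smul hL r m hxV h2
  rw [Scheme.mem_basicOpen X r x hxV] at h3
  unfold GenAt at h2 ⊢
  simp only [AmpleLib.germ_smul, smul_smul] at h2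
  have h4 := h2.comp (h3.unit⁻¹).mulRight.bijective
  convert h4 using 1
  funext c
  simp only [Function.comp_apply, Units.mulRight_apply, mul_assoc, IsUnit.val_inv_mul, mul_one]
  rfl

/-- finitely many sections suffice -/
theorem exists_finite_secAtS [LocallyOfFiniteType q] [QuasiCompact q] (hL : PicF.IsInvertible L) {U : Y.Opens}
    (hU : IsAffineOpen U) {x : X} (h : SecAtS σ U x) :
    ∃ (e : Γ(F, U)) (hx : x ∈ q ⁻¹ᵁ U) (ms : Finset Γ(F, U)),
      GenAt L (show Γ(L, q ⁻¹ᵁ U) from σ.app U e) hx ∧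
      ∀ (W : X.Opens) (hW : W ≤ q ⁻¹ᵁ U),
        (∀ (z : X) (hz : z ∈ q ⁻¹ᵁ U), z ∈ W ↔ GenAt L (show Γ(L, q ⁻¹ᵁ U) from σ.app U e) hz) →
        ∃ (A : Scheme.{u}) (_ : IsAffine A) (f : (W : Scheme.{u}) ⟶ A) (_ : IsImmersion f),
          ∀ a : Γ(A, ⊤), W.topIso.hom (f.appTop a) ∈ Subring.closure (Set.range (q.appLE U W hW) ∪
            {c : Γ(X, W) | ∃ m ∈ ms, res L hW (show Γ(L, q ⁻¹ᵁ U) from σ.app U m) =
              c • res L hW (show Γ(L, q ⁻¹ᵁ U) from σ.app U e)}) := by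
  classical
  obtain ⟨e, hx, he, hrest⟩ := h
  obtain ⟨W, hW, hWe⟩ := exists_genLocus hL (show Γ(L, q ⁻¹ᵁ U) from σ.app U e)
  obtain ⟨A, hA, f, hf, hfa⟩ := hrest W hW hWe
  haveI := hA
  haveI := hf
  haveI : CompactSpace (W : Scheme.{u}) :=
    isCompact_iff_compactSpace.mp
      (isCompact_genLocus hL (q.isCompact_preimage hU.isCompact) _ hW hWe)
  haveI : IsAffine (U : Scheme.{u}) := hU
  let π := q.resLE U W hW
  obtain ⟨S, hS, hB⟩ := exists_finite_gens f π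
  let R : Set Γ(X, W) := {a | ∃ m : Γ(F, U), res L hW (show Γ(L, q ⁻¹ᵁ U) from σ.app U m) =
    a • res L hW (show Γ(L, q ⁻¹ᵁ U) from σ.app U e)}
  have hfin : ∀ s ∈ S, ∃ t : Finset Γ(X, W),
      ↑t ⊆ R ∧ W.topIso.hom s ∈ Subring.closure (t : Set Γ(X, W)) := by
    intro s hs
    obtain ⟨a, rfl⟩ := hS hs
    exact exists_finset_mem_closure (hfa a)
  choose! t ht hst using hfin
  choose! mu hmu using fun (c : Γ(X, W)) (hc : c ∈ R) => hc
  refine ⟨e, hx, (S.biUnion t).image mu, he, fun W' hW' hWe' => ?_⟩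
  obtain rfl : W' = W := SetLike.ext fun z =>
    ⟨fun hz => (hWe z (hW' hz)).mpr ((hWe' z (hW' hz)).mp hz),
      fun hz => (hWe' z (hW hz)).mpr ((hWe z (hW hz)).mp hz)⟩
  let G := Set.range (q.appLE U W' hW) ∪
    {c : Γ(X, W') | ∃ m ∈ (S.biUnion t).image mu, res L hW (show Γ(L, q ⁻¹ᵁ U) from σ.app U m) =
      c • res L hW (show Γ(L, q ⁻¹ᵁ U) from σ.app U e)}
  let B : Subring Γ(W'.toScheme, ⊤) := (Subring.closure G).comap W'.topIso.hom.hom
  haveI := hB B (fun s hs => by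
      refine (Subring.closure_mono ?_) (hst s hs)
      intro c hc
      exact Or.inr ⟨mu c, Finset.mem_image_of_mem mu (Finset.mem_biUnion.mpr ⟨s, hs, hc⟩), hmu c (ht s hs hc)⟩)
    (by
      rintro _ ⟨r, rfl⟩
      show W'.topIso.hom (π.appTop r) ∈ Subring.closure G
      refine Subring.subset_closure (Or.inl ⟨U.topIso.hom r, ?_⟩)
      simp only [π, Scheme.Hom.appTop, Scheme.Hom.resLE_app_top, CommRingCat.comp_apply]
      exact (CategoryTheory.Iso.inv_hom_id_apply _ _).symm)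
  refine ⟨_, inferInstance, toSpecSubring W'.toScheme B, inferInstance, fun a => ?_⟩
  obtain ⟨β, rfl⟩ := (ConcreteCategory.bijective_of_isIso (Scheme.ΓSpecIso (CommRingCat.of B)).inv).2 a
  rw [toSpecSubring_appTop]
  exact β.2

/-- very ampleness data cut down to a finite type submodule -/
theorem exists_ft_sub_secAtS [Coh.IsQCoh F] (hY : (CompactSpace Y ∧ Y.IsSeparated) ∨ NoetherianSpace Y)
    [QuasiCompact q] [LocallyOfFiniteType q] (hL : PicF.IsInvertible L)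
    (h : ∀ x : X, ∃ (U : Y.Opens) (_ : IsAffineOpen U), SecAtS σ U x) :
    ∃ (E : Y.Modules) (ι : E ⟶ F), Coh.IsQCoh E ∧ CohB1.IsFT E ∧
      (∀ U : Y.Opens, Function.Injective (ι.app U)) ∧
      ∀ x : X, ∃ (U : Y.Opens) (_ : IsAffineOpen U), SecAtS (ι ≫ σ) U x := by
  classical
  haveI : CompactSpace Y := by rcases hY with h | h <;> [exact h.1; exact inferInstance]
  haveI : QuasiSeparatedSpace Y := by
    rcases hY with h | h
    · haveI := h.2
      infer_instance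
    · exact ⟨fun U V _ _ _ _ => NoetherianSpace.isCompact _⟩
  haveI : CompactSpace X := QuasiCompact.compactSpace_of_compactSpace q
  choose U hU hsec using h
  choose e he ms hge hrest using fun x => exists_finite_secAtS hL (hU x) (hsec x)
  choose W hW hWe using fun x => exists_genLocus hL (show Γ(L, q ⁻¹ᵁ U x) from σ.app (U x) (e x))
  obtain ⟨t, ht⟩ := isCompact_univ.elim_finite_subcover (fun x => (W x : Set X)) (fun x => (W x).isOpen)
    (fun x _ => Set.mem_iUnion.mpr ⟨x, (hWe x x (he x)).mpr (hge x)⟩)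
  obtain ⟨S, hS, hSt⟩ := exists_ft_through_finset (F := F)
    (t.biUnion fun x => (insert (e x) (ms x)).image fun m =>
      (⟨⟨U x, hU x⟩, m⟩ : Σ V : Y.affineOpens, Γ(F, V.1)))
  have hmem : ∀ x ∈ t, ∀ m ∈ insert (e x) (ms x), S.mem (U x) m := fun x hx m hm =>
    hSt ⟨⟨U x, hU x⟩, m⟩ (Finset.mem_biUnion.mpr ⟨x, hx, Finset.mem_image_of_mem _ hm⟩)
  refine ⟨S.toModules, S.ι, QCohLib.LocSub.isQCoh_toModules S hS, QCohLib.LocSub.isFT_toModules S hS,
    S.ι_app_injective, fun y => ?_⟩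
  obtain ⟨x, hxt, hyW⟩ := Set.mem_iUnion₂.mp (ht (Set.mem_univ y))
  let e' := S.lift (e x) (hmem x hxt _ (Finset.mem_insert_self _ _))
  refine ⟨U x, hU x, e', hW x hyW, (hWe x y (hW x hyW)).mp hyW, fun W' hW' hWe' => ?_⟩
  obtain ⟨A, hA, f, hf, hfa⟩ := hrest x W' hW' hWe'
  refine ⟨A, hA, f, hf, fun a => Subring.closure_mono ?_ (hfa a)⟩
  rintro c (⟨r, rfl⟩ | ⟨m, hm, hmc⟩)
  · refine ⟨r • e', ?_⟩
    rw [QCohLib.app_smul]
    exact AmpleLib.res_smul L hW' (q.app (U x) r) _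
  · exact ⟨S.lift m (hmem x hxt _ (Finset.mem_insert_of_mem hm)), hmc⟩

/-- sections embedding the loci where they generate witness very ampleness -/
theorem isRelVeryAmple_of_secAtS [Coh.IsQCoh F] (hL : PicF.IsInvertible L)
    (h : ∀ x : X, ∃ (U : Y.Opens) (_ : IsAffineOpen U), SecAtS σ U x) : RelProj.IsRelVeryAmple q L := by
  let s : pb q F ⟶ L := adjA σ
  have hs : ∀ (U : Y.Opens) (m : Γ(F, U)), qVal s U m = (show Γ(L, q ⁻¹ᵁ U) from σ.app U m) :=
    fun U m => adjA_puSec σ m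
  haveI : Coh.IsQCoh L :=
    (LocSuppLib.isCoh_of_isFinLocFree fun x =>
      let ⟨V, h⟩ := (CohCmpLib.invertible_iff_rank_one _).1 hL x; ⟨V, 1, h⟩).1
  haveI : Epi s := epi_of_genAt _ fun x => by
    obtain ⟨U, -, e, hx, hgx, -⟩ := h x
    exact ⟨q ⁻¹ᵁ U, hx, puSec q e, genAt_congr (hs U e).symm hgx⟩
  obtain ⟨𝒜, jE, hA⟩ := exists_isGrSymAlg F
  obtain ⟨P, p, chart, hP⟩ := MiscFlat6.exists_relProj 𝒜
  obtain ⟨O1, lam, hO1⟩ := GrModLib6.exists_isRelTwist hP 1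
  obtain ⟨φ, hφ⟩ := exists_canonicalMap_one hP hO1 jE hA.2
  obtain ⟨r, hr, hI⟩ := exists_induces s hA hP hL hO1 hφ
  refine ⟨F, inferInstance, 𝒜, jE, hA, P, p, chart, hP, O1, lam, hO1, r, ?_, hr, ?_⟩
  · refine isImmersion_of_local hO1 hA hφ hI fun x => ?_
    obtain ⟨U, hU, e, hx, hgx, hrest⟩ := h x
    refine ⟨U, hU, e, hx, genAt_congr (hs U e).symm hgx, fun W hW hWe => ?_⟩
    simp only [ratios, hs] at hWe ⊢
    exact hrest W hW hWe
  · obtain ⟨τ, -⟩ := hI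
    exact ⟨τ.symm⟩

end crit

end EGA2SymLib

end
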