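import Groth.Agent.EGA2SymLib.RL
import Groth.Agent.SymGenLib.Basic
import Groth.Agent.FittLib.Generated
import Groth.Prelude.Def_Pic
import Groth.Agent.GrModLib6.RelPow

/-!
# The domain of `Proj(u)` for an invertible sheaf
-/

set_option autoImplicit false
universe u

open CategoryTheory CategoryTheory.Limits AlgebraicGeometry TopologicalSpace Opposite HomogeneousLocalization
open ConeRetrLib (Idx)
open scoped HomogeneousIdeal

noncomputable section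

namespace EGA2SymLib

variable {X : Scheme.{u}} {L : X.Modules} [Coh.IsQCoh L] {𝒮' : RelProj.QCGrAlg X} {j : L ⟶ 𝒮'.toModule}

theorem exists_trivial_generator (hL : PicF.IsInvertible L) (hj : RelProj.IsGrSymAlg L 𝒮' j) (η : X) :
    ∃ (V : X.Opens) (hV : IsAffineOpen V) (x₀ : 𝒮'.presheaf.obj (op V)), η ∈ V ∧ x₀ ∈ 𝒮'.deg V hV 1 ∧
      ∀ (d : ℕ), ∀ a ∈ 𝒮'.deg V hV d, ∃ r : Γ(X, V), a = (𝒮'.str.app (op V)).hom r * x₀ ^ d := by
  classical
  obtain ⟨U₀, hη₀, ⟨φ₀⟩⟩ := hL η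
  obtain ⟨V, hV, hη, hle⟩ := exists_isAffineOpen_mem_and_subset (X := X) (x := η) (U := U₀) hη₀
  obtain ⟨b⟩ := FittLib.nonempty_basis_of_iso L (r := 1) (φ₀ ≪≫
    ({ hom := Sigma.ι (fun _ : Fin 1 => Coh.structureModule (U₀ : Scheme.{u})) 0
       inv := Sigma.desc fun _ => 𝟙 _
       hom_inv_id := Sigma.ι_desc _ _
       inv_hom_id := Sigma.hom_ext _ _ fun i => by fin_cases i; simp } : _ ≅ FlatMod.freeMod (↑U₀) 1)) (V := V) hle
  let x₀ : 𝒮'.presheaf.obj (op V) := j.app V (b 0)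
  have hx₀ : x₀ ∈ 𝒮'.deg V hV 1 := hj.2 V hV _
  refine ⟨V, hV, x₀, hη, hx₀, fun d a ha => ?_⟩
  have hje : ∀ e : Γ(L, V), (j.app V e : 𝒮'.presheaf.obj (op V)) = (𝒮'.str.app (op V)).hom (b.repr e 0) * x₀ := by
    intro e
    conv_lhs => rw [← b.sum_repr e, Fin.sum_univ_one]
    exact (Scheme.Modules.Hom.app_smul j _ _).trans (RelSpec.QCAlg.str_smul_def _ _ _ _)
  have key : ∀ y : 𝒮'.presheaf.obj (op V), ∀ d, ∃ r : Γ(X, V),
      (DirectSum.decompose (𝒮'.deg V hV) y d : 𝒮'.presheaf.obj (op V)) = (𝒮'.str.app (op V)).hom r * x₀ ^ d := by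
    intro y
    have hy : y ∈ SymGenLib.gen 𝒮'.toQCAlg j V :=
      (SymGenLib.gen_eq_top 𝒮'.toQCAlg j hj.1 V hV).ge (Subring.mem_top y)
    induction hy using Subring.closure_induction with
    | mem y hy =>
      intro d
      rcases hy with ⟨r, rfl⟩ | ⟨e, rfl⟩
      · rcases Nat.eq_zero_or_pos d with rfl | hd
        · exact ⟨r, by rw [pow_zero, mul_one]; exact DirectSum.decompose_of_mem_same _ (𝒮'.str_mem V hV r)⟩
        · exact ⟨0, by rw [map_zero, zero_mul]; exact DirectSum.decompose_of_mem_ne _ (𝒮'.str_mem V hV r) hd.ne⟩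
      · by_cases hd : 1 = d
        · subst hd
          exact ⟨b.repr e 0, by
            rw [pow_one, ← hje]; exact DirectSum.decompose_of_mem_same (𝒮'.deg V hV) (hj.2 V hV e)⟩
        · exact ⟨0, by rw [map_zero, zero_mul]; exact DirectSum.decompose_of_mem_ne (𝒮'.deg V hV) (hj.2 V hV e) hd⟩
    | zero => exact fun d => ⟨0, by simp⟩
    | one =>
      intro d
      rcases Nat.eq_zero_or_pos d with rfl | hd
      · exact ⟨1, by rw [map_one (𝒮'.str.app (op V)).hom, pow_zero, mul_one]; exact DirectSum.decompose_of_mem_same (𝒮'.deg V hV) (i := 0) SetLike.GradedOne.one_mem⟩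
      · exact ⟨0, by rw [map_zero, zero_mul]; exact DirectSum.decompose_of_mem_ne (𝒮'.deg V hV) (i := 0) SetLike.GradedOne.one_mem hd.ne⟩
    | add y z _ _ ihy ihz =>
      intro d
      obtain ⟨r, hr⟩ := ihy d
      obtain ⟨s, hs⟩ := ihz d
      exact ⟨r + s, by rw [DirectSum.decompose_add, DirectSum.add_apply, AddMemClass.coe_add, hr, hs, map_add, add_mul]⟩
    | neg y _ ihy =>
      intro d
      obtain ⟨r, hr⟩ := ihy d
      refine ⟨-r, ?_⟩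
      rw [DirectSum.decompose_neg, DFinsupp.neg_apply, NegMemClass.coe_neg, hr, map_neg, neg_mul]
    | mul y z _ _ ihy ihz =>
      intro d
      choose r hr using ihy
      choose s hs using ihz
      rw [DirectSum.decompose_mul, DirectSum.coe_mul_apply]
      refine Finset.sum_induction _ (fun a => ∃ t : Γ(X, V), a = (𝒮'.str.app (op V)).hom t * x₀ ^ d)
        (fun a c ⟨t, ht⟩ ⟨t', ht'⟩ => ⟨t + t', by rw [ht, ht', map_add, add_mul]⟩)
        ⟨0, by simp⟩ fun ij hij => ?_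
      refine ⟨r ij.1 * s ij.2, ?_⟩
      have hsum : ij.1 + ij.2 = d := (Finset.mem_filter.mp hij).2
      rw [hr, hs, map_mul, ← hsum, pow_add]
      ring
  obtain ⟨r, hr⟩ := key a d
  exact ⟨r, (DirectSum.decompose_of_mem_same _ ha).symm.trans hr⟩

variable {PL : Scheme.{u}} {pL : PL ⟶ X}
  {chartL : ∀ (U : X.Opens) (hU : IsAffineOpen U), (((pL ⁻¹ᵁ U : PL.Opens) : Scheme.{u}) ≅ Proj (𝒮'.deg U hU))}
  (hPL : RelProj.IsRelProj 𝒮' pL chartL)

omit [Coh.IsQCoh L]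
include hPL in
theorem mem_basicOpen_of_mul {V : X.Opens} (hV : IsAffineOpen V) {z : Proj (𝒮'.deg V hV)}
    {x₀ : 𝒮'.presheaf.obj (op V)} (hx₀ : x₀ ∈ 𝒮'.deg V hV 1) {d : ℕ} (hd : 0 < d) (c : Γ(X, V))
    (hz : z ∈ Proj.basicOpen (𝒮'.deg V hV) x₀)
    (hzc : z ∈ Proj.basicOpen (𝒮'.deg V hV) ((𝒮'.str.app (op V)).hom c * x₀ ^ d)) :
    pL (RelProj.emb pL chartL V hV z) ∈ X.basicOpen c := by
  have hcd : (𝒮'.str.app (op V)).hom c * x₀ ^ d ∈ 𝒮'.deg V hV d := by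
    simpa using SetLike.mul_mem_graded (𝒮'.str_mem V hV c) (SetLike.pow_mem_graded d hx₀)
  obtain ⟨w, rfl⟩ := (Proj.opensRange_awayι (𝒮'.deg V hV) x₀ hx₀ one_pos).ge hz
  have h1 : w ∈ Proj.awayι (𝒮'.deg V hV) x₀ hx₀ one_pos ⁻¹ᵁ
      Proj.basicOpen (𝒮'.deg V hV) ((𝒮'.str.app (op V)).hom c * x₀ ^ d) := hzc
  rw [Proj.awayι_preimage_basicOpen (𝒮'.deg V hV) hx₀ one_pos hcd hd] at h1
  rw [← Scheme.Hom.comp_apply, ← Scheme.Hom.comp_apply, RelConeLib.emb_over hPL,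
    Proj.awayι_toSpecZero_assoc, ← Spec.map_comp_assoc, Scheme.Hom.comp_apply]
  change _ ∈ hV.fromSpec ⁻¹ᵁ X.basicOpen c
  rw [hV.fromSpec_preimage_basicOpen]
  refine (PrimeSpectrum.mem_basicOpen _ _).mpr fun hc => (PrimeSpectrum.mem_basicOpen _ _).mp h1 ?_
  have e : Away.isLocalizationElem hx₀ hcd =
      fromZeroRingHom (𝒮'.deg V hV) (Submonoid.powers x₀) ((𝒮'.strZero V hV).hom c) := by
    refine val_injective _ ?_
    simp only [Away.isLocalizationElem, Away.val_mk]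
    show _ = HomogeneousLocalization.val (HomogeneousLocalization.mk
      ⟨0, (𝒮'.strZero V hV).hom c, (1 : 𝒮'.deg V hV 0), one_mem _⟩)
    rw [HomogeneousLocalization.val_mk, Localization.mk_eq_mk_iff, Localization.r_iff_exists]
    exact ⟨1, by simp [mul_comm]; rfl⟩
  rw [e]
  exact hc

variable [Coh.IsQCoh L] {Y P : Scheme.{u}} {q : X ⟶ Y} {𝒮 : RelProj.QCGrAlg Y} {u : RelProj.QGrHom q 𝒮 𝒮'}
  {p : P ⟶ Y}
  {chart : ∀ (U : Y.Opens) (hU : IsAffineOpen U), (((p ⁻¹ᵁ U : P.Opens) : Scheme.{u}) ≅ Proj (𝒮.deg U hU))}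
  {r : ((RelProj.domQ u pL chartL : PL.Opens) : Scheme.{u}) ⟶ P}

/-- the union of the affine opens on which the degree `d` part is generated by the image of `f` -/
def goodOpen (u : RelProj.QGrHom q 𝒮 𝒮') (d : ℕ) (f : 𝒮.presheaf.obj (op ⊤)) : X.Opens :=
  ⨆ V : {V : X.affineOpens //
    ((𝒮'.deg V.1 V.2 d : AddSubgroup (𝒮'.presheaf.obj (op (V.1 : X.Opens)))) : Set (𝒮'.presheaf.obj (op (V.1 : X.Opens)))) ⊆
      (Ideal.span {(u.appLE ⊤ (V.1 : X.Opens) (le_top.trans (Scheme.Hom.preimage_top q).ge)).hom f} :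
        Set (𝒮'.presheaf.obj (op (V.1 : X.Opens))))}, (V.1.1 : X.Opens)

theorem preimage_eq (hL : PicF.IsInvertible L) (hj : RelProj.IsGrSymAlg L 𝒮' j)
    (hP : RelProj.IsRelProj 𝒮 p chart) (hPL : RelProj.IsRelProj 𝒮' pL chartL)
    (hr : RelProj.IsProjQMapOn u p chart pL chartL (RelProj.domQ u pL chartL) r)
    (hY : IsAffineOpen (⊤ : Y.Opens)) (d : ℕ) (hd : 0 < d) (f : 𝒮.presheaf.obj (op ⊤))
    (hf : f ∈ 𝒮.deg ⊤ hY d) :
    (RelProj.domQ u pL chartL).ι ''ᵁ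
        (r ⁻¹ᵁ ((RelProj.emb p chart ⊤ hY) ''ᵁ Proj.basicOpen (𝒮.deg ⊤ hY) f)) =
      pL ⁻¹ᵁ goodOpen u d f := by
  ext y
  constructor
  · rintro ⟨x, hx, rfl⟩
    obtain ⟨V₀, hV₀, x₀, hxV₀, hx₀, hgen⟩ := exists_trivial_generator hL hj (pL x.1)
    obtain ⟨V, hV, hle, hVV₀, w, hw⟩ := exists_chart_point hr hP hPL x hY trivial (O := V₀) hxV₀
    replace hx : r x ∈ RelProj.emb p chart ⊤ hY ''ᵁ Proj.basicOpen (𝒮.deg ⊤ hY) f := hx
    let W₀ : RelConeLib.Pair q := ⟨⊤, hY, V₀, hV₀, le_top.trans (Scheme.Hom.preimage_top q).ge⟩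
    have hxr : x ∈ (RelConeLib.qEmb u (chart' := chartL) W₀).opensRange := by
      rw [RelConeLib.qEmb_opensRange u hPL]
      exact hxV₀
    obtain ⟨w₀, rfl⟩ := hxr
    have hz := (qEmb_mem_iff hr W₀ w₀ hd hf).mp hx
    obtain ⟨c, hc⟩ := hgen d _ ((W₀.hom u).map_mem hf)
    replace hz : w₀.1 ∈ Proj.basicOpen (𝒮'.deg V₀ hV₀) ((𝒮'.str.app (op V₀)).hom c * x₀ ^ d) :=
      Eq.ndrec (motive := fun e => w₀.1 ∈ Proj.basicOpen (𝒮'.deg V₀ hV₀) e) hz hc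
    have hzx : w₀.1 ∈ Proj.basicOpen (𝒮'.deg V₀ hV₀) x₀ := by
      rw [Proj.basicOpen_mul] at hz
      exact (Proj.basicOpen_pow (𝒮'.deg V₀ hV₀) x₀ d hd).le hz.2
    have hy : pL ((RelProj.domQ u pL chartL).ι (RelConeLib.qEmb u (chart' := chartL) W₀ w₀)) ∈ X.basicOpen c := by
      rw [← Scheme.Hom.comp_apply (RelConeLib.qEmb u (chart' := chartL) W₀), RelConeLib.qEmb_ι]
      exact mem_basicOpen_of_mul hPL hV₀ hx₀ hd c hzx hz
    refine Opens.mem_iSup.mpr ⟨⟨⟨X.basicOpen c, hV₀.basicOpen c⟩, fun a ha => ?_⟩, hy⟩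
    let _inst := (𝒮'.presheaf.map (homOfLE (X.basicOpen_le c)).op).hom.toAlgebra
    have hloc : IsLocalization.Away ((𝒮'.str.app (op V₀)).hom c) (𝒮'.presheaf.obj (op (X.basicOpen c))) :=
      𝒮'.isQC V₀ hV₀ c
    let res := (𝒮'.presheaf.map (homOfLE (X.basicOpen_le c)).op).hom
    have hcu : IsUnit (res ((𝒮'.str.app (op V₀)).hom c)) := IsLocalization.Away.algebraMap_isUnit _
    obtain ⟨⟨b, _, k, rfl⟩, hbk⟩ := IsLocalization.surj (Submonoid.powers ((𝒮'.str.app (op V₀)).hom c)) a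
    have hbk' : a * res ((𝒮'.str.app (op V₀)).hom c) ^ k = res b := by rw [← map_pow]; exact hbk
    have hd2 : res ((DirectSum.decompose (𝒮'.deg V₀ hV₀) b d : 𝒮'.presheaf.obj (op V₀))) =
        a * res ((𝒮'.str.app (op V₀)).hom c) ^ k := by
      have e1 := GradedRingHom.map_directSumDecompose (𝒜 := 𝒮'.deg V₀ hV₀)
        (ℬ := 𝒮'.deg _ (hV₀.basicOpen c)) (𝒮'.res hV₀ (hV₀.basicOpen c) (X.basicOpen_le c)) (x := b) (i := d)
      refine e1.trans ?_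
      show (DirectSum.decompose (𝒮'.deg _ (hV₀.basicOpen c)) (res b) d : 𝒮'.presheaf.obj (op (X.basicOpen c))) = _
      rw [← hbk']
      refine DirectSum.decompose_of_mem_same _ ?_
      simpa using SetLike.mul_mem_graded (A := 𝒮'.deg _ (hV₀.basicOpen c)) ha
        (SetLike.pow_mem_graded (A := 𝒮'.deg _ (hV₀.basicOpen c)) k
          (𝒮'.map_mem hV₀ (hV₀.basicOpen c) (X.basicOpen_le c) (𝒮'.str_mem V₀ hV₀ c)))
    obtain ⟨t, ht⟩ := hgen d _ (SetLike.coe_mem (DirectSum.decompose (𝒮'.deg V₀ hV₀) b d))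
    have huf : (u.appLE ⊤ (X.basicOpen c) (le_top.trans (Scheme.Hom.preimage_top q).ge)).hom f =
        res ((𝒮'.str.app (op V₀)).hom c) * res x₀ ^ d := by
      rw [← map_pow, ← map_mul, ← hc]
      exact (congrArg (fun φ => φ.hom f) (u.toQHom.appLE_map W₀.le (X.basicOpen_le c))).symm
    rw [SetLike.mem_coe, Ideal.mem_span_singleton', huf]
    obtain ⟨v, hv⟩ := hcu
    rw [ht, map_mul, map_pow, ← hv] at hd2
    rw [← hv]
    refine ⟨res ((𝒮'.str.app (op V₀)).hom t) * ((v ^ k)⁻¹ : _ˣ) * (v⁻¹ : _ˣ), ?_⟩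
    calc res ((𝒮'.str.app (op V₀)).hom t) * ↑(v ^ k)⁻¹ * ↑v⁻¹ * (↑v * res x₀ ^ d)
        = (res ((𝒮'.str.app (op V₀)).hom t) * res x₀ ^ d) * ↑(v ^ k)⁻¹ * (↑v⁻¹ * ↑v) := by ring
      _ = a * (↑(v ^ k) * ↑(v ^ k)⁻¹) * (↑v⁻¹ * ↑v) := by rw [hd2, Units.val_pow_eq_pow_val]; ring
      _ = a := by rw [Units.mul_inv, Units.inv_mul, mul_one, mul_one]
  · intro hy
    obtain ⟨⟨⟨V, (hV : IsAffineOpen V)⟩, hVgen⟩, hyV⟩ := Opens.mem_iSup.mp hy
    obtain ⟨z, rfl⟩ := RelConeLib.exists_emb_eq (chart := chartL) hV y hyV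
    obtain ⟨a, ha, hza⟩ := GrTwistLib.exists_basicOpen_of_genDegOne _ (SymGenLib.isGenDegOne hj V hV) z
    have hle : V ≤ q ⁻¹ᵁ ⊤ := le_top.trans (Scheme.Hom.preimage_top q).ge
    have hzf : z ∈ Proj.basicOpen (𝒮'.deg V hV) (u.gradedAt ⊤ hY V hV hle f) := by
      have hpow : a ^ d ∈ 𝒮'.deg V hV d := by simpa using SetLike.pow_mem_graded d ha
      obtain ⟨t, ht⟩ := Ideal.mem_span_singleton'.mp (hVgen hpow)
      refine (Proj.mem_basicOpen _ _ z).mpr fun hmem => (Proj.mem_basicOpen _ _ z).mp hza ?_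
      refine z.isPrime.mem_of_pow_mem d ?_
      rw [← ht]
      exact Ideal.mul_mem_left _ t hmem
    have hzd : z ∈ RelCone.domOpen (u.gradedAt ⊤ hY V hV hle) :=
      (RelConeLib.mem_domOpen_iff _ z).mpr ⟨⟨d, f, hd, hf⟩, hzf⟩
    refine ⟨RelConeLib.qEmb u (chart' := chartL) ⟨⊤, hY, V, hV, hle⟩ ⟨z, hzd⟩, ?_, ?_⟩
    · exact (qEmb_mem_iff hr ⟨⊤, hY, V, hV, hle⟩ ⟨z, hzd⟩ hd hf).mpr hzf
    · exact congr($(RelConeLib.qEmb_ι u (chart' := chartL) ⟨⊤, hY, V, hV, hle⟩) ⟨z, hzd⟩)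

end EGA2SymLib

end
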