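import Mathlib
import Groth.Agent.EGA2SymLib.Line
import Groth.Agent.EGA2SymLib.Colim

/-!
# The image of a section generates where its chart is hit
-/

set_option autoImplicit false
universe u

open CategoryTheory CategoryTheory.Limits AlgebraicGeometry TopologicalSpace Opposite HomogeneousLocalization
open scoped HomogeneousIdeal

noncomputable section

namespace EGA2SymLib

variable {X : Scheme.{u}} {L : X.Modules} [Coh.IsQCoh L] {𝒮' : RelProj.QCGrAlg X} {j : L ⟶ 𝒮'.toModule}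

theorem exists_trivial_generator_le (hL : PicF.IsInvertible L) (hj : RelProj.IsGrSymAlg L 𝒮' j) {O : X.Opens}
    {η : X} (hη : η ∈ O) :
    ∃ (V : X.Opens) (hV : IsAffineOpen V) (_ : V ≤ O) (x₀ : 𝒮'.presheaf.obj (op V)), η ∈ V ∧ x₀ ∈ 𝒮'.deg V hV 1 ∧
      ∀ (d : ℕ), ∀ a ∈ 𝒮'.deg V hV d, ∃ r : Γ(X, V), a = (𝒮'.str.app (op V)).hom r * x₀ ^ d := by
  obtain ⟨V₀, hV₀, x₀, hη₀, hx₀, hgen⟩ := exists_trivial_generator hL hj η
  obtain ⟨h, hhO, hηh⟩ := hV₀.exists_basicOpen_le (V := O) ⟨η, hη⟩ hη₀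
  let res := (𝒮'.presheaf.map (homOfLE (X.basicOpen_le h)).op).hom
  refine ⟨X.basicOpen h, hV₀.basicOpen h, hhO, res x₀, hηh,
    𝒮'.map_mem hV₀ (hV₀.basicOpen h) (X.basicOpen_le h) hx₀, fun d a ha => ?_⟩
  let _inst := (𝒮'.presheaf.map (homOfLE (X.basicOpen_le h)).op).hom.toAlgebra
  have hloc : IsLocalization.Away ((𝒮'.str.app (op V₀)).hom h) (𝒮'.presheaf.obj (op (X.basicOpen h))) :=
    𝒮'.isQC V₀ hV₀ h
  obtain ⟨⟨b, _, k, rfl⟩, hbk⟩ := IsLocalization.surj (Submonoid.powers ((𝒮'.str.app (op V₀)).hom h)) a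
  have hbk' : a * res ((𝒮'.str.app (op V₀)).hom h) ^ k = res b := by rw [← map_pow]; exact hbk
  have hd2 : res ((DirectSum.decompose (𝒮'.deg V₀ hV₀) b d : 𝒮'.presheaf.obj (op V₀))) =
      a * res ((𝒮'.str.app (op V₀)).hom h) ^ k := by
    have e1 := GradedRingHom.map_directSumDecompose (𝒜 := 𝒮'.deg V₀ hV₀)
      (ℬ := 𝒮'.deg _ (hV₀.basicOpen h)) (𝒮'.res hV₀ (hV₀.basicOpen h) (X.basicOpen_le h)) (x := b) (i := d)
    refine e1.trans ?_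
    show (DirectSum.decompose (𝒮'.deg _ (hV₀.basicOpen h)) (res b) d : 𝒮'.presheaf.obj (op (X.basicOpen h))) = _
    rw [← hbk']
    refine DirectSum.decompose_of_mem_same _ ?_
    simpa using SetLike.mul_mem_graded (A := 𝒮'.deg _ (hV₀.basicOpen h)) ha
      (SetLike.pow_mem_graded (A := 𝒮'.deg _ (hV₀.basicOpen h)) k
        (𝒮'.map_mem hV₀ (hV₀.basicOpen h) (X.basicOpen_le h) (𝒮'.str_mem V₀ hV₀ h)))
  obtain ⟨t, ht⟩ := hgen d _ (SetLike.coe_mem (DirectSum.decompose (𝒮'.deg V₀ hV₀) b d))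
  have hs : ∀ c : Γ(X, V₀), res ((𝒮'.str.app (op V₀)).hom c) =
      (𝒮'.str.app (op (X.basicOpen h))).hom ((X.presheaf.map (homOfLE (X.basicOpen_le h)).op).hom c) := fun c =>
    (congr($(𝒮'.str.naturality (homOfLE (X.basicOpen_le h)).op) c)).symm
  obtain ⟨v, hv⟩ := (show IsUnit ((X.presheaf.map (homOfLE (X.basicOpen_le h)).op).hom h ^ k) from
    (X.toRingedSpace.isUnit_res_basicOpen h).pow k)
  refine ⟨(X.presheaf.map (homOfLE (X.basicOpen_le h)).op).hom t * (v⁻¹ : _ˣ), ?_⟩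
  have hvs : (𝒮'.str.app (op (X.basicOpen h))).hom ↑v = res ((𝒮'.str.app (op V₀)).hom h) ^ k := by
    rw [hs, ← map_pow]
    exact congrArg _ hv
  rw [ht, map_mul, map_pow, hs, hs] at hd2
  rw [map_mul]
  calc a = a * (𝒮'.str.app (op (X.basicOpen h))).hom (↑v * ↑v⁻¹) := by rw [Units.mul_inv, map_one, mul_one]
    _ = (a * res ((𝒮'.str.app (op V₀)).hom h) ^ k) * (𝒮'.str.app (op (X.basicOpen h))).hom ↑v⁻¹ := by
      rw [map_mul, hvs, mul_assoc]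
    _ = _ := by rw [hs h, ← hd2]; ring

variable {PL : Scheme.{u}} {pL : PL ⟶ X}
  {chartL : ∀ (U : X.Opens) (hU : IsAffineOpen U), (((pL ⁻¹ᵁ U : PL.Opens) : Scheme.{u}) ≅ Proj (𝒮'.deg U hU))}
  {Y P : Scheme.{u}} {q : X ⟶ Y} {𝒮 : RelProj.QCGrAlg Y} {u : RelProj.QGrHom q 𝒮 𝒮'}
  {p : P ⟶ Y}
  {chart : ∀ (U : Y.Opens) (hU : IsAffineOpen U), (((p ⁻¹ᵁ U : P.Opens) : Scheme.{u}) ≅ Proj (𝒮.deg U hU))}
  {r : ((RelProj.domQ u pL chartL : PL.Opens) : Scheme.{u}) ⟶ P}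

/-- where the chart of a section is hit, its image generates the part of its degree -/
theorem exists_span_of_mem_gOpen (hL : PicF.IsInvertible L) (hj : RelProj.IsGrSymAlg L 𝒮' j)
    (hP : RelProj.IsRelProj 𝒮 p chart) (hPL : RelProj.IsRelProj 𝒮' pL chartL)
    (hr : RelProj.IsProjQMapOn u p chart pL chartL (RelProj.domQ u pL chartL) r)
    {U : Y.Opens} (hU : IsAffineOpen U) {d : ℕ} (hd : 0 < d) {f : 𝒮.presheaf.obj (op U)}
    (hf : f ∈ 𝒮.deg U hU d) (x : (RelProj.domQ u pL chartL : Scheme.{u})) (hx : r x ∈ gOpen p chart U hU f) :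
    ∃ (V : X.Opens) (hV : IsAffineOpen V) (hle : V ≤ q ⁻¹ᵁ U),
      pL ((RelProj.domQ u pL chartL).ι x) ∈ V ∧
      ((𝒮'.deg V hV d : AddSubgroup (𝒮'.presheaf.obj (op V))) : Set (𝒮'.presheaf.obj (op V))) ⊆
        (Ideal.span {(u.appLE U V hle).hom f} : Set (𝒮'.presheaf.obj (op V))) := by
  have hxU : pL x.1 ∈ q ⁻¹ᵁ U := by
    have h := congr($(RelConeLib.qMap_over u hP hPL hr) x)
    rw [Scheme.Hom.comp_apply, Scheme.Hom.comp_apply, Scheme.Hom.comp_apply] at h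
    show q (pL x.1) ∈ U
    rw [← show p (r x) = q (pL x.1) from h]
    obtain ⟨t, -, ht⟩ := hx
    rw [← ht]
    exact RelConeLib.mem_of_emb t
  obtain ⟨V₀, hV₀, hV₀U, x₀, hxV₀, hx₀, hgen⟩ := exists_trivial_generator_le hL hj (O := q ⁻¹ᵁ U) hxU
  let W₀ : RelConeLib.Pair q := ⟨U, hU, V₀, hV₀, hV₀U⟩
  have hxr : x ∈ (RelConeLib.qEmb u (chart' := chartL) W₀).opensRange := by
    rw [RelConeLib.qEmb_opensRange u hPL]
    exact hxV₀
  obtain ⟨w₀, rfl⟩ := hxr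
  have hz := (qEmb_mem_iff hr W₀ w₀ hd hf).mp hx
  obtain ⟨c, hc⟩ := hgen d _ ((W₀.hom u).map_mem hf)
  replace hz : w₀.1 ∈ Proj.basicOpen (𝒮'.deg V₀ hV₀) ((𝒮'.str.app (op V₀)).hom c * x₀ ^ d) :=
    Eq.ndrec (motive := fun e => w₀.1 ∈ Proj.basicOpen (𝒮'.deg V₀ hV₀) e) hz hc
  have hzx : w₀.1 ∈ Proj.basicOpen (𝒮'.deg V₀ hV₀) x₀ := by
    rw [Proj.basicOpen_mul] at hz
    exact (Proj.basicOpen_pow (𝒮'.deg V₀ hV₀) x₀ d hd).le hz.2
  have hy : pL ((RelProj.domQ u pL chartL).ι (RelConeLib.qEmb u (chart' := chartL) W₀ w₀)) ∈ X.basicOpen c := by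
    rw [← Scheme.Hom.comp_apply (RelConeLib.qEmb u (chart' := chartL) W₀), RelConeLib.qEmb_ι]
    exact mem_basicOpen_of_mul hPL hV₀ hx₀ hd c hzx hz
  refine ⟨X.basicOpen c, hV₀.basicOpen c, (X.basicOpen_le c).trans hV₀U, hy, fun a ha => ?_⟩
  let _inst := (𝒮'.presheaf.map (homOfLE (X.basicOpen_le c)).op).hom.toAlgebra
  have hloc : IsLocalization.Away ((𝒮'.str.app (op V₀)).hom c) (𝒮'.presheaf.obj (op (X.basicOpen c))) :=
    𝒮'.isQC V₀ hV₀ c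
  let res := (𝒮'.presheaf.map (homOfLE (X.basicOpen_le c)).op).hom
  have hcu : IsUnit (res ((𝒮'.str.app (op V₀)).hom c)) := IsLocalization.Away.algebraMap_isUnit _
  obtain ⟨⟨b, _, k, rfl⟩, hbk⟩ := IsLocalization.surj (Submonoid.powers ((𝒮'.str.app (op V₀)).hom c)) a
  have hbk' : a * res ((𝒮'.str.app (op V₀)).hom c) ^ k = res b := by rw [← map_pow]; exact hbk
  have hd2 : res ((DirectSum.decompose (𝒮'.deg V₀ hV₀) b d : 𝒮'.presheaf.obj (op V₀))) =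
      a * res ((𝒮'.str.app (op V₀)).hom c) ^ k := by
    have e1 := GradedRingHom.map_directSumDecompose (𝒜 := 𝒮'.deg V₀ hV₀)
      (ℬ := 𝒮'.deg _ (hV₀.basicOpen c)) (𝒮'.res hV₀ (hV₀.basicOpen c) (X.basicOpen_le c)) (x := b) (i := d)
    refine e1.trans ?_
    show (DirectSum.decompose (𝒮'.deg _ (hV₀.basicOpen c)) (res b) d : 𝒮'.presheaf.obj (op (X.basicOpen c))) = _
    rw [← hbk']
    refine DirectSum.decompose_of_mem_same _ ?_
    simpa using SetLike.mul_mem_graded (A := 𝒮'.deg _ (hV₀.basicOpen c)) ha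
      (SetLike.pow_mem_graded (A := 𝒮'.deg _ (hV₀.basicOpen c)) k
        (𝒮'.map_mem hV₀ (hV₀.basicOpen c) (X.basicOpen_le c) (𝒮'.str_mem V₀ hV₀ c)))
  obtain ⟨t, ht⟩ := hgen d _ (SetLike.coe_mem (DirectSum.decompose (𝒮'.deg V₀ hV₀) b d))
  have huf : (u.appLE U (X.basicOpen c) ((X.basicOpen_le c).trans hV₀U)).hom f =
      res ((𝒮'.str.app (op V₀)).hom c) * res x₀ ^ d := by
    rw [← map_pow, ← map_mul, ← hc]
    exact (congrArg (fun φ => φ.hom f) (u.toQHom.appLE_map W₀.le (X.basicOpen_le c))).symm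
  rw [SetLike.mem_coe, Ideal.mem_span_singleton', huf]
  obtain ⟨v, hv⟩ := hcu
  rw [ht, map_mul, map_pow, ← hv] at hd2
  rw [← hv]
  refine ⟨res ((𝒮'.str.app (op V₀)).hom t) * ((v ^ k)⁻¹ : _ˣ) * (v⁻¹ : _ˣ), ?_⟩
  calc res ((𝒮'.str.app (op V₀)).hom t) * ↑(v ^ k)⁻¹ * ↑v⁻¹ * (↑v * res x₀ ^ d)
      = (res ((𝒮'.str.app (op V₀)).hom t) * res x₀ ^ d) * ↑(v ^ k)⁻¹ * (↑v⁻¹ * ↑v) := by ring
    _ = a * (↑(v ^ k) * ↑(v ^ k)⁻¹) * (↑v⁻¹ * ↑v) := by rw [hd2, Units.val_pow_eq_pow_val]; ring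
    _ = a := by rw [Units.mul_inv, Units.inv_mul, mul_one, mul_one]
end EGA2SymLib

end
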