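import Mathlib
import Groth.Agent.EGA2SymLib.RLCrit
import Groth.Agent.EGA2SymLib.DegPart
import Groth.Agent.EGA2SymLib.SpanLocus
import Groth.Agent.AmpleThLib.Ample

/-!
# The homogeneous parts of the symmetric algebra of an invertible sheaf are its tensor powers
-/

set_option autoImplicit false
universe u

open CategoryTheory CategoryTheory.Limits AlgebraicGeometry TopologicalSpace Opposite
open AmpleLib (res GenOn GenAt shT)
open AmpleThLib (pS rX mul tensorPow_isInvertible)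

noncomputable section

namespace EGA2SymLib

variable {X : Scheme.{u}} {L : X.Modules}

/-- the value of a morphism into an algebra, in the ring of sections -/
abbrev sV {𝒮L : RelProj.QCGrAlg X} {M : X.Modules} (φ : M ⟶ 𝒮L.toModule) (W : X.Opens) (a : Γ(M, W)) :
    𝒮L.presheaf.obj (op W) := φ.app W a

variable {𝒮L : RelProj.QCGrAlg X} {jL : L ⟶ 𝒮L.toModule}

theorem sV_res {M : X.Modules} (φ : M ⟶ 𝒮L.toModule) {V W : X.Opens} (h : V ≤ W) (a : Γ(M, W)) :
    sV φ V (res M h a) = (𝒮L.presheaf.map (homOfLE h).op).hom (sV φ W a) :=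
  QCohLib.app_map φ (homOfLE h) a

theorem sV_smul {M : X.Modules} (φ : M ⟶ 𝒮L.toModule) (W : X.Opens) (r : Γ(X, W)) (a : Γ(M, W)) :
    sV φ W (r • a) = (𝒮L.str.app (op W)).hom r * sV φ W a :=
  QCohLib.app_smul φ W r a

theorem sV_ext {V : X.Opens} {a b : 𝒮L.presheaf.obj (op V)}
    (h : ∀ x ∈ V, ∃ (W : X.Opens) (hW : W ≤ V), x ∈ W ∧
      (𝒮L.presheaf.map (homOfLE hW).op).hom a = (𝒮L.presheaf.map (homOfLE hW).op).hom b) : a = b := by
  refine TopCat.Presheaf.section_ext ⟨𝒮L.toModule.presheaf, 𝒮L.toModule.isSheaf⟩ V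
    (show Γ(𝒮L.toModule, V) from a) (show Γ(𝒮L.toModule, V) from b) fun x hx => ?_
  obtain ⟨W, hW, hxW, e⟩ := h x hx
  have h2 := congrArg (𝒮L.toModule.presheaf.germ W x hxW)
    (show 𝒮L.toModule.presheaf.map (homOfLE hW).op (show Γ(𝒮L.toModule, V) from a) =
      𝒮L.toModule.presheaf.map (homOfLE hW).op (show Γ(𝒮L.toModule, V) from b) from e)
  simp only [TopCat.Presheaf.germ_res_apply] at h2
  exact h2

variable [Coh.IsQCoh L]

/-- the powers of a local generator are free -/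
theorem eq_zero_of_str_mul_pow (hj : RelProj.IsGrSymAlg L 𝒮L jL) {V : X.Opens} (hV : IsAffineOpen V)
    {e : Γ(L, V)} (he : GenOn L e) (k : ℕ) {c : Γ(X, V)}
    (h : (𝒮L.str.app (op V)).hom c * jS jL V e ^ k = 0) : c = 0 := by
  obtain ⟨ψ, hψ, -⟩ := hj.1 (SymAlgLib.symAlg L) (SymAlgLib.symι L)
  let U : X.AffineZariskiSite := ⟨V, hV⟩
  have hb : Function.Bijective (LinearMap.toSpanSingleton Γ(X, V) Γ(L, V) e) := by
    have h1 := he V le_rfl
    simp only [AmpleLib.res_refl] at h1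
    exact h1
  let b : Γ(X, V) ≃ₗ[Γ(X, V)] Γ(L, V) := LinearEquiv.ofBijective _ hb
  let f : Γ(L, V) →ₗ[Γ(X, V)] Polynomial Γ(X, V) :=
    (LinearMap.toSpanSingleton Γ(X, V) (Polynomial Γ(X, V)) Polynomial.X) ∘ₗ b.symm.toLinearMap
  have hfe : f e = Polynomial.X := by
    have : b.symm e = 1 := b.injective (by rw [b.apply_symm_apply]; exact (one_smul _ e).symm)
    simp [f, this]
  have h1 : (ψ.hom.app (op V)).hom (jS jL V e) =
      SymAlgLib.gi L U (SymmetricAlgebra.ι Γ(X, V) Γ(L, V) e) := by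
    refine Eq.trans ?_ (SymAlgLib.symι_app L U e)
    exact congr($(hψ).app V e)
  have h2 := congrArg (ψ.hom.app (op V)).hom h
  rw [map_mul, map_pow, map_zero, h1, show (ψ.hom.app (op V)).hom ((𝒮L.str.app (op V)).hom c) =
    ((SymAlgLib.symAlg L).str.app (op V)).hom c from congr($(NatTrans.congr_app ψ.comm (op V)) c)] at h2
  have h2' : SymAlgLib.gi L U (algebraMap _ _ c * SymmetricAlgebra.ι Γ(X, V) Γ(L, V) e ^ k) = 0 := by
    rw [map_mul, map_pow]
    refine Eq.trans ?_ h2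
    congr 1
    exact SymAlgLib.gi_algebraMap L U c
  have h3 : algebraMap Γ(X, V) (SymmetricAlgebra Γ(X, V) Γ(L, V)) c *
      SymmetricAlgebra.ι Γ(X, V) Γ(L, V) e ^ k = 0 := by
    have := congrArg (SymAlgLib.gamma L U) h2'
    rwa [gamma_gi, map_zero] at this
  have h4 := congrArg (SymmetricAlgebra.lift f) h3
  simp only [map_mul, map_pow, map_zero, AlgHom.commutes, SymmetricAlgebra.lift_ι_apply, hfe] at h4
  have h5 := congrArg (fun P => Polynomial.coeff P k) h4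
  simpa [Polynomial.coeff_C_mul] using h5

/-- the multiplication `L^k → 𝒮L` -/
theorem exists_powMap (hL : PicF.IsInvertible L) (jL : L ⟶ 𝒮L.toModule) (k : ℕ) :
    ∃ φ : CohB1.tensorPow L k ⟶ 𝒮L.toModule,
      ∀ a : AmpleThLib.Gens L, sV φ a.1 (pS a.2.1 k) = jS jL a.1 a.2.1 ^ k := by
  refine TwistLib.exists_hom_of_gens (fun a : AmpleThLib.Gens L => a.1) (fun a => pS a.2.1 k)
    (fun a => (show Γ(𝒮L.toModule, a.1) from jS jL a.1 a.2.1 ^ k))
    (AmpleThLib.gens_cover hL) (fun a => AmpleThLib.pS_genOn a.2.2 k) fun a b V ha hb c h => ?_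
  obtain ⟨w, hw⟩ := (a.2.2 V ha).2 (res L hb b.2.1)
  dsimp only at hw
  have hc : c = w ^ k := by
    refine ((AmpleThLib.pS_genOn a.2.2 k) V ha).1 ?_
    dsimp only
    rw [h, AmpleThLib.pS_res, AmpleThLib.pS_res, ← hw, AmpleThLib.pS_smul]
  show (𝒮L.str.app (op V)).hom c * (𝒮L.presheaf.map (homOfLE ha).op).hom (jS jL a.1 a.2.1 ^ k) =
    (𝒮L.presheaf.map (homOfLE hb).op).hom (jS jL b.1 b.2.1 ^ k)
  rw [map_pow, map_pow, hc, map_pow, ← mul_pow]
  congr 1
  rw [← show jS jL V (res L ha a.2.1) = _ from sV_res jL ha a.2.1,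
    ← show jS jL V (res L hb b.2.1) = _ from sV_res jL hb b.2.1, ← hw, str_mul_j]

variable (hL : PicF.IsInvertible L)

/-- `L^k → 𝒮L` -/
def powMap (jL : L ⟶ 𝒮L.toModule) (k : ℕ) : CohB1.tensorPow L k ⟶ 𝒮L.toModule :=
  (exists_powMap hL jL k).choose

theorem powMap_gen {V : X.Opens} {e : Γ(L, V)} (he : GenOn L e) (k : ℕ) :
    sV (powMap hL jL k) V (pS e k) = jS jL V e ^ k :=
  (exists_powMap hL jL k).choose_spec ⟨V, e, he⟩

theorem powMap_coeff {V : X.Opens} {e : Γ(L, V)} (he : GenOn L e) (k : ℕ) (c : Γ(X, V)) :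
    sV (powMap hL jL k) V (c • pS e k) = (𝒮L.str.app (op V)).hom c * jS jL V e ^ k := by
  rw [sV_smul, powMap_gen hL he]

theorem powMap_mul {m n : ℕ} {W : X.Opens} (σ : Γ(CohB1.tensorPow L m, W)) (τ : Γ(CohB1.tensorPow L n, W)) :
    sV (powMap hL jL (m + n)) W (mul hL σ τ) = sV (powMap hL jL m) W σ * sV (powMap hL jL n) W τ := by
  refine sV_ext fun x hx => ?_
  obtain ⟨U, e, hxU, he⟩ := TwistLib.exists_genOn hL x
  let V := W ⊓ U
  have hV : GenOn L (res L (inf_le_right : V ≤ U) e) := he.res _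
  obtain ⟨r, hr⟩ := (AmpleThLib.pS_genOn hV m V le_rfl).2 (res _ inf_le_left σ)
  obtain ⟨s, hs⟩ := (AmpleThLib.pS_genOn hV n V le_rfl).2 (res _ inf_le_left τ)
  simp only [AmpleLib.res_refl] at hr hs
  refine ⟨V, inf_le_left, ⟨hx, hxU⟩, ?_⟩
  rw [map_mul, ← sV_res, ← sV_res, ← sV_res, AmpleThLib.mul_res, ← hr, ← hs,
    AmpleThLib.mul_coeff hL hV, powMap_coeff hL hV, powMap_coeff hL hV, powMap_coeff hL hV, map_mul,
    pow_add]
  ring

omit hL in
theorem degMem_pow_gen (hj : RelProj.IsGrSymAlg L 𝒮L jL) {V : X.Opens} (hV : IsAffineOpen V) (e : Γ(L, V))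
    (k : ℕ) (c : Γ(X, V)) : (𝒮L.str.app (op V)).hom c * jS jL V e ^ k ∈ 𝒮L.deg V hV k := by
  simpa using SetLike.mul_mem_graded (𝒮L.str_mem V hV c) (SetLike.pow_mem_graded k (hj.2 V hV e))

/-- values of powers are homogeneous -/
theorem powMap_degMem (hj : RelProj.IsGrSymAlg L 𝒮L jL) (k : ℕ) {W : X.Opens}
    (σ : Γ(CohB1.tensorPow L k, W)) : DegMem 𝒮L k W (sV (powMap hL jL k) W σ) := by
  refine degMem_local 𝒮L k _ fun x hx => ?_
  obtain ⟨U, e, hxU, he⟩ := TwistLib.exists_genOn hL x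
  obtain ⟨V, hV, hxV, hle⟩ := exists_isAffineOpen_mem_and_subset (X := X) (x := x) (U := W ⊓ U) ⟨hx, hxU⟩
  have hVU : V ≤ U := fun y hy => (hle hy).2
  have hVW : V ≤ W := fun y hy => (hle hy).1
  obtain ⟨r, hr⟩ := (AmpleThLib.pS_genOn (he.res hVU) k V le_rfl).2 (res _ hVW σ)
  simp only [AmpleLib.res_refl] at hr
  refine ⟨V, hVW, hxV, (degMem_affine 𝒮L k hV _).mpr ?_⟩
  dsimp only [rres]
  rw [← sV_res, ← hr, powMap_coeff hL (he.res hVU)]
  exact degMem_pow_gen hj hV _ k r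

theorem powMap_injective (hj : RelProj.IsGrSymAlg L 𝒮L jL) (k : ℕ) (W : X.Opens) :
    Function.Injective (sV (powMap hL jL k) W) := by
  intro σ τ h
  refine TwistLib.mod_ext _ fun x hx => ?_
  obtain ⟨U, e, hxU, he⟩ := TwistLib.exists_genOn hL x
  obtain ⟨V, hV, hxV, hle⟩ := exists_isAffineOpen_mem_and_subset (X := X) (x := x) (U := W ⊓ U) ⟨hx, hxU⟩
  have hVU : V ≤ U := fun y hy => (hle hy).2
  have hVW : V ≤ W := fun y hy => (hle hy).1
  obtain ⟨r, hr⟩ := (AmpleThLib.pS_genOn (he.res hVU) k V le_rfl).2 (res _ hVW σ)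
  obtain ⟨s, hs⟩ := (AmpleThLib.pS_genOn (he.res hVU) k V le_rfl).2 (res _ hVW τ)
  simp only [AmpleLib.res_refl] at hr hs
  rw [← AmpleLib.germ_res _ hVW σ hxV, ← AmpleLib.germ_res _ hVW τ hxV, ← hr, ← hs]
  have h1 := congrArg (𝒮L.presheaf.map (homOfLE hVW).op).hom h
  rw [← sV_res, ← sV_res, ← hr, ← hs, powMap_coeff hL (he.res hVU), powMap_coeff hL (he.res hVU),
    ← sub_eq_zero, ← sub_mul, ← map_sub] at h1
  rw [sub_eq_zero.mp (eq_zero_of_str_mul_pow hj hV (he.res hVU) k h1)]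

theorem exists_gen_coeff (hj : RelProj.IsGrSymAlg L 𝒮L jL) {V : X.Opens} (hV : IsAffineOpen V) {e : Γ(L, V)}
    (he : GenOn L e) {k : ℕ} {a : 𝒮L.presheaf.obj (op V)} (ha : a ∈ 𝒮L.deg V hV k) :
    ∃ c : Γ(X, V), a = (𝒮L.str.app (op V)).hom c * jS jL V e ^ k := by
  classical
  have hje : ∀ n : Γ(L, V), ∃ c : Γ(X, V), jS jL V n = (𝒮L.str.app (op V)).hom c * jS jL V e := fun n => by
    obtain ⟨c, hc⟩ := (he V le_rfl).2 n
    simp only [AmpleLib.res_refl] at hc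
    exact ⟨c, by rw [str_mul_j, hc]⟩
  have key : ∀ y : 𝒮L.presheaf.obj (op V), ∀ d, ∃ c : Γ(X, V),
      (DirectSum.decompose (𝒮L.deg V hV) y d : 𝒮L.presheaf.obj (op V)) =
        (𝒮L.str.app (op V)).hom c * jS jL V e ^ d := by
    intro y
    have hy : y ∈ SymGenLib.gen 𝒮L.toQCAlg jL V :=
      (SymGenLib.gen_eq_top 𝒮L.toQCAlg jL hj.1 V hV).ge (Subring.mem_top y)
    induction hy using Subring.closure_induction with
    | mem y hy =>
      intro d
      rcases hy with ⟨r, rfl⟩ | ⟨n, rfl⟩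
      · rcases Nat.eq_zero_or_pos d with rfl | hd
        · exact ⟨r, by rw [pow_zero, mul_one]; exact DirectSum.decompose_of_mem_same _ (𝒮L.str_mem V hV r)⟩
        · exact ⟨0, by rw [map_zero, zero_mul]; exact DirectSum.decompose_of_mem_ne _ (𝒮L.str_mem V hV r) hd.ne⟩
      · by_cases hd : 1 = d
        · subst hd
          obtain ⟨c, hc⟩ := hje n
          exact ⟨c, by rw [pow_one, ← hc]; exact DirectSum.decompose_of_mem_same (𝒮L.deg V hV) (hj.2 V hV n)⟩
        · exact ⟨0, by rw [map_zero, zero_mul]; exact DirectSum.decompose_of_mem_ne (𝒮L.deg V hV) (hj.2 V hV n) hd⟩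
    | zero => exact fun d => ⟨0, by simp⟩
    | one =>
      intro d
      rcases Nat.eq_zero_or_pos d with rfl | hd
      · exact ⟨1, by rw [map_one (𝒮L.str.app (op V)).hom, pow_zero, mul_one]; exact DirectSum.decompose_of_mem_same (𝒮L.deg V hV) (i := 0) SetLike.GradedOne.one_mem⟩
      · exact ⟨0, by rw [map_zero, zero_mul]; exact DirectSum.decompose_of_mem_ne (𝒮L.deg V hV) (i := 0) SetLike.GradedOne.one_mem hd.ne⟩
    | add y z _ _ ihy ihz =>
      intro d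
      obtain ⟨r, hr⟩ := ihy d
      obtain ⟨t, ht⟩ := ihz d
      exact ⟨r + t, by rw [DirectSum.decompose_add, DirectSum.add_apply, AddMemClass.coe_add, hr, ht, map_add, add_mul]⟩
    | neg y _ ihy =>
      intro d
      obtain ⟨r, hr⟩ := ihy d
      refine ⟨-r, ?_⟩
      rw [DirectSum.decompose_neg, DFinsupp.neg_apply, NegMemClass.coe_neg, hr, map_neg, neg_mul]
    | mul y z _ _ ihy ihz =>
      intro d
      choose r hr using ihy
      choose t ht using ihz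
      rw [DirectSum.decompose_mul, DirectSum.coe_mul_apply]
      refine Finset.sum_induction _ (fun a => ∃ c : Γ(X, V), a = (𝒮L.str.app (op V)).hom c * jS jL V e ^ d)
        (fun a b ⟨c, hc⟩ ⟨c', hc'⟩ => ⟨c + c', by rw [hc, hc', map_add, add_mul]⟩)
        ⟨0, by simp⟩ fun ij hij => ?_
      refine ⟨r ij.1 * t ij.2, ?_⟩
      have hsum : ij.1 + ij.2 = d := (Finset.mem_filter.mp hij).2
      rw [hr, ht, map_mul, ← hsum, pow_add]
      ring
  obtain ⟨c, hc⟩ := key a k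
  exact ⟨c, (DirectSum.decompose_of_mem_same _ ha).symm.trans hc⟩

/-- homogeneous sections are values of sections of powers -/
theorem powMap_surjective (hj : RelProj.IsGrSymAlg L 𝒮L jL) (k : ℕ) {W : X.Opens}
    {a : 𝒮L.presheaf.obj (op W)} (ha : DegMem 𝒮L k W a) : ∃ σ, sV (powMap hL jL k) W σ = a := by
  let I := {V : AmpleThLib.Gens L // V.1 ≤ W ∧ IsAffineOpen V.1}
  have hloc : ∀ i : I, ∃ τ : Γ(CohB1.tensorPow L k, i.1.1),
      sV (powMap hL jL k) i.1.1 τ = (𝒮L.presheaf.map (homOfLE i.2.1).op).hom a := fun i => by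
    obtain ⟨c, hc⟩ := exists_gen_coeff hj i.2.2 i.1.2.2 (ha i.1.1 i.2.2 i.2.1)
    exact ⟨c • pS i.1.2.1 k, (powMap_coeff hL i.1.2.2 k c).trans hc.symm⟩
  choose τ hτ using hloc
  have hcov : W ≤ ⨆ i : I, i.1.1 := fun x hx => by
    obtain ⟨U, e, hxU, he⟩ := TwistLib.exists_genOn hL x
    obtain ⟨V, hV, hxV, hle⟩ := exists_isAffineOpen_mem_and_subset (X := X) (x := x) (U := W ⊓ U) ⟨hx, hxU⟩
    exact Opens.mem_iSup.mpr ⟨⟨⟨V, res L (fun y hy => (hle hy).2) e, he.res _⟩, fun y hy => (hle hy).1, hV⟩, hxV⟩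
  obtain ⟨σ, hσ, -⟩ := TopCat.Sheaf.existsUnique_gluing' (X := X.toTopCat)
    (⟨(CohB1.tensorPow L k).presheaf, (CohB1.tensorPow L k).isSheaf⟩ : TopCat.Sheaf AddCommGrpCat _)
    (fun i : I => i.1.1) W (fun i => homOfLE i.2.1) hcov τ (fun i l => by
      refine powMap_injective hL hj k _ ?_
      show sV (powMap hL jL k) _ (res _ inf_le_left (τ i)) = sV (powMap hL jL k) _ (res _ inf_le_right (τ l))
      rw [sV_res, sV_res, hτ, hτ]
      exact (rres_rres 𝒮L _ _ a).trans (rres_rres 𝒮L _ _ a).symm)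
  refine ⟨σ, sV_ext fun x hx => ?_⟩
  obtain ⟨i, hi⟩ := Opens.mem_iSup.mp (hcov hx)
  refine ⟨i.1.1, i.2.1, hi, ?_⟩
  rw [← sV_res, ← hτ i]
  exact congrArg (sV (powMap hL jL k) i.1.1) (hσ i)

end EGA2SymLib

end
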