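import Mathlib
import Groth.Agent.EGA2SymLib.SymPow
import Groth.Agent.EGA2SymLib.Colim
import Groth.Agent.QCSubLib.Main
import Groth.Agent.AmpleThLib.Restr

/-!
# Loci of sections of powers of an invertible module and their charts in the projective spectrum
-/

set_option autoImplicit false
universe u

open CategoryTheory CategoryTheory.Limits AlgebraicGeometry TopologicalSpace Opposite HomogeneousLocalization
open AmpleLib (res GenOn GenAt)
open AmpleThLib (pS rX mul tensorPow_isInvertible)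
open scoped HomogeneousIdeal

noncomputable section

namespace EGA2SymLib

variable {X : Scheme.{u}} {L : X.Modules} [Coh.IsQCoh L] {𝒮L : RelProj.QCGrAlg X} {jL : L ⟶ 𝒮L.toModule}
  (hL : PicF.IsInvertible L) (hj : RelProj.IsGrSymAlg L 𝒮L jL)

/-- `W` is where the section `σ` over `O` generates -/
def IsLocusOn {n : ℕ} {O : X.Opens} (σ : Γ(CohB1.tensorPow L n, O)) (W : X.Opens) : Prop :=
  W ≤ O ∧ ∀ (x : X) (hx : x ∈ O), x ∈ W ↔ GenAt (CohB1.tensorPow L n) σ hx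

theorem genAt_restrict_iff {Z : Scheme.{u}} (j : Z ⟶ X) [IsOpenImmersion j] {M : X.Modules}
    (hM : PicF.IsInvertible M) {V : Z.Opens} {W : X.Opens} (h : j ''ᵁ V ≤ W) (σ : Γ(M, W)) {y : Z} (hy : y ∈ V) :
    GenAt (M.restrict j) (show Γ(M.restrict j, V) from res M h σ) hy ↔ GenAt M σ (h ⟨y, hy, rfl⟩) := by
  obtain ⟨U, e, hyU, he⟩ := TwistLib.exists_genOn hM (j y)
  let W' := W ⊓ U
  have hy' : j y ∈ W' := ⟨h ⟨y, hy, rfl⟩, hyU⟩
  obtain ⟨r, hr⟩ := ((he.res (inf_le_right : W' ≤ U)) W' le_rfl).2 (res M inf_le_left σ)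
  simp only [AmpleLib.res_refl] at hr
  let V' := V ⊓ j ⁻¹ᵁ W'
  have hyV' : y ∈ V' := ⟨hy, hy'⟩
  have hVW : j ''ᵁ V' ≤ W' := (j.image_mono inf_le_right).trans (j.image_preimage_le W')
  have hg := (he.res (inf_le_right : W' ≤ U)).restrict j V' hVW
  let r' : Γ(Z, V') := (j.appIso V').hom (X.presheaf.map (homOfLE hVW).op r)
  have hr' : r' • (show Γ(M.restrict j, V') from res M hVW (res M inf_le_right e)) =
      res (M.restrict j) (inf_le_left : V' ≤ V) (show Γ(M.restrict j, V) from res M h σ) := by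
    change (show Γ(X, j ''ᵁ V') from (j.appIso V').inv ((j.appIso V').hom _)) • res M hVW (res M inf_le_right e) =
      res M (j.image_mono inf_le_left) (res M h σ)
    rw [Iso.hom_inv_id_apply, ← AmpleLib.res_smul, hr, AmpleLib.res_res, AmpleLib.res_res]
  have e1 : GenAt (M.restrict j) (show Γ(M.restrict j, V) from res M h σ) hy ↔ y ∈ Z.basicOpen r' := by
    refine (AmpleLib.genAt_res (inf_le_left : V' ≤ V) (show Γ(M.restrict j, V) from res M h σ) hyV').symm.trans ?_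
    rw [← hr', AmpleLib.genAt_smul_iff _ _ hyV' (hg.genAt hyV')]
  have e2 : GenAt M σ (h ⟨y, hy, rfl⟩) ↔ j y ∈ X.basicOpen r := by
    refine (AmpleLib.genAt_res (inf_le_left : W' ≤ W) σ hy').symm.trans ?_
    rw [← hr, AmpleLib.genAt_smul_iff _ _ hy' ((he.res (inf_le_right : W' ≤ U)).genAt hy')]
  refine e1.trans (Iff.trans ?_ e2.symm)
  have h2 : X.basicOpen (X.presheaf.map (homOfLE hVW).op r) = j ''ᵁ V' ⊓ X.basicOpen r := Scheme.basicOpen_res _ _ _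
  constructor
  · intro hz
    have h3 : j y ∈ j ''ᵁ Z.basicOpen r' := ⟨y, hz, rfl⟩
    rw [Scheme.image_basicOpen, show (j.appIso V').inv r' = X.presheaf.map (homOfLE hVW).op r from
      Iso.hom_inv_id_apply _ _, h2] at h3
    exact h3.2
  · intro hz
    have h3 : j y ∈ j ''ᵁ Z.basicOpen r' := by
      rw [Scheme.image_basicOpen, show (j.appIso V').inv r' = X.presheaf.map (homOfLE hVW).op r from
        Iso.hom_inv_id_apply _ _, h2]
      exact ⟨⟨y, hyV', rfl⟩, hz⟩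
    obtain ⟨z, hz', hzy⟩ := h3
    exact j.isOpenEmbedding.injective hzy ▸ hz'

include hL in
/-- affine loci from an ample restriction -/
theorem exists_locus_of_isAmple {O : X.Opens} (hA : CohB1.IsAmple (L.restrict O.ι)) {x : X} (hx : x ∈ O) :
    ∃ (n : ℕ) (σ : Γ(CohB1.tensorPow L n, O)) (W : X.Opens),
      0 < n ∧ IsLocusOn σ W ∧ x ∈ W ∧ IsAffineOpen W := by
  obtain ⟨n, V, hn, ⟨τ, hτ⟩, hxV, hV⟩ := ((AmpleThLib.isAmple_iff
    (hL := AmpleThLib.restrict_isInvertible hL O.ι)).mp hA).2 ⟨x, hx⟩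
  let φ := (AmpleThLib.exists_restrIso hL O.ι n).choose
  have htop : O.ι ''ᵁ ⊤ = O := O.ι_image_top
  let σ : Γ(CohB1.tensorPow L n, O) := res _ htop.ge (φ.hom.app ⊤ τ)
  refine ⟨n, σ, O.ι ''ᵁ V, hn, ⟨O.ι_image_le V, fun z hz => ?_⟩, ⟨⟨x, hx⟩, hxV, rfl⟩, hV.image_of_isOpenImmersion _⟩
  have h1 : GenAt (CohB1.tensorPow L n) σ hz ↔
      GenAt ((CohB1.tensorPow L n).restrict O.ι) (φ.hom.app ⊤ τ) (show (⟨z, hz⟩ : O) ∈ (⊤ : (O : Scheme.{u}).Opens) from trivial) := by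
    refine (genAt_restrict_iff O.ι (tensorPow_isInvertible hL n) (V := ⊤) htop.le σ
      (y := (⟨z, hz⟩ : O)) trivial).symm.trans ?_
    exact iff_of_eq (congrArg (fun s => GenAt _ s _) (by rw [AmpleLib.res_res]; exact AmpleLib.res_refl _ _))
  rw [h1, TwistLib.genAt_app_iso φ τ]
  subst hτ
  constructor
  · rintro ⟨⟨z', hz'⟩, hzV, rfl⟩
    exact hzV
  · exact fun h => ⟨⟨z, hz⟩, h, rfl⟩

include hL in
/-- affine loci give ampleness of the restriction -/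
theorem isAmple_restrict_of_loci {O : X.Opens} (hO : IsCompact (O : Set X))
    (h : ∀ x ∈ O, ∃ (n : ℕ) (σ : Γ(CohB1.tensorPow L n, O)) (W : X.Opens),
      0 < n ∧ IsLocusOn σ W ∧ x ∈ W ∧ IsAffineOpen W) : CohB1.IsAmple (L.restrict O.ι) := by
  refine (AmpleThLib.isAmple_iff (hL := AmpleThLib.restrict_isInvertible hL O.ι)).mpr
    ⟨isCompact_iff_compactSpace.mp hO, fun y => ?_⟩
  obtain ⟨n, σ, W, hn, ⟨hWO, hW⟩, hyW, haff⟩ := h y.1 y.2
  let φ := (AmpleThLib.exists_restrIso hL O.ι n).choose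
  let s : Γ((CohB1.tensorPow L n).restrict O.ι, ⊤) := res (CohB1.tensorPow L n) O.ι_image_top.le σ
  refine ⟨n, O.ι ⁻¹ᵁ W, hn, ⟨φ.inv.app ⊤ s, ?_⟩, hyW, ?_⟩
  · ext z
    exact ((TwistLib.genAt_app_iso φ.symm s trivial).trans
      (genAt_restrict_iff O.ι (tensorPow_isInvertible hL n) O.ι_image_top.le σ (y := z) trivial)).trans
      (hW z.1 z.2).symm
  · exact haff.preimage_of_isOpenImmersion O.ι (by rw [Scheme.Opens.opensRange_ι]; exact hWO)

include hL hj in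
/-- on the locus the section generates the homogeneous part -/
theorem span_of_le_locus {n : ℕ} {O W V : X.Opens} {σ : Γ(CohB1.tensorPow L n, O)} (hW : IsLocusOn σ W)
    (hV : IsAffineOpen V) (hVW : V ≤ W) :
    ((𝒮L.deg V hV n : AddSubgroup (𝒮L.presheaf.obj (op V))) : Set (𝒮L.presheaf.obj (op V))) ⊆
      (Ideal.span {(𝒮L.presheaf.map (homOfLE (hVW.trans hW.1)).op).hom (sV (powMap hL jL n) O σ)} :
        Set (𝒮L.presheaf.obj (op V))) := by
  intro a ha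
  obtain ⟨τ, hτ⟩ := powMap_surjective hL hj n ((degMem_affine 𝒮L n hV a).mpr ha)
  have hg : GenOn _ (res _ (hVW.trans hW.1) σ) := TwistLib.genOn_of_genAt fun z hz =>
    (AmpleLib.genAt_res _ σ hz).mpr ((hW.2 z _).mp (hVW hz))
  obtain ⟨r, hr⟩ := (hg V le_rfl).2 τ
  simp only [AmpleLib.res_refl] at hr
  refine Ideal.mem_span_singleton'.mpr ⟨(𝒮L.str.app (op V)).hom r, ?_⟩
  rw [← sV_res, ← sV_smul, hr, hτ]

include hL hj in
/-- conversely -/
theorem genAt_of_span_pow {n : ℕ} {O V : X.Opens} (σ : Γ(CohB1.tensorPow L n, O)) (hV : IsAffineOpen V)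
    (hVO : V ≤ O) {x : X} (hxV : x ∈ V)
    (hspan : ((𝒮L.deg V hV n : AddSubgroup (𝒮L.presheaf.obj (op V))) : Set (𝒮L.presheaf.obj (op V))) ⊆
      (Ideal.span {(𝒮L.presheaf.map (homOfLE hVO).op).hom (sV (powMap hL jL n) O σ)} :
        Set (𝒮L.presheaf.obj (op V)))) :
    GenAt (CohB1.tensorPow L n) σ (hVO hxV) := by
  classical
  letI := 𝒮L.graded V hV
  have hLn := tensorPow_isInvertible hL n
  haveI : Coh.IsQCoh (CohB1.tensorPow L n) :=
    (LocSuppLib.isCoh_of_isFinLocFree fun y =>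
      let ⟨V, h⟩ := (CohCmpLib.invertible_iff_rank_one _).1 hLn y; ⟨V, 1, h⟩).1
  refine (AmpleLib.genAt_res hVO σ (x := x) hxV).mp ?_
  let m := res _ hVO σ
  have hdiv : ∀ t : Γ(CohB1.tensorPow L n, V), ∃ r : Γ(X, V), t = r • m := fun t => by
    have ht := (degMem_affine 𝒮L n hV _).mp (powMap_degMem hL hj n t)
    obtain ⟨c, hc⟩ := Ideal.mem_span_singleton'.mp (hspan ht)
    rw [← sV_res] at hc
    obtain ⟨r, hr⟩ := exists_of_mem_zero hj hV (SetLike.coe_mem (DirectSum.decompose (𝒮L.deg V hV) c 0))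
    refine ⟨r, powMap_injective hL hj n V ?_⟩
    rw [sV_smul, hr]
    have hm : sV (powMap hL jL n) V m ∈ 𝒮L.deg V hV n :=
      (degMem_affine 𝒮L n hV _).mp (powMap_degMem hL hj n m)
    have h1 := DirectSum.coe_decompose_mul_of_right_mem_of_le (𝒮L.deg V hV) (a := c) hm (le_refl n)
    rw [Nat.sub_self, hc, DirectSum.decompose_of_mem_same _ ht] at h1
    exact h1
  obtain ⟨U, g, hxU, hg⟩ := TwistLib.exists_genOn hLn x
  obtain ⟨f, hfU, hxf⟩ := hV.exists_basicOpen_le (V := U) ⟨x, hxU⟩ hxV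
  obtain ⟨k, t, ht⟩ := (QCohLib.localizingAt_of_isQCoh hV (CohB1.tensorPow L n) f).exists_extend (res _ hfU g)
  obtain ⟨r, hr⟩ := hdiv t
  have h1 : GenAt _ (res _ (X.basicOpen_le f) t) hxf := by
    show GenAt _ ((CohB1.tensorPow L n).presheaf.map (homOfLE (X.basicOpen_le f)).op t) hxf
    rw [ht]
    refine (AmpleLib.genAt_smul_iff _ _ hxf ((hg.res hfU).genAt hxf)).mpr ?_
    rw [Scheme.mem_basicOpen X _ x hxf, map_pow, TopCat.Presheaf.germ_res_apply]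
    exact ((Scheme.mem_basicOpen X f x hxV).mp hxf).pow k
  have h2 : GenAt _ (r • m) hxV := hr ▸ (AmpleLib.genAt_res (X.basicOpen_le f) t (x := x) hxf).mp h1
  have h3 := mem_basicOpen_of_genAt_smul hLn r m hxV h2
  rw [Scheme.mem_basicOpen X r x hxV] at h3
  unfold GenAt at h2 ⊢
  simp only [AmpleLib.germ_smul, smul_smul] at h2
  have h4 := h2.comp (h3.unit⁻¹).mulRight.bijective
  convert h4 using 1
  funext c
  simp only [Function.comp_apply, Units.mulRight_apply, mul_assoc, IsUnit.val_inv_mul, mul_one]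
  rfl

include hL hj in
/-- a section vanishing on the locus is killed by a power -/
theorem exists_kill {n : ℕ} {O W : X.Opens} {σ : Γ(CohB1.tensorPow L n, O)} (hW : IsLocusOn σ W)
    {S : X.Opens} (hS : IsCompact (S : Set X)) (hSO : S ≤ O) (b : 𝒮L.presheaf.obj (op S))
    (hb : (𝒮L.presheaf.map (homOfLE (inf_le_left : S ⊓ W ≤ S)).op).hom b = 0) :
    ∃ k : ℕ, (𝒮L.presheaf.map (homOfLE hSO).op).hom (sV (powMap hL jL n) O σ) ^ k * b = 0 := by
  classical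
  haveI := QCSubLib.isQCoh_toModule 𝒮L.toQCAlg
  have hloc : ∀ x ∈ S, ∃ (T : X.Opens) (e : Γ(L, T)), x ∈ T ∧ T ≤ S ∧ IsAffineOpen T ∧ GenOn L e := by
    intro x hx
    obtain ⟨U, e, hxU, he⟩ := TwistLib.exists_genOn hL x
    obtain ⟨T, hT, hxT, hle⟩ := exists_isAffineOpen_mem_and_subset (X := X) (x := x) (U := S ⊓ U) ⟨hx, hxU⟩
    exact ⟨T, res L (fun y hy => (hle hy).2) e, hxT, fun y hy => (hle hy).1, hT, he.res _⟩
  choose T e hxT hTS hT he using hloc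
  obtain ⟨F, hF⟩ := hS.elim_finite_subcover (fun x : S => (T x.1 x.2 : Set X)) (fun x => (T x.1 x.2).2)
    fun x hx => Set.mem_iUnion.mpr ⟨⟨x, hx⟩, hxT x hx⟩
  have hk : ∀ x : S, ∃ k : ℕ,
      (𝒮L.presheaf.map (homOfLE ((hTS x.1 x.2).trans hSO)).op).hom (sV (powMap hL jL n) O σ) ^ k *
        (𝒮L.presheaf.map (homOfLE (hTS x.1 x.2)).op).hom b = 0 := by
    intro x
    have hV := he x.1 x.2
    obtain ⟨c, hc⟩ := ((AmpleThLib.pS_genOn hV n) (T x.1 x.2) le_rfl).2 (res _ ((hTS x.1 x.2).trans hSO) σ)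
    simp only [AmpleLib.res_refl] at hc
    have hle : T x.1 x.2 ⊓ X.basicOpen c ≤ S ⊓ W := fun z hz => ⟨hTS x.1 x.2 hz.1, by
      refine (hW.2 z (hSO (hTS x.1 x.2 hz.1))).mpr ?_
      rw [← AmpleLib.genAt_res ((hTS x.1 x.2).trans hSO) σ hz.1, ← hc,
        AmpleLib.genAt_smul_iff _ _ hz.1 ((AmpleThLib.pS_genOn hV n).genAt hz.1)]
      exact hz.2⟩
    obtain ⟨k, hk⟩ := (QCohLib.LocPair.of_affine (M := 𝒮L.toModule) c (hT x.1 x.2) le_rfl).eq_zero
      (show Γ(𝒮L.toModule, T x.1 x.2) from (𝒮L.presheaf.map (homOfLE (hTS x.1 x.2)).op).hom b) (by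
        show (𝒮L.presheaf.map (homOfLE _).op).hom ((𝒮L.presheaf.map (homOfLE (hTS x.1 x.2)).op).hom b) = 0
        refine (rres_rres 𝒮L (hTS x.1 x.2) _ b).trans ?_
        rw [← rres_rres 𝒮L (inf_le_left : S ⊓ W ≤ S) hle b]
        show (𝒮L.presheaf.map _).hom ((𝒮L.presheaf.map _).hom b) = 0
        rw [hb, map_zero])
    refine ⟨k, ?_⟩
    simp only [homOfLE_refl, op_id, CategoryTheory.Functor.map_id] at hk
    have hk' : (𝒮L.str.app (op (T x.1 x.2))).hom (c ^ k) *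
        (𝒮L.presheaf.map (homOfLE (hTS x.1 x.2)).op).hom b = 0 := hk
    rw [← sV_res, ← hc, powMap_coeff hL hV, mul_pow, ← map_pow, mul_comm _ ((jS jL _ _ ^ n) ^ k), mul_assoc,
      hk', mul_zero]
  choose k hk using hk
  refine ⟨F.sum k, sV_ext fun z hz => ?_⟩
  obtain ⟨x, hx, hzx⟩ := Set.mem_iUnion₂.mp (hF hz)
  refine ⟨T x.1 x.2, hTS x.1 x.2, hzx, ?_⟩
  rw [map_mul, map_pow, map_zero]
  obtain ⟨l, hl⟩ := Nat.exists_eq_add_of_le (Finset.single_le_sum (f := k) (fun q _ => Nat.zero_le _) hx)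
  rw [hl, pow_add, mul_comm (_ ^ k x), mul_assoc]
  refine (congrArg (_ * ·) ?_).trans (mul_zero _)
  refine Eq.trans ?_ (hk x)
  refine congrArg (fun z => z ^ k x * _) ?_
  exact rres_rres 𝒮L hSO (hTS x.1 x.2) _

include hL hj in
/-- functions on the locus are fractions -/
theorem exists_frac {n : ℕ} {O W : X.Opens} {σ : Γ(CohB1.tensorPow L n, O)} (hW : IsLocusOn σ W)
    (hO : IsCompact (O : Set X)) (hqs : IsQuasiSeparated (O : Set X)) (t : Γ(X, W)) :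
    ∃ (m : ℕ) (b : 𝒮L.presheaf.obj (op O)), DegMem 𝒮L (m * n) O b ∧
      (𝒮L.presheaf.map (homOfLE hW.1).op).hom b =
        (𝒮L.presheaf.map (homOfLE hW.1).op).hom (sV (powMap hL jL n) O σ) ^ m * (𝒮L.str.app (op W)).hom t := by
  classical
  let G := sV (powMap hL jL n) O σ
  have hloc : ∀ x ∈ O, ∃ (T : X.Opens) (e : Γ(L, T)), x ∈ T ∧ T ≤ O ∧ IsAffineOpen T ∧ GenOn L e := by
    intro x hx
    obtain ⟨U, e, hxU, he⟩ := TwistLib.exists_genOn hL x
    obtain ⟨T, hT, hxT, hle⟩ := exists_isAffineOpen_mem_and_subset (X := X) (x := x) (U := O ⊓ U) ⟨hx, hxU⟩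
    exact ⟨T, res L (fun y hy => (hle hy).2) e, hxT, fun y hy => (hle hy).1, hT, he.res _⟩
  choose T e hxT hTO hT he using hloc
  obtain ⟨F, hF⟩ := hO.elim_finite_subcover (fun x : O => (T x.1 x.2 : Set X)) (fun x => (T x.1 x.2).2)
    fun x hx => Set.mem_iUnion.mpr ⟨⟨x, hx⟩, hxT x hx⟩
  choose c hc using fun i : F => ((AmpleThLib.pS_genOn (he i.1.1 i.1.2) n) (T i.1.1 i.1.2) le_rfl).2
    (res _ (hTO i.1.1 i.1.2) σ)
  simp only [AmpleLib.res_refl] at hc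
  have hDW : ∀ i : F, X.basicOpen (c i) ≤ W := fun i z hz => by
    have hzT := X.basicOpen_le _ hz
    refine (hW.2 z (hTO _ _ hzT)).mpr ?_
    rw [← AmpleLib.genAt_res (hTO i.1.1 i.1.2) σ hzT, ← hc,
      AmpleLib.genAt_smul_iff _ _ hzT ((AmpleThLib.pS_genOn (he i.1.1 i.1.2) n).genAt hzT)]
    exact hz
  have hWD : ∀ (i : F) (z : X), z ∈ W → z ∈ T i.1.1 i.1.2 → z ∈ X.basicOpen (c i) := fun i z hz hzT => by
    have h := (AmpleLib.genAt_res (hTO i.1.1 i.1.2) σ hzT).mpr ((hW.2 z (hTO _ _ hzT)).mp hz)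
    rwa [← hc, AmpleLib.genAt_smul_iff _ _ hzT ((AmpleThLib.pS_genOn (he i.1.1 i.1.2) n).genAt hzT)] at h
  choose k a ha using fun i : F => exists_eq_pow_mul_of_isCompact_of_isQuasiSeparated X (T i.1.1 i.1.2)
    (hT _ _).isCompact (hT _ _).isQuasiSeparated (c i) (X.presheaf.map (homOfLE (hDW i)).op t)
  let N := Finset.univ.sum k
  have hkN : ∀ i, k i ≤ N := fun i => Finset.single_le_sum (fun q _ => Nat.zero_le _) (Finset.mem_univ i)
  obtain ⟨bl, hbld⟩ : ∃ bl : ∀ i : F, 𝒮L.presheaf.obj (op (T i.1.1 i.1.2)), bl = fun i =>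
    (𝒮L.str.app (op (T i.1.1 i.1.2))).hom (c i ^ (N - k i) * a i) * (jS jL _ (e i.1.1 i.1.2) ^ n) ^ N := ⟨_, rfl⟩
  have hGi : ∀ i : F, rres 𝒮L (hTO i.1.1 i.1.2) G =
      (𝒮L.str.app (op (T i.1.1 i.1.2))).hom (c i) * jS jL _ (e i.1.1 i.1.2) ^ n := fun i => by
    dsimp only [rres, G]
    rw [← sV_res, ← hc, powMap_coeff hL (he i.1.1 i.1.2)]
  have hval : ∀ (i : F) (D : X.Opens) (hD : D ≤ X.basicOpen (c i)),
      rres 𝒮L (hD.trans (X.basicOpen_le _)) (bl i) = rres 𝒮L ((hD.trans (X.basicOpen_le _)).trans (hTO _ _)) G ^ N *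
        (𝒮L.str.app (op D)).hom (X.presheaf.map (homOfLE (hD.trans (hDW i))).op t) := by
    intro i D hD
    have hai : X.presheaf.map (homOfLE (hD.trans (X.basicOpen_le _))).op (a i) =
        X.presheaf.map (homOfLE (hD.trans (X.basicOpen_le _))).op (c i) ^ k i *
          X.presheaf.map (homOfLE (hD.trans (hDW i))).op t := by
      have h := congrArg (X.presheaf.map (homOfLE hD).op)
        (show X.presheaf.map (homOfLE (X.basicOpen_le (c i))).op (a i) =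
          X.presheaf.map (homOfLE (X.basicOpen_le (c i))).op (c i) ^ k i *
            X.presheaf.map (homOfLE (hDW i)).op t from ha i)
      simp only [map_mul, map_pow, ← CommRingCat.comp_apply, ← Functor.map_comp, ← op_comp, homOfLE_comp] at h
      exact h
    rw [← rres_rres 𝒮L (hTO _ _) (hD.trans (X.basicOpen_le _)) G, hGi]
    subst hbld
    show rres 𝒮L _ (_ * _) = _
    rw [rres, rres, map_mul, map_mul, map_pow, map_pow]
    have hs : ∀ r : Γ(X, T i.1.1 i.1.2),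
        (𝒮L.presheaf.map (homOfLE (hD.trans (X.basicOpen_le (c i)))).op).hom ((𝒮L.str.app _).hom r) =
          (𝒮L.str.app (op D)).hom (X.presheaf.map (homOfLE (hD.trans (X.basicOpen_le (c i)))).op r) :=
      fun r => rres_str 𝒮L _ r
    simp only [map_mul, map_pow, hs, hai, mul_pow]
    rw [← mul_assoc (_ ^ (N - k i)), ← pow_add, Nat.sub_add_cancel (hkN i)]
    ring
  have hK : ∀ p : F × F, ∃ K : ℕ,
      rres 𝒮L (inf_le_left.trans (hTO _ _) : T p.1.1.1 p.1.1.2 ⊓ T p.2.1.1 p.2.1.2 ≤ O) G ^ K *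
        (rres 𝒮L inf_le_left (bl p.1) - rres 𝒮L inf_le_right (bl p.2)) = 0 := by
    rintro ⟨i, l⟩
    refine exists_kill hL hj hW (hqs _ _ (hTO _ _) (T i.1.1 i.1.2).2 (hT _ _).isCompact (hTO _ _)
      (T l.1.1 l.1.2).2 (hT _ _).isCompact) _ _ ?_
    rw [map_sub, sub_eq_zero]
    let D := (T i.1.1 i.1.2 ⊓ T l.1.1 l.1.2) ⊓ W
    have h1 : D ≤ X.basicOpen (c i) := fun z hz => hWD i z hz.2 hz.1.1
    have h2 : D ≤ X.basicOpen (c l) := fun z hz => hWD l z hz.2 hz.1.2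
    exact ((rres_rres 𝒮L _ _ (bl i)).trans (hval i D h1)).trans
      ((hval l D h2).symm.trans (rres_rres 𝒮L _ _ (bl l)).symm)
  choose K hK using hK
  let M := Finset.univ.sum K
  let bb : ∀ i : F, Γ(𝒮L.toModule, T i.1.1 i.1.2) := fun i => rres 𝒮L (hTO _ _) G ^ M * bl i
  obtain ⟨b, hb, -⟩ := TopCat.Sheaf.existsUnique_gluing' (X := X.toTopCat)
    (⟨𝒮L.toModule.presheaf, 𝒮L.toModule.isSheaf⟩ : TopCat.Sheaf AddCommGrpCat _)
    (fun i : F => T i.1.1 i.1.2) O (fun i => homOfLE (hTO _ _))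
    (fun z hz => by
      obtain ⟨x, hx, hzx⟩ := Set.mem_iUnion₂.mp (hF hz)
      exact Opens.mem_iSup.mpr ⟨⟨x, hx⟩, hzx⟩)
    bb (fun i l => by
      show rres 𝒮L inf_le_left (rres 𝒮L (hTO _ _) G ^ M * bl i) =
        rres 𝒮L inf_le_right (rres 𝒮L (hTO _ _) G ^ M * bl l)
      obtain ⟨q, hq⟩ := Nat.exists_eq_add_of_le
        (show K (i, l) ≤ M from Finset.single_le_sum (fun q _ => Nat.zero_le _) (Finset.mem_univ _))
      dsimp only [rres]
      rw [map_mul, map_mul, map_pow, map_pow,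
        show (𝒮L.presheaf.map _).hom ((𝒮L.presheaf.map _).hom G) =
          rres 𝒮L (inf_le_left.trans (hTO _ _) : T i.1.1 i.1.2 ⊓ T l.1.1 l.1.2 ≤ O) G from rres_rres 𝒮L _ _ G,
        show (𝒮L.presheaf.map (homOfLE (inf_le_right : T i.1.1 i.1.2 ⊓ T l.1.1 l.1.2 ≤ _)).op).hom
          ((𝒮L.presheaf.map _).hom G) =
          rres 𝒮L (inf_le_left.trans (hTO _ _) : T i.1.1 i.1.2 ⊓ T l.1.1 l.1.2 ≤ O) G from rres_rres 𝒮L _ _ G,
        ← sub_eq_zero, ← mul_sub, hq, pow_add, mul_comm (_ ^ K (i, l)), mul_assoc]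
      exact (congrArg (_ * ·) (hK (i, l))).trans (mul_zero _))
  refine ⟨M + N, b, degMem_local 𝒮L _ _ fun z hz => ?_, sV_ext fun z hz => ?_⟩
  · obtain ⟨x, hx, hzx⟩ := Set.mem_iUnion₂.mp (hF hz)
    refine ⟨T x.1 x.2, hTO _ _, hzx, (degMem_affine 𝒮L _ (hT _ _) _).mpr ?_⟩
    rw [show rres 𝒮L (hTO x.1 x.2) b = bb ⟨x, hx⟩ from hb ⟨x, hx⟩]
    have hG : rres 𝒮L (hTO x.1 x.2) G ∈ 𝒮L.deg _ (hT _ _) n := powMap_degMem hL hj n σ _ (hT _ _) (hTO _ _)
    subst hbld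
    have hbl := degMem_pow_gen hj (hT x.1 x.2) (e x.1 x.2) (n * N) (c ⟨x, hx⟩ ^ (N - k ⟨x, hx⟩) * a ⟨x, hx⟩)
    rw [pow_mul] at hbl
    have h := SetLike.mul_mem_graded (SetLike.pow_mem_graded M hG) hbl
    rwa [smul_eq_mul, mul_comm n N, ← add_mul] at h
  · obtain ⟨x, hx, hzx⟩ := Set.mem_iUnion₂.mp (hF (hW.1 hz))
    let i : F := ⟨x, hx⟩
    have hzD : z ∈ X.basicOpen (c i) := hWD i z hz hzx
    refine ⟨X.basicOpen (c i), hDW i, hzD, ?_⟩
    show rres 𝒮L _ (rres 𝒮L _ b) = rres 𝒮L _ (rres 𝒮L _ G ^ (M + N) * (𝒮L.str.app (op W)).hom t)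
    rw [rres_rres, ← rres_rres 𝒮L (hTO x.1 x.2) (X.basicOpen_le (c i)) b,
      show rres 𝒮L (hTO x.1 x.2) b = bb i from hb i]
    show rres 𝒮L _ (rres 𝒮L _ G ^ M * bl i) = _
    dsimp only [rres]
    rw [map_mul, map_mul, map_pow, map_pow]
    rw [show (𝒮L.presheaf.map (homOfLE (X.basicOpen_le (c i))).op).hom (bl i) = _ from hval i _ le_rfl,
      show (𝒮L.presheaf.map (homOfLE (hDW i)).op).hom ((𝒮L.str.app (op W)).hom t) = _ from rres_str 𝒮L _ t,
      show (𝒮L.presheaf.map (homOfLE (X.basicOpen_le (c i))).op).hom ((𝒮L.presheaf.map _).hom G) = _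
        from rres_rres 𝒮L _ _ G,
      show (𝒮L.presheaf.map (homOfLE (hDW i)).op).hom ((𝒮L.presheaf.map _).hom G) = _
        from rres_rres 𝒮L _ _ G, ← mul_assoc, ← pow_add]

section Proj

variable {Y P PL : Scheme.{u}} {q : X ⟶ Y} {𝒜 : RelProj.QCGrAlg Y} {u : RelProj.QGrHom q 𝒜 𝒮L}
  {p : P ⟶ Y} {chart : ∀ (U : Y.Opens) (hU : IsAffineOpen U), (((p ⁻¹ᵁ U : P.Opens) : Scheme.{u}) ≅ Proj (𝒜.deg U hU))}
  {pL : PL ⟶ X}
  {chartL : ∀ (U : X.Opens) (hU : IsAffineOpen U), (((pL ⁻¹ᵁ U : PL.Opens) : Scheme.{u}) ≅ Proj (𝒮L.deg U hU))}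
  {r : ((RelProj.domQ u pL chartL : PL.Opens) : Scheme.{u}) ⟶ P}
  (hP : RelProj.IsRelProj 𝒜 p chart) (hPL : RelProj.IsRelProj 𝒮L pL chartL)
  (hr : RelProj.IsProjQMapOn u p chart pL chartL (RelProj.domQ u pL chartL) r)

omit [Coh.IsQCoh L] in
/-- homogeneity is detected by an injective map -/
theorem mem_deg_of_degMem {U : Y.Opens} (hU : IsAffineOpen U) (hinj : Function.Injective (u.app U).hom)
    {d : ℕ} {s : 𝒜.presheaf.obj (op U)} (h : DegMem 𝒮L d (q ⁻¹ᵁ U) ((u.app U).hom s)) : s ∈ 𝒜.deg U hU d := by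
  classical
  letI := 𝒜.graded U hU
  suffices h0 : (DirectSum.decompose (𝒜.deg U hU) s d : 𝒜.presheaf.obj (op U)) = s by
    rw [← h0]
    exact SetLike.coe_mem _
  refine hinj (sV_ext fun x hx => ?_)
  obtain ⟨V, hV, hxV, hle⟩ := exists_isAffineOpen_mem_and_subset (X := X) (x := x) (U := q ⁻¹ᵁ U) hx
  refine ⟨V, hle, hxV, ?_⟩
  exact (GradedRingHom.map_directSumDecompose (𝒜 := 𝒜.deg U hU) (ℬ := 𝒮L.deg V hV)
    (u.gradedAt U hU V hV hle) (x := s) (i := d)).trans (DirectSum.decompose_of_mem_same _ (h V hV hle))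

omit [Coh.IsQCoh L] in
/-- images of homogeneous elements are homogeneous -/
theorem degMem_app {U : Y.Opens} (hU : IsAffineOpen U) {d : ℕ} {s : 𝒜.presheaf.obj (op U)}
    (hs : s ∈ 𝒜.deg U hU d) : DegMem 𝒮L d (q ⁻¹ᵁ U) ((u.app U).hom s) := fun V hV hle =>
  u.map_mem U hU V hV hle hs

include hL hj hP hPL hr in
/-- the preimage of the standard open of a section is its locus -/
theorem preimage_gOpen_eq [IsIso pL] {U : Y.Opens} (hU : IsAffineOpen U) {n : ℕ} (hn : 0 < n)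
    {g : 𝒜.presheaf.obj (op U)} (hg : g ∈ 𝒜.deg U hU n) {σ : Γ(CohB1.tensorPow L n, q ⁻¹ᵁ U)}
    (hσ : sV (powMap hL jL n) (q ⁻¹ᵁ U) σ = (u.app U).hom g) {W : X.Opens} (hW : IsLocusOn σ W) :
    (RelProj.domQ u pL chartL).ι ''ᵁ (r ⁻¹ᵁ gOpen p chart U hU g) = pL ⁻¹ᵁ W := by
  ext y
  constructor
  · rintro ⟨x, hx, rfl⟩
    obtain ⟨V, hV, hle, hxV, hspan⟩ := exists_span_of_mem_gOpen hL hj hP hPL hr hU hn hg x hx
    refine (hW.2 _ (hle hxV)).mpr (genAt_of_span_pow hL hj σ hV hle hxV ?_)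
    rw [hσ]
    exact hspan
  · intro hy
    obtain ⟨V, hV, hyV, hVW⟩ := exists_isAffineOpen_mem_and_subset (X := X) (x := pL y) (U := W) hy
    obtain ⟨z, hz⟩ := RelConeLib.exists_emb_eq (chart := chartL) hV y hyV
    have hle : V ≤ q ⁻¹ᵁ U := (show V ≤ W from hVW).trans hW.1
    refine (mem_preimage_iff hP hPL hr hU hn hg y).mpr ⟨V, hV, hle, z, hz, ?_⟩
    obtain ⟨a, ha, hza⟩ := GrTwistLib.exists_basicOpen_of_genDegOne _ (SymGenLib.isGenDegOne hj V hV) z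
    have hpow : a ^ n ∈ 𝒮L.deg V hV n := by simpa using SetLike.pow_mem_graded n ha
    have hspan := span_of_le_locus hL hj hW hV hVW hpow
    rw [hσ] at hspan
    obtain ⟨t, ht⟩ := Ideal.mem_span_singleton'.mp hspan
    refine (Proj.mem_basicOpen _ _ z).mpr fun hmem => (Proj.mem_basicOpen _ _ z).mp hza ?_
    refine z.isPrime.mem_of_pow_mem n ?_
    rw [← ht]
    exact Ideal.mul_mem_left _ t hmem

include hL hj in
/-- a power of the section kills what vanishes on its locus -/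
theorem exists_pow_mul_eq_zero {U : Y.Opens} (hinj : Function.Injective (u.app U).hom)
    (hc : IsCompact ((q ⁻¹ᵁ U : X.Opens) : Set X)) {n : ℕ}
    {g : 𝒜.presheaf.obj (op U)} {σ : Γ(CohB1.tensorPow L n, q ⁻¹ᵁ U)}
    (hσ : sV (powMap hL jL n) (q ⁻¹ᵁ U) σ = (u.app U).hom g) {W : X.Opens} (hW : IsLocusOn σ W)
    {a : 𝒜.presheaf.obj (op U)} (ha : (u.appLE U W hW.1).hom a = 0) : ∃ k : ℕ, g ^ k * a = 0 := by
  obtain ⟨k, hk⟩ := exists_kill hL hj hW hc le_rfl ((u.app U).hom a) (by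
    show rres 𝒮L (inf_le_left : q ⁻¹ᵁ U ⊓ W ≤ q ⁻¹ᵁ U) ((u.app U).hom a) = 0
    rw [← rres_rres 𝒮L hW.1 (inf_le_right : q ⁻¹ᵁ U ⊓ W ≤ W)]
    show (𝒮L.presheaf.map _).hom ((u.appLE U W hW.1).hom a) = 0
    rw [ha, map_zero])
  refine ⟨k, hinj ?_⟩
  rw [map_mul, map_pow, map_zero, ← hσ]
  refine Eq.trans ?_ hk
  refine congrArg (fun z => z ^ k * _) ?_
  exact congr($(𝒮L.presheaf.map_id (op (q ⁻¹ᵁ U))) (sV (powMap hL jL n) (q ⁻¹ᵁ U) σ)).symm

include hL hj hPL hr hP in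
/-- the chart rings of affine loci agree -/
theorem awayMap_bijective [IsIso pL] {U : Y.Opens} (hU : IsAffineOpen U)
    (hu : Function.Bijective (u.app U).hom) (hc : IsCompact ((q ⁻¹ᵁ U : X.Opens) : Set X))
    (hqs : IsQuasiSeparated ((q ⁻¹ᵁ U : X.Opens) : Set X)) {n : ℕ} (hn : 0 < n)
    {g : 𝒜.presheaf.obj (op U)} (hg : g ∈ 𝒜.deg U hU n) {σ : Γ(CohB1.tensorPow L n, q ⁻¹ᵁ U)}
    (hσ : sV (powMap hL jL n) (q ⁻¹ᵁ U) σ = (u.app U).hom g) {W : X.Opens} (hW : IsLocusOn σ W)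
    (hWa : IsAffineOpen W) :
    Function.Bijective (Away.map (u.gradedAt U hU W hWa hW.1) g) := by
  have hpre := preimage_gOpen_eq hL hj hP hPL hr hU hn hg hσ hW
  have hgbase := gbase_bijective hPL hr hU hn hg hWa hW.1 hpre
  constructor
  · rw [injective_iff_map_eq_zero]
    intro z hz
    obtain ⟨m, a, ha, rfl⟩ := Away.mk_surjective (𝒜.deg U hU) hg z
    have hz' := hz.trans (map_zero ((fromZeroRingHom (𝒮L.deg W hWa)
      (Submonoid.powers (u.gradedAt U hU W hWa hW.1 g))).comp (𝒮L.strZero W hWa).hom)).symm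
    obtain ⟨l, hl⟩ := (gmap_eq_base_iff hU hg hWa hW.1 m a ha 0).mp hz'
    rw [map_zero, mul_zero, mul_zero] at hl
    obtain ⟨k, hk⟩ := exists_pow_mul_eq_zero hL hj hu.1 hc hσ hW (a := g ^ l * a) (by
      rw [map_mul, map_pow]
      exact hl)
    refine val_injective _ ?_
    rw [Away.val_mk, HomogeneousLocalization.val_zero, ← Localization.mk_zero (1 : Submonoid.powers g),
      Localization.mk_eq_mk_iff, Localization.r_iff_exists]
    exact ⟨⟨g ^ (k + l), k + l, rfl⟩, by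
      simp only [OneMemClass.coe_one, one_mul, mul_zero]
      rw [pow_add, mul_assoc, hk]⟩
  · letI := (q.appLE U W hW.1).hom.toAlgebra
    refine surjective_of_generators hPL hr hU hn hg hWa hW.1 hpre Set.univ (Algebra.adjoin_univ _ _) fun t _ => ?_
    obtain ⟨m, b, hb, hbW⟩ := exists_frac hL hj hW hc hqs t
    obtain ⟨a, ha⟩ := hu.2 b
    subst ha
    refine ⟨0, m, a, by rw [smul_eq_mul]; exact mem_deg_of_degMem hU hu.1 hb, ?_⟩
    rw [pow_zero, one_mul, one_mul]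
    refine hbW.trans ?_
    rw [hσ]
    rfl

end Proj

end EGA2SymLib

end
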