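import Mathlib
import Groth.Agent.EGA2SymLib.DegPart
import Groth.Agent.EGA2SymLib.SymPow
import Groth.Agent.QCSubLib.Main
import Groth.Agent.QCohLib.QcqsSections
import Groth.Prelude.Def_RelProj4

/-!
# The direct image of a quasi-coherent graded algebra
-/

set_option autoImplicit false
universe u

open CategoryTheory CategoryTheory.Limits AlgebraicGeometry TopologicalSpace Opposite

noncomputable section

namespace EGA2SymLib

variable {X S : Scheme.{u}} (q : X ⟶ S)

/-- sections over a basic open of a quasi-compact quasi-separated open are a localisation -/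
theorem isLocalization_of_qcqs (B : RelSpec.QCAlg X) {W W' : X.Opens} (hW : IsCompact (W : Set X))
    (hqs : IsQuasiSeparated (W : Set X)) (a : Γ(X, W)) (hW' : W' = X.basicOpen a) (h : W' ≤ W) :
    letI := (B.presheaf.map (homOfLE h).op).hom.toAlgebra
    IsLocalization.Away ((B.str.app (op W)).hom a) (B.presheaf.obj (op W')) := by
  subst hW'
  let _inst := (B.presheaf.map (homOfLE h).op).hom.toAlgebra
  haveI := QCSubLib.isQCoh_toModule B
  have H : QCohLib.LocalizingAt B.toModule a := QCohLib.localizingAt_of_qcqs B.toModule hW hqs a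
  let ρ := X.presheaf.map (homOfLE h).op
  let ρB := B.presheaf.map (homOfLE h).op
  have hnat : ∀ r, ρB.hom ((B.str.app (op W)).hom r) = (B.str.app (op (X.basicOpen a))).hom (ρ r) := fun r =>
    (congr($(B.str.naturality (homOfLE h).op) r)).symm
  have hu : IsUnit (ρ a) := RingedSpace.isUnit_res_basicOpen _ a
  refine (isLocalization_iff _ _).mpr ⟨?_, fun z => ?_, fun {x y} hxy => ?_⟩
  · rintro ⟨_, k, rfl⟩
    show IsUnit (ρB.hom (_ ^ k))
    rw [map_pow, hnat]
    exact (hu.map _).pow k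
  · obtain ⟨k, b, hb⟩ := H.exists_extend z
    refine ⟨⟨b, _, k, rfl⟩, ?_⟩
    show z * ρB.hom (_ ^ k) = ρB.hom b
    rw [map_pow, hnat, ← map_pow, mul_comm]
    exact hb.symm
  · have h0 : ρB.hom (x - y) = 0 := by
      rw [map_sub, sub_eq_zero]
      exact hxy
    obtain ⟨k, hk⟩ := H.eq_zero (show Γ(B.toModule, W) from x - y) h0
    refine ⟨⟨_, k, rfl⟩, ?_⟩
    show _ ^ k * x = _ ^ k * y
    rw [← sub_eq_zero, ← mul_sub, ← map_pow]
    refine Eq.trans ?_ hk
    show (B.str.app (op W)).hom (a ^ k) * (x - y) =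
      (B.str.app (op W)).hom ((X.presheaf.map (homOfLE le_rfl).op).hom a ^ k) * (x - y)
    rw [show (homOfLE (le_refl W)).op = 𝟙 (op W) from rfl, CategoryTheory.Functor.map_id, CommRingCat.hom_id,
      RingHom.id_apply]

/-- the direct image algebra -/
def pushAlg [QuasiCompact q] [QuasiSeparated q] (B : RelSpec.QCAlg X) : RelSpec.QCAlg S where
  presheaf := q.base _* B.presheaf
  isSheaf := TopCat.Sheaf.pushforward_sheaf_of_sheaf _ B.isSheaf
  str := q.c ≫ (TopCat.Presheaf.pushforward CommRingCat q.base).map B.str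
  isQC U hU r :=
    isLocalization_of_qcqs B (q.isCompact_preimage hU.isCompact)
      (q.isQuasiSeparated_preimage hU.isQuasiSeparated) (q.app U r) (q.preimage_basicOpen r) _

theorem pushAlg_str [QuasiCompact q] [QuasiSeparated q] (B : RelSpec.QCAlg X) (U : S.Opens) (r : Γ(S, U)) :
    ((pushAlg q B).str.app (op U)).hom r = (B.str.app (op (q ⁻¹ᵁ U))).hom (q.app U r) := rfl

/-- the direct image of the underlying module maps to the underlying module of the direct image -/
def pushToModule [QuasiCompact q] [QuasiSeparated q] (B : RelSpec.QCAlg X) :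
    (Scheme.Modules.pushforward q).obj B.toModule ⟶ (pushAlg q B).toModule :=
  ⟨PresheafOfModules.homMk (M₁ := ((Scheme.Modules.pushforward q).obj B.toModule).val)
    (M₂ := (pushAlg q B).toModule.val)
    { app := fun U => AddCommGrpCat.ofHom (AddMonoidHom.mk' (fun x => x) fun _ _ => rfl)
      naturality := fun _ _ _ => rfl }
    fun _ _ _ => rfl⟩

variable (𝒮' : RelProj.QCGrAlg X) [QuasiCompact q] [QuasiSeparated q]

/-- the degrees of the direct image -/
def pushDeg (U : S.Opens) (_hU : IsAffineOpen U) (d : ℕ) :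
    AddSubgroup ((pushAlg q 𝒮'.toQCAlg).presheaf.obj (op U)) where
  carrier := {x | DegMem 𝒮' d (q ⁻¹ᵁ U) x}
  zero_mem' V hV h := by
    show (𝒮'.presheaf.map (homOfLE h).op).hom (0 : 𝒮'.presheaf.obj (op (q ⁻¹ᵁ U))) ∈ _
    rw [map_zero]
    exact zero_mem _
  add_mem' {a b} ha hb V hV h := by
    show (𝒮'.presheaf.map (homOfLE h).op).hom ((show 𝒮'.presheaf.obj (op (q ⁻¹ᵁ U)) from a) +
      (show 𝒮'.presheaf.obj (op (q ⁻¹ᵁ U)) from b)) ∈ _
    rw [map_add]
    exact add_mem (ha V hV h) (hb V hV h)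
  neg_mem' {a} ha V hV h := by
    show (𝒮'.presheaf.map (homOfLE h).op).hom (-(show 𝒮'.presheaf.obj (op (q ⁻¹ᵁ U)) from a)) ∈ _
    rw [map_neg]
    exact neg_mem (ha V hV h)

theorem isInternal_pushDeg (U : S.Opens) (hU : IsAffineOpen U) :
    DirectSum.IsInternal (pushDeg q 𝒮' U hU) := by
  classical
  refine ⟨(injective_iff_map_eq_zero _).mpr fun g hg => DFinsupp.ext fun d => Subtype.ext ?_, fun x => ?_⟩
  · show ((g d : (pushAlg q 𝒮'.toQCAlg).presheaf.obj (op U))) = (0 : 𝒮'.presheaf.obj (op (q ⁻¹ᵁ U)))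
    refine sV_ext (𝒮L := 𝒮') fun y hy => ?_
    obtain ⟨V, hV, hyV, hle⟩ := exists_isAffineOpen_mem_and_subset (X := X) (x := y) (U := q ⁻¹ᵁ U) hy
    refine ⟨V, hle, hyV, ?_⟩
    let ι : ∀ d, pushDeg q 𝒮' U hU d →+ 𝒮'.deg V hV d := fun d =>
      AddMonoidHom.mk' (fun a => ⟨rres 𝒮' hle a.1, a.2 V hV hle⟩) fun a b => Subtype.ext (map_add _ a.1 b.1)
    have hcomp : ∀ g, DirectSum.coeAddMonoidHom (𝒮'.deg V hV) (DirectSum.map ι g) =
        rres 𝒮' hle (DirectSum.coeAddMonoidHom (pushDeg q 𝒮' U hU) g) := by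
      intro g
      induction g using DirectSum.induction_on with
      | zero => simp only [map_zero]; exact (map_zero _).symm
      | of i a =>
        rw [DirectSum.map_of, DirectSum.coeAddMonoidHom_of, DirectSum.coeAddMonoidHom_of]
        rfl
      | add a b ha hb =>
        rw [map_add, map_add, ha, hb, map_add]
        exact (map_add (𝒮'.presheaf.map (homOfLE hle).op).hom _ _).symm
    have h1 : DirectSum.map ι g = 0 := (DirectSum.Decomposition.isInternal (𝒮'.deg V hV)).1 (by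
      rw [hcomp g, hg, map_zero]
      exact map_zero _)
    have h2 : ι d (g d) = 0 := by
      rw [← DirectSum.map_apply, h1]
      rfl
    exact (congrArg Subtype.val h2).trans (map_zero _).symm
  · let a : 𝒮'.presheaf.obj (op (q ⁻¹ᵁ U)) := x
    let I := {V : X.affineOpens // V.1 ≤ q ⁻¹ᵁ U}
    have hcov : q ⁻¹ᵁ U ≤ ⨆ V : I, V.1.1 := fun y hy => by
      obtain ⟨V, hV, hyV, hle⟩ := exists_isAffineOpen_mem_and_subset (X := X) (x := y) (U := q ⁻¹ᵁ U) hy
      exact Opens.mem_iSup.mpr ⟨⟨⟨V, hV⟩, hle⟩, hyV⟩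
    let comp : ℕ → ∀ V : I, 𝒮'.presheaf.obj (op V.1.1) := fun d V =>
      (DirectSum.decompose (𝒮'.deg V.1.1 V.1.2) (rres 𝒮' V.2 a) d : 𝒮'.presheaf.obj (op V.1.1))
    have hglue : ∀ d, ∃ c : 𝒮'.presheaf.obj (op (q ⁻¹ᵁ U)), ∀ V : I, rres 𝒮' V.2 c = comp d V := fun d => by
      obtain ⟨c, hc, -⟩ := TopCat.Sheaf.existsUnique_gluing' (X := X.toTopCat)
        (⟨𝒮'.toModule.presheaf, 𝒮'.toModule.isSheaf⟩ : TopCat.Sheaf AddCommGrpCat _) (fun V : I => V.1.1)
        (q ⁻¹ᵁ U) (fun V => homOfLE V.2) hcov (fun V => (show Γ(𝒮'.toModule, V.1.1) from comp d V)) fun V V' => by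
          refine sV_ext (𝒮L := 𝒮') fun y hy => ?_
          obtain ⟨W, hW, hyW, hle⟩ := exists_isAffineOpen_mem_and_subset (X := X) (x := y) (U := V.1.1 ⊓ V'.1.1) hy
          refine ⟨W, hle, hyW, ?_⟩
          show rres 𝒮' _ (rres 𝒮' (inf_le_left : V.1.1 ⊓ V'.1.1 ≤ V.1.1) (comp d V)) =
            rres 𝒮' _ (rres 𝒮' (inf_le_right : V.1.1 ⊓ V'.1.1 ≤ V'.1.1) (comp d V'))
          rw [rres_rres, rres_rres, rres_decompose 𝒮' V.1.2 hW, rres_decompose 𝒮' V'.1.2 hW, rres_rres, rres_rres]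
      exact ⟨c, hc⟩
    choose c hc using hglue
    have hmem : ∀ d, DegMem 𝒮' d (q ⁻¹ᵁ U) (c d) := fun d V hV hle => by
      rw [hc d ⟨⟨V, hV⟩, hle⟩]
      exact SetLike.coe_mem _
    obtain ⟨t, ht⟩ := (q.isCompact_preimage hU.isCompact).elim_finite_subcover
      (fun V : I => (V.1.1 : Set X)) (fun V => V.1.1.2) (fun y hy => by
        obtain ⟨V, hV⟩ := Opens.mem_iSup.mp (hcov hy)
        exact Set.mem_iUnion.mpr ⟨V, hV⟩)
    let N := t.sup fun V => (DirectSum.decompose (𝒮'.deg V.1.1 V.1.2) (rres 𝒮' V.2 a)).support.sup id + 1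
    refine ⟨∑ d ∈ Finset.range N, DirectSum.of (fun d => pushDeg q 𝒮' U hU d) d ⟨c d, hmem d⟩, ?_⟩
    rw [map_sum]
    simp only [DirectSum.coeAddMonoidHom_of]
    show (∑ d ∈ Finset.range N, c d : 𝒮'.presheaf.obj (op (q ⁻¹ᵁ U))) = a
    refine sV_ext (𝒮L := 𝒮') fun y hy => ?_
    obtain ⟨V, hVt, hyV⟩ := Set.mem_iUnion₂.mp (ht hy)
    refine ⟨V.1.1, V.2, hyV, ?_⟩
    rw [map_sum]
    refine (Finset.sum_congr rfl fun d _ => hc d V).trans ?_
    refine Eq.trans ?_ (DirectSum.sum_support_decompose (𝒮'.deg V.1.1 V.1.2) (rres 𝒮' V.2 a))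
    refine (Finset.sum_subset ?_ fun d _ hd => ?_).symm
    · intro d hd
      refine Finset.mem_range.mpr (lt_of_lt_of_le (Nat.lt_succ_of_le (Finset.le_sup (f := id) hd)) ?_)
      exact Finset.le_sup
        (f := fun V : I => (DirectSum.decompose (𝒮'.deg V.1.1 V.1.2) (rres 𝒮' V.2 a)).support.sup id + 1) hVt
    · show ((DirectSum.decompose (𝒮'.deg V.1.1 V.1.2) (rres 𝒮' V.2 a) d : _) : 𝒮'.presheaf.obj (op V.1.1)) = 0
      rw [DFinsupp.notMem_support_iff.mp hd]
      rfl

/-- the direct image of a graded algebra -/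
def pushGr : RelProj.QCGrAlg S where
  toQCAlg := pushAlg q 𝒮'.toQCAlg
  deg := pushDeg q 𝒮'
  graded U hU :=
    { (show SetLike.GradedMonoid (pushDeg q 𝒮' U hU) from
        { one_mem := fun V hV h => by
            show rres 𝒮' h (1 : 𝒮'.presheaf.obj (op (q ⁻¹ᵁ U))) ∈ _
            rw [rres, map_one]
            exact SetLike.GradedOne.one_mem
          mul_mem := fun {i k a b} ha hb V hV h => by
            show rres 𝒮' h ((show 𝒮'.presheaf.obj (op (q ⁻¹ᵁ U)) from a) *
              (show 𝒮'.presheaf.obj (op (q ⁻¹ᵁ U)) from b)) ∈ _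
            rw [rres, map_mul]
            exact SetLike.mul_mem_graded (ha V hV h) (hb V hV h) }),
      (isInternal_pushDeg q 𝒮' U hU).chooseDecomposition with }
  map_mem {U V} hU hV i {d x} hx := fun W hW h => by
    show rres 𝒮' h (rres 𝒮' (q.preimage_mono i) x) ∈ _
    rw [rres_rres]
    exact hx W hW _
  str_mem U hU r := fun V hV h => by
    show rres 𝒮' h ((𝒮'.str.app (op (q ⁻¹ᵁ U))).hom (q.app U r)) ∈ _
    rw [rres_str]
    exact 𝒮'.str_mem V hV _

/-- the tautological morphism out of the direct image -/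
def pushHom : RelProj.QGrHom q (pushGr q 𝒮') 𝒮' where
  app _ := 𝟙 _
  naturality _ := (Category.id_comp _).trans (Category.comp_id _).symm
  str_app _ := Category.comp_id _
  map_mem _ _ U' hU' hle _ _ hx := hx U' hU' hle

end EGA2SymLib

end
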