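import Mathlib.AlgebraicGeometry.ProjectiveSpectrum.Functor
import Mathlib.AlgebraicGeometry.Morphisms.ClosedImmersion
import Mathlib.RingTheory.GradedAlgebra.RingHom

/-!
# `Proj` of a graded homomorphism surjective in positive degrees is a closed immersion,
and surjectivity in positive degrees from surjectivity in degree one
-/

set_option autoImplicit false
universe u

open CategoryTheory CategoryTheory.Limits AlgebraicGeometry TopologicalSpace HomogeneousLocalization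
open scoped HomogeneousIdeal

noncomputable section

namespace EGA2SymLib

variable {A B σ τ : Type u} [CommRing A] [SetLike σ A] [AddSubgroupClass σ A]
  [CommRing B] [SetLike τ B] [AddSubgroupClass τ B]
  {𝒜 : ℕ → σ} {ℬ : ℕ → τ} [GradedRing 𝒜] [GradedRing ℬ] (φ : 𝒜 →+*ᵍ ℬ)

/-- Surjective in all positive degrees. -/
def PosSurj : Prop := ∀ k, 0 < k → ∀ b ∈ ℬ k, ∃ a ∈ 𝒜 k, φ a = b

theorem posSurj_of_gen (hgen : Subring.closure ((ℬ 0 : Set B) ∪ (ℬ 1 : Set B)) = ⊤)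
    (h1 : ∀ b ∈ ℬ 1, ∃ a ∈ 𝒜 1, φ a = b) : PosSurj φ := by
  classical
  let J : Ideal A := Ideal.span (𝒜 1 : Set A)
  let C : Ideal A :=
    { carrier := {t | ∀ s ∈ ℬ 0, ∃ a ∈ J, φ a = s * φ t}
      add_mem' := fun {x y} hx hy s hs => by
        obtain ⟨a, ha, ha'⟩ := hx s hs
        obtain ⟨b, hb, hb'⟩ := hy s hs
        exact ⟨a + b, J.add_mem ha hb, by rw [map_add, map_add, ha', hb', mul_add]⟩
      zero_mem' := fun s _ => ⟨0, J.zero_mem, by rw [map_zero, mul_zero]⟩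
      smul_mem' := fun c x hx s hs => by
        obtain ⟨a, ha, ha'⟩ := hx s hs
        exact ⟨c * a, J.mul_mem_left _ ha, by rw [map_mul, ha', smul_eq_mul, map_mul]; ring⟩ }
  have hJC : J ≤ C := Ideal.span_le.mpr fun t ht s hs => by
    obtain ⟨a, ha, ha'⟩ := h1 (s * φ t) (by simpa using SetLike.mul_mem_graded hs (φ.map_mem ht))
    exact ⟨a, Ideal.subset_span ha, ha'⟩
  let R' : Subring B :=
    { carrier := {x | ∃ s ∈ ℬ 0, ∃ t ∈ J, x = s + φ t}
      mul_mem' := by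
        rintro _ _ ⟨s, hs, t, ht, rfl⟩ ⟨s', hs', t', ht', rfl⟩
        obtain ⟨a, ha, ha'⟩ := hJC ht' s hs
        obtain ⟨b, hb, hb'⟩ := hJC ht s' hs'
        exact ⟨s * s', by simpa using SetLike.mul_mem_graded hs hs', a + b + t * t',
          J.add_mem (J.add_mem ha hb) (J.mul_mem_left _ ht'), by
            rw [map_add, map_add, map_mul, ha', hb']; ring⟩
      one_mem' := ⟨1, SetLike.one_mem_graded ℬ, 0, J.zero_mem, by simp⟩
      add_mem' := by
        rintro _ _ ⟨s, hs, t, ht, rfl⟩ ⟨s', hs', t', ht', rfl⟩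
        exact ⟨s + s', add_mem hs hs', t + t', J.add_mem ht ht', by rw [map_add]; abel⟩
      zero_mem' := ⟨0, zero_mem _, 0, J.zero_mem, by simp⟩
      neg_mem' := by
        rintro _ ⟨s, hs, t, ht, rfl⟩
        exact ⟨-s, neg_mem hs, -t, J.neg_mem ht, by rw [map_neg]; abel⟩ }
  have hR : (⊤ : Subring B) ≤ R' := by
    rw [← hgen, Subring.closure_le]
    rintro x (hx | hx)
    · exact ⟨x, hx, 0, J.zero_mem, by simp⟩
    · obtain ⟨a, ha, rfl⟩ := h1 x hx
      exact ⟨0, zero_mem _, a, Ideal.subset_span ha, by simp⟩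
  intro k hk b hb
  obtain ⟨s, hs, t, -, he⟩ := hR (Subring.mem_top b)
  refine ⟨DirectSum.decompose 𝒜 t k, SetLike.coe_mem _, ?_⟩
  rw [GradedRingHom.map_directSumDecompose, eq_sub_of_add_eq' he.symm, DirectSum.decompose_sub,
    DirectSum.sub_apply, AddSubgroupClass.coe_sub, DirectSum.decompose_of_mem_same ℬ hb,
    DirectSum.decompose_of_mem_ne ℬ hs hk.ne, sub_zero]

lemma awayMap_surjective (hs : PosSurj φ) {t : A} {d : ℕ} (ht : t ∈ 𝒜 d) (hd : 0 < d) :
    Function.Surjective (Away.map φ t) := by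
  intro z
  obtain ⟨k, b, hb, rfl⟩ := Away.mk_surjective ℬ (φ.map_mem ht) z
  have hb' : b * φ t ∈ ℬ ((k + 1) • d) := by
    rw [succ_nsmul]; exact SetLike.mul_mem_graded hb (φ.map_mem ht)
  obtain ⟨a, ha, hab⟩ := hs _ (by simp [hd]) _ hb'
  refine ⟨Away.mk 𝒜 ht (k + 1) a ha, ?_⟩
  rw [Away.map_mk φ t ht (k + 1) a ha]
  ext
  simp only [Away.val_mk, hab]
  rw [Localization.mk_eq_mk_iff, Localization.r_iff_exists]
  exact ⟨1, by
    simp only [OneMemClass.coe_one, one_mul, pow_succ]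
    change φ t ^ k * (b * φ t) = φ t ^ k * φ t * b
    ring⟩

lemma map_appLE_surjective (hs : PosSurj φ)
    (hφ : HomogeneousIdeal.irrelevant ℬ ≤ (HomogeneousIdeal.irrelevant 𝒜).map φ) {t : A} {d : ℕ}
    (ht : t ∈ 𝒜 d) (hd : 0 < d) :
    Function.Surjective ((Proj.map φ hφ).appLE (Proj.basicOpen 𝒜 t) (Proj.basicOpen ℬ (φ t)) (by rfl)) := by
  intro y
  have : IsIso (Proj.awayToSection ℬ (φ t)) := by
    rw [← Proj.basicOpenIsoAway_hom ℬ (φ t) (φ.map_mem ht) hd]
    infer_instance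
  obtain ⟨w, rfl⟩ := (ConcreteCategory.bijective_of_isIso (Proj.awayToSection ℬ (φ t))).2 y
  obtain ⟨z, rfl⟩ := awayMap_surjective φ hs ht hd w
  exact ⟨Proj.awayToSection 𝒜 t z,
    congrArg (fun g => g z) (Proj.awayToSection_comp_appLE φ hφ ht)⟩

theorem isClosedImmersion_map (hs : PosSurj φ)
    (hφ : HomogeneousIdeal.irrelevant ℬ ≤ (HomogeneousIdeal.irrelevant 𝒜).map φ) :
    IsClosedImmersion (Proj.map φ hφ) := by
  refine IsZariskiLocalAtTarget.of_iSup_eq_top (P := @IsClosedImmersion)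
    (fun t : Σ d : {d : ℕ // 0 < d}, 𝒜 d.1 => Proj.basicOpen 𝒜 (t.2 : A)) ?_ fun ⟨⟨d, hd⟩, t, ht⟩ => ?_
  · refine eq_top_iff.mpr fun x _ => ?_
    by_contra hne
    simp only [SetLike.mem_coe, Opens.mem_iSup, not_exists] at hne
    refine x.not_irrelevant_le fun a ha => ?_
    classical
    change a ∈ x.asHomogeneousIdeal.toIdeal
    rw [← DirectSum.sum_support_decompose 𝒜 a]
    refine Ideal.sum_mem _ fun k hk => ?_
    rcases Nat.eq_zero_or_pos k with rfl | hk0
    · replace ha := (HomogeneousIdeal.mem_irrelevant_iff 𝒜 a).mp ha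
      rw [GradedRing.proj_apply] at ha
      rw [ha]; exact Ideal.zero_mem _
    · by_contra hnx
      exact hne ⟨⟨k, hk0⟩, DirectSum.decompose 𝒜 a k⟩ hnx
  let U := Proj.basicOpen 𝒜 t
  have : IsAffine U.toScheme := Proj.isAffineOpen_basicOpen 𝒜 t ht hd
  have : IsAffine (Proj.map φ hφ ⁻¹ᵁ U).toScheme := by
    change IsAffine (Proj.basicOpen ℬ (φ t)).toScheme
    exact Proj.isAffineOpen_basicOpen ℬ (φ t) (φ.map_mem ht) hd
  refine (HasAffineProperty.iff_of_isAffine (P := @IsClosedImmersion)).mpr ⟨this, ?_⟩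
  have e : (Proj.map φ hφ ∣_ U).appTop = U.topIso.hom ≫
      (Proj.map φ hφ).appLE U (Proj.map φ hφ ⁻¹ᵁ U) le_rfl ≫ (Proj.map φ hφ ⁻¹ᵁ U).topIso.inv := by
    rw [← Scheme.Hom.resLE_eq_morphismRestrict, Scheme.Hom.appTop, Scheme.Hom.resLE_app_top]
  rw [e]
  simp only [CommRingCat.hom_comp, RingHom.coe_comp]
  exact ((ConcreteCategory.bijective_of_isIso (Proj.map φ hφ ⁻¹ᵁ U).topIso.inv).2.comp
    (map_appLE_surjective φ hs hφ ht hd)).comp (ConcreteCategory.bijective_of_isIso U.topIso.hom).2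

end EGA2SymLib

end
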