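import Mathlib
import Groth.Agent.EGA2SymLib.DegPart
import Groth.Agent.EGA2SymLib.SymGrExists
import Groth.Agent.EGA2SymLib.QGrLift
import Groth.Agent.EGA2SymLib.PosSurj
import Groth.Agent.GrModLib6.RelPullTwist
import Groth.Agent.MiscFlat6.RelProjExist
import Groth.Agent.MiscFlat6.RelProjGlue

/-!
# A relative Proj generated in degree one inside a projective bundle
-/

set_option autoImplicit false
universe u

open CategoryTheory CategoryTheory.Limits AlgebraicGeometry TopologicalSpace Opposite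
open scoped HomogeneousIdeal

noncomputable section

namespace EGA2SymLib

/-- very ampleness from an immersion into a relative Proj generated in degree one -/
theorem isRelVeryAmple_of_immersion_genDegOne {X Y P : Scheme.{u}} (q : X ⟶ Y) (L : X.Modules)
    {𝒮 : RelProj.QCGrAlg Y} (h𝒮 : 𝒮.IsGenDegOne) {p : P ⟶ Y}
    {chart : ∀ (U : Y.Opens) (hU : IsAffineOpen U), ((p ⁻¹ᵁ U : P.Opens) : Scheme.{u}) ≅ Proj (𝒮.deg U hU)}
    (hP : RelProj.IsRelProj 𝒮 p chart) {O1 : P.Modules}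
    {lam : ∀ (U : Y.Opens) (hU : IsAffineOpen U),
      O1 ⟶ (Scheme.Modules.pushforward (RelProj.emb p chart U hU)).obj (GrTwist.twist (𝒮.deg U hU) 1)}
    (hO1 : RelProj.IsRelTwist 𝒮 p chart 1 O1 lam) (i : X ⟶ P) [IsImmersion i] (hi : i ≫ p = q)
    (e : L ≅ (Scheme.Modules.pullback i).obj O1) : RelProj.IsRelVeryAmple q L := by
  let E := degPart 𝒮 1
  haveI hE : Coh.IsQCoh E := isQCoh_degPart 𝒮 1
  obtain ⟨𝒯, k, hk⟩ := exists_isGrSymAlg E
  obtain ⟨π, hπ, -⟩ := hk.1 𝒮.toQCAlg (degIncl 𝒮 1)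
  have hπj : ∀ (U : Y.Opens) (x : Γ(E, U)), (π.hom.app (op U)).hom (jS k U x) = (degIncl 𝒮 1).app U x :=
    fun U x => congr($(hπ).app U x)
  have hπg : RelProj.IsGradedHom π := by
    intro U hU d x hx
    refine map_mem_of_gen (π.hom.app (op U)).hom (SymGenLib.isGenDegOne hk U hU) (fun y hy => ?_) (fun y hy => ?_) hx
    · obtain ⟨r, rfl⟩ := exists_of_mem_zero hk hU hy
      rw [show (π.hom.app (op U)).hom ((𝒯.str.app (op U)).hom r) = (𝒮.str.app (op U)).hom r from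
        congr($(NatTrans.congr_app π.comm (op U)) r)]
      exact 𝒮.str_mem U hU r
    · obtain ⟨x, rfl⟩ := exists_of_mem_one hk U hU hy
      rw [hπj]
      exact degIncl_mem 𝒮 1 hU x
  have hpos : ∀ (U : Y.Opens) (hU : IsAffineOpen U), PosSurj (RelProj.gradedHomAt π hπg U hU) := fun U hU =>
    posSurj_of_gen _ (h𝒮 U hU) fun b hb => by
      obtain ⟨x, rfl⟩ := exists_degIncl_eq 𝒮 1 hU hb
      exact ⟨_, hk.2 U hU x, hπj U x⟩
  have hirr : ∀ (U : Y.Opens) (hU : IsAffineOpen U),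
      (𝒮.deg U hU)₊ ≤ ((𝒯.deg U hU)₊).map (RelProj.gradedHomAt π hπg U hU) := fun U hU => by
    refine (HomogeneousIdeal.irrelevant_le _).mpr fun n hn b hb => ?_
    obtain ⟨a, ha, rfl⟩ := hpos U hU n hn b hb
    exact Ideal.mem_map_of_mem _ (HomogeneousIdeal.mem_irrelevant_of_mem _ hn ha)
  obtain ⟨Q, pQ, chartQ, hQ⟩ := MiscFlat6.exists_relProj 𝒯
  obtain ⟨⟨h, hh, -⟩, hover⟩ := MiscFlat6.existsUnique_relProjMap (φ := π) (hφ := hπg) (hirr := hirr) hQ hP
  haveI : IsClosedImmersion h := MiscFlat6.relProjMap_of_local hQ hP hh @IsClosedImmersion fun U hU =>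
    isClosedImmersion_map _ (hpos U hU) _
  obtain ⟨OQ, lamQ, hOQ⟩ := GrModLib6.exists_isRelTwist hQ 1
  obtain ⟨l, hl⟩ := GrModLib6.isRelTwist_congr (show (1 : ℤ) = 1 * ((1 : ℕ) : ℤ) by simp) hO1
  obtain ⟨l', hl'⟩ := GrModLib6.isRelTwist_congr (show (1 : ℤ) = 1 * ((1 : ℕ) : ℤ) by simp) hOQ
  obtain ⟨θ⟩ := GrModLib6.exists_pullback_twist_iso (SymGenLib.isGenDegOne hk) hQ hP hh hl' hl
  exact ⟨E, hE, 𝒯, k, hk, Q, pQ, chartQ, hQ, OQ, lamQ, hOQ, i ≫ h, inferInstance,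
    by rw [Category.assoc, hover h hh, hi],
    ⟨e ≪≫ (Scheme.Modules.pullback i).mapIso θ.symm ≪≫ (Scheme.Modules.pullbackComp i h).app OQ⟩⟩

end EGA2SymLib

end
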