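import Mathlib
import Groth.Agent.EGA2SymLib.GenOne
import Groth.Agent.EGA2SymLib.BaseChange
import Groth.Agent.EGA2SymLib.Coprod
import Groth.Agent.MiscFlat6.CoprodQProj
import Groth.Agent.RpushLib.AdjIso
import Groth.Agent.S5734

/-!
# Very ampleness and disjoint unions
-/

set_option autoImplicit false
universe u

open CategoryTheory CategoryTheory.Limits AlgebraicGeometry TopologicalSpace Opposite
open scoped HomogeneousIdeal

noncomputable section

namespace EGA2SymLib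

section glue

variable {X X' : Scheme.{u}} (M : (X ⨿ X').Modules)

/-- a module on a disjoint union is the sum of the direct images of its restrictions -/
theorem nonempty_iso_biprod_push :
    Nonempty (M ≅ (Scheme.Modules.pushforward (coprod.inl : X ⟶ X ⨿ X')).obj
        ((Scheme.Modules.pullback (coprod.inl : X ⟶ X ⨿ X')).obj M) ⊞
      (Scheme.Modules.pushforward (coprod.inr : X' ⟶ X ⨿ X')).obj
        ((Scheme.Modules.pullback (coprod.inr : X' ⟶ X ⨿ X')).obj M)) := by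
  let il : X ⟶ X ⨿ X' := coprod.inl
  let ir : X' ⟶ X ⨿ X' := coprod.inr
  let al := Scheme.Modules.pullbackPushforwardAdjunction il
  let ar := Scheme.Modules.pullbackPushforwardAdjunction ir
  let f : M ⟶ _ := biprod.lift (al.unit.app M) (ar.unit.app M)
  have hd : Disjoint (Set.range il) (Set.range ir) := (isCompl_range_inl_inr X X').disjoint
  haveI : (Scheme.Modules.pullback il).IsLeftAdjoint := al.isLeftAdjoint
  haveI : (Scheme.Modules.pullback ir).IsLeftAdjoint := ar.isLeftAdjoint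
  let A := (Scheme.Modules.pushforward il).obj ((Scheme.Modules.pullback il).obj M)
  let B := (Scheme.Modules.pushforward ir).obj ((Scheme.Modules.pullback ir).obj M)
  haveI := preservesBinaryBiproduct_of_preservesBinaryCoproduct (Scheme.Modules.pullback il) (X := A) (Y := B)
  haveI := preservesBinaryBiproduct_of_preservesBinaryCoproduct (Scheme.Modules.pullback ir) (X := A) (Y := B)
  haveI : (Scheme.Modules.pushforward il).Full := al.fullyFaithfulROfIsIsoCounit.full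
  haveI : (Scheme.Modules.pushforward il).Faithful := al.fullyFaithfulROfIsIsoCounit.faithful
  haveI : (Scheme.Modules.pushforward ir).Full := ar.fullyFaithfulROfIsIsoCounit.full
  haveI : (Scheme.Modules.pushforward ir).Faithful := ar.fullyFaithfulROfIsIsoCounit.faithful
  have hl : IsIso ((Scheme.Modules.pullback il).map f) := by
    have h0 : IsIso ((Scheme.Modules.pullback il).map (al.unit.app M)) :=
      IsIso.of_isIso_fac_right (al.left_triangle_components M)
    let e := (Scheme.Modules.pullback il).mapBiprod A B ≪≫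
      (isoBiprodZero (MiscFlat6.isZero_pullback_push_disjoint il ir hd _)).symm
    have he : (Scheme.Modules.pullback il).map f ≫ e.hom = (Scheme.Modules.pullback il).map (al.unit.app M) := by
      show (Scheme.Modules.pullback il).map f ≫ _ ≫ biprod.fst = _
      rw [Functor.mapBiprod_hom, biprod.lift_fst, ← Functor.map_comp]
      exact congrArg _ (biprod.lift_fst _ _)
    exact IsIso.of_isIso_fac_right he
  have hr : IsIso ((Scheme.Modules.pullback ir).map f) := by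
    have h0 : IsIso ((Scheme.Modules.pullback ir).map (ar.unit.app M)) :=
      IsIso.of_isIso_fac_right (ar.left_triangle_components M)
    let e := (Scheme.Modules.pullback ir).mapBiprod A B ≪≫
      (isoZeroBiprod (MiscFlat6.isZero_pullback_push_disjoint ir il hd.symm _)).symm
    have he : (Scheme.Modules.pullback ir).map f ≫ e.hom = (Scheme.Modules.pullback ir).map (ar.unit.app M) := by
      show (Scheme.Modules.pullback ir).map f ≫ _ ≫ biprod.snd = _
      rw [Functor.mapBiprod_hom, biprod.lift_snd, ← Functor.map_comp]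
      exact congrArg _ (biprod.lift_snd _ _)
    exact IsIso.of_isIso_fac_right he
  have key : ∀ {W : Scheme.{u}} (i : W ⟶ X ⨿ X') [IsOpenImmersion i],
      IsIso ((Scheme.Modules.pullback i).map f) →
      ∀ U : (X ⨿ X').Opens, U ≤ i.opensRange → Function.Bijective (f.app U) := by
    intro W i _ hi U hU
    haveI : IsIso ((Scheme.Modules.restrictFunctor i).map f) :=
      (NatIso.isIso_map_iff (Scheme.Modules.restrictFunctorIsoPullback i) f).mpr hi
    have h : Function.Bijective (((Scheme.Modules.restrictFunctor i).map f).app (i ⁻¹ᵁ U)) :=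
      ConcreteCategory.bijective_of_isIso (((Scheme.Modules.restrictFunctor i).map f).app (i ⁻¹ᵁ U))
    have e : i ''ᵁ (i ⁻¹ᵁ U) = U := by
      rw [Scheme.Hom.image_preimage_eq_opensRange_inf]; exact inf_eq_right.mpr hU
    have h' : Function.Bijective (f.app (i ''ᵁ (i ⁻¹ᵁ U))) := h
    rw [e] at h'
    exact h'
  haveI : IsIso f := RpushLib.isIso_of_bijective_basis f
    (B := {U : (X ⨿ X').Opens | U ≤ il.opensRange ∨ U ≤ ir.opensRange})
    (Opens.isBasis_iff_nbhd.mpr fun {O z} hz => by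
      rcases (Set.ext_iff.mp (isCompl_range_inl_inr X X').sup_eq_top z).mpr trivial with h | h
      · exact ⟨O ⊓ il.opensRange, Or.inl inf_le_right, ⟨hz, h⟩, inf_le_left⟩
      · exact ⟨O ⊓ ir.opensRange, Or.inr inf_le_right, ⟨hz, h⟩, inf_le_left⟩)
    fun U hU => hU.elim (fun h => key il hl U h) (fun h => key ir hr U h)
  exact ⟨asIso f⟩

theorem nonempty_iso_of_restrictions (N : (X ⨿ X').Modules)
    (h : Nonempty ((Scheme.Modules.pullback (coprod.inl : X ⟶ X ⨿ X')).obj M ≅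
      (Scheme.Modules.pullback (coprod.inl : X ⟶ X ⨿ X')).obj N))
    (h' : Nonempty ((Scheme.Modules.pullback (coprod.inr : X' ⟶ X ⨿ X')).obj M ≅
      (Scheme.Modules.pullback (coprod.inr : X' ⟶ X ⨿ X')).obj N)) : Nonempty (M ≅ N) := by
  obtain ⟨e⟩ := nonempty_iso_biprod_push M
  obtain ⟨e'⟩ := nonempty_iso_biprod_push N
  obtain ⟨a⟩ := h
  obtain ⟨b⟩ := h'
  exact ⟨e ≪≫ biprod.mapIso ((Scheme.Modules.pushforward _).mapIso a) ((Scheme.Modules.pushforward _).mapIso b) ≪≫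
    e'.symm⟩

end glue

/-- a split surjection of modules gives a closed subscheme of the projective bundle -/
theorem exists_quotient_bundle {Y P PG : Scheme.{u}} {E G : Y.Modules} [Coh.IsQCoh E] [Coh.IsQCoh G]
    (π₀ : G ⟶ E) (s₀ : E ⟶ G) (hs : s₀ ≫ π₀ = 𝟙 E) {𝒮 𝒯 : RelProj.QCGrAlg Y} {j : E ⟶ 𝒮.toModule}
    (hj : RelProj.IsGrSymAlg E 𝒮 j) {k : G ⟶ 𝒯.toModule} (hk : RelProj.IsGrSymAlg G 𝒯 k) {p : P ⟶ Y}
    {chart : ∀ (U : Y.Opens) (hU : IsAffineOpen U), ((p ⁻¹ᵁ U : P.Opens) : Scheme.{u}) ≅ Proj (𝒮.deg U hU)}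
    (hP : RelProj.IsRelProj 𝒮 p chart) {O1 : P.Modules}
    {lam : ∀ (U : Y.Opens) (hU : IsAffineOpen U),
      O1 ⟶ (Scheme.Modules.pushforward (RelProj.emb p chart U hU)).obj (GrTwist.twist (𝒮.deg U hU) 1)}
    (hO1 : RelProj.IsRelTwist 𝒮 p chart 1 O1 lam) {q : PG ⟶ Y}
    {chartQ : ∀ (U : Y.Opens) (hU : IsAffineOpen U), ((q ⁻¹ᵁ U : PG.Opens) : Scheme.{u}) ≅ Proj (𝒯.deg U hU)}
    (hQ : RelProj.IsRelProj 𝒯 q chartQ) {OQ : PG.Modules}
    {lamQ : ∀ (U : Y.Opens) (hU : IsAffineOpen U),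
      OQ ⟶ (Scheme.Modules.pushforward (RelProj.emb q chartQ U hU)).obj (GrTwist.twist (𝒯.deg U hU) 1)}
    (hOQ : RelProj.IsRelTwist 𝒯 q chartQ 1 OQ lamQ) :
    ∃ (π : 𝒯.toQCAlg ⟶ 𝒮.toQCAlg) (hπ : RelProj.IsGradedHom π)
      (_ : k ≫ RelSpec.QCAlg.Hom.toModuleMap π = π₀ ≫ j)
      (hirr : ∀ (U : Y.Opens) (hU : IsAffineOpen U),
        (𝒮.deg U hU)₊ ≤ ((𝒯.deg U hU)₊).map (RelProj.gradedHomAt π hπ U hU))
      (h : P ⟶ PG), RelProj.IsRelProjMap π hπ hirr chartQ chart h ∧ h ≫ q = p ∧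
        Nonempty ((Scheme.Modules.pullback h).obj OQ ≅ O1) := by
  obtain ⟨π, hπ, -⟩ := hk.1 𝒮.toQCAlg (π₀ ≫ j)
  have hπj : ∀ (U : Y.Opens) (x : Γ(G, U)), (π.hom.app (op U)).hom (jS k U x) = jS j U (π₀.app U x) :=
    fun U x => congr($(hπ).app U x)
  have hπg : RelProj.IsGradedHom π := by
    intro U hU d x hx
    refine map_mem_of_gen (π.hom.app (op U)).hom (SymGenLib.isGenDegOne hk U hU) (fun y hy => ?_) (fun y hy => ?_) hx
    · obtain ⟨r, rfl⟩ := exists_of_mem_zero hk hU hy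
      rw [show (π.hom.app (op U)).hom ((𝒯.str.app (op U)).hom r) = (𝒮.str.app (op U)).hom r from
        congr($(NatTrans.congr_app π.comm (op U)) r)]
      exact 𝒮.str_mem U hU r
    · obtain ⟨x, rfl⟩ := exists_of_mem_one hk U hU hy
      rw [hπj]
      exact hj.2 U hU _
  have hpos : ∀ (U : Y.Opens) (hU : IsAffineOpen U), PosSurj (RelProj.gradedHomAt π hπg U hU) := fun U hU =>
    posSurj_of_gen _ (SymGenLib.isGenDegOne hj U hU) fun b hb => by
      obtain ⟨x, rfl⟩ := exists_of_mem_one hj U hU hb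
      refine ⟨_, hk.2 U hU (s₀.app U x), (hπj U _).trans (congrArg (jS j U) ?_)⟩
      exact congr($(hs).app U x)
  have hirr : ∀ (U : Y.Opens) (hU : IsAffineOpen U),
      (𝒮.deg U hU)₊ ≤ ((𝒯.deg U hU)₊).map (RelProj.gradedHomAt π hπg U hU) := fun U hU => by
    refine (HomogeneousIdeal.irrelevant_le _).mpr fun n hn b hb => ?_
    obtain ⟨a, ha, rfl⟩ := hpos U hU n hn b hb
    exact Ideal.mem_map_of_mem _ (HomogeneousIdeal.mem_irrelevant_of_mem _ hn ha)
  obtain ⟨⟨h, hh, -⟩, hover⟩ := MiscFlat6.existsUnique_relProjMap (φ := π) (hφ := hπg) (hirr := hirr) hQ hP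
  obtain ⟨l, hl⟩ := GrModLib6.isRelTwist_congr (show (1 : ℤ) = 1 * ((1 : ℕ) : ℤ) by simp) hO1
  obtain ⟨l', hl'⟩ := GrModLib6.isRelTwist_congr (show (1 : ℤ) = 1 * ((1 : ℕ) : ℤ) by simp) hOQ
  exact ⟨π, hπg, hπ, hirr, h, hh, hover h hh,
    GrModLib6.exists_pullback_twist_iso (SymGenLib.isGenDegOne hk) hQ hP hh hl' hl⟩

theorem isRelVeryAmple_coprod_iff {X X' Y : Scheme.{u}} (f'' : X ⨿ X' ⟶ Y) (L'' : (X ⨿ X').Modules) :
    RelProj.IsRelVeryAmple f'' L'' ↔
      RelProj.IsRelVeryAmple (coprod.inl ≫ f'')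
          ((Scheme.Modules.pullback (coprod.inl : X ⟶ X ⨿ X')).obj L'') ∧
        RelProj.IsRelVeryAmple (coprod.inr ≫ f'')
          ((Scheme.Modules.pullback (coprod.inr : X' ⟶ X ⨿ X')).obj L'') := by
  refine ⟨fun h => ⟨isRelVeryAmple_comp_immersion _ f'' L'' h _ (Iso.refl _),
    isRelVeryAmple_comp_immersion _ f'' L'' h _ (Iso.refl _)⟩, fun ⟨h, h'⟩ => ?_⟩
  obtain ⟨E, hE, 𝒮, j, hj, P, p, chart, hP, O, lam, hO, i, hi, hip, ⟨e⟩⟩ := h
  obtain ⟨E', hE', 𝒮', j', hj', P', p', chart', hP', O', lam', hO', i', hi', hip', ⟨e'⟩⟩ := h'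
  haveI := hE; haveI := hE'
  haveI hG : Coh.IsQCoh (E ⊞ E') := QCohLib.isQCoh_biprod _ _
  obtain ⟨𝒯, k, hk⟩ := exists_isGrSymAlg (E ⊞ E')
  obtain ⟨Q, q, chartQ, hQ⟩ := MiscFlat6.exists_relProj 𝒯
  obtain ⟨OQ, lamQ, hOQ⟩ := GrModLib6.exists_isRelTwist hQ 1
  obtain ⟨π, hπg, hπ, hirr, m, hm, hmq, ⟨θ⟩⟩ :=
    exists_quotient_bundle biprod.fst biprod.inl biprod.inl_fst hj hk hP hO hQ hOQ
  obtain ⟨π', hπg', hπ', hirr', m', hm', hmq', ⟨θ'⟩⟩ :=
    exists_quotient_bundle biprod.snd biprod.inr biprod.inr_snd hj' hk hP' hO' hQ hOQ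
  haveI := Groth.Agent.S5734.result E E' hE hE' 𝒮 𝒮' 𝒯 j hj j' hj' k hk π hπg hπ π' hπg' hπ' hirr hirr'
    q p p' chartQ chart chart' hQ hP hP' m hm m' hm'
  haveI := hi; haveI := hi'
  haveI : IsImmersion (coprod.map i i') := IsZariskiLocalAtTarget.coprodMap (P := @IsImmersion) i i' hi hi'
  let ι : X ⨿ X' ⟶ Q := coprod.map i i' ≫ coprod.desc m m'
  have hl : coprod.inl ≫ ι = i ≫ m := by simp only [ι, coprod.map_desc, coprod.inl_desc]
  have hr : coprod.inr ≫ ι = i' ≫ m' := by simp only [ι, coprod.map_desc, coprod.inr_desc]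
  refine ⟨E ⊞ E', hG, 𝒯, k, hk, Q, q, chartQ, hQ, OQ, lamQ, hOQ, ι, inferInstance, ?_, ?_⟩
  · apply coprod.hom_ext
    · rw [← Category.assoc, hl, Category.assoc, hmq, hip]
    · rw [← Category.assoc, hr, Category.assoc, hmq', hip']
  · exact nonempty_iso_of_restrictions L'' _
      ⟨e ≪≫ (Scheme.Modules.pullback i).mapIso θ.symm ≪≫ (Scheme.Modules.pullbackComp i m).app OQ ≪≫
        (Scheme.Modules.pullbackCongr hl.symm).app OQ ≪≫ ((Scheme.Modules.pullbackComp coprod.inl ι).app OQ).symm⟩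
      ⟨e' ≪≫ (Scheme.Modules.pullback i').mapIso θ'.symm ≪≫ (Scheme.Modules.pullbackComp i' m').app OQ ≪≫
        (Scheme.Modules.pullbackCongr hr.symm).app OQ ≪≫ ((Scheme.Modules.pullbackComp coprod.inr ι).app OQ).symm⟩

end EGA2SymLib

end
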