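import Groth.Agent.RelConeLib.QMap
import Mathlib.AlgebraicGeometry.Morphisms.ClosedImmersion

/-!
# (TN)-surjective and (TN)-bijective graded homomorphisms
-/

set_option autoImplicit false
universe u

open CategoryTheory CategoryTheory.Limits AlgebraicGeometry TopologicalSpace Opposite HomogeneousLocalization
open ConeRetrLib (Idx)
open scoped HomogeneousIdeal

noncomputable section

namespace EGA2SymLib

section Ring

variable {A σ : Type u} [CommRing A] [SetLike σ A] [AddSubgroupClass σ A] {𝒜 : ℕ → σ} [GradedRing 𝒜]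
  {B τ : Type u} [CommRing B] [SetLike τ B] [AddSubgroupClass τ B] {ℬ : ℕ → τ} [GradedRing ℬ]
  (ψ : 𝒜 →+*ᵍ ℬ) (n : ℕ)

theorem tn_domOpen_eq_top (hs : ∀ k, n ≤ k → ∀ y ∈ ℬ k, ∃ x ∈ 𝒜 k, ψ x = y) :
    RelCone.domOpen ψ = ⊤ := by
  refine eq_top_iff.mpr fun y _ => ?_
  obtain ⟨i, hi⟩ := ConeRetrLib.exists_mem_basicOpen (𝒜 := ℬ) y
  have hp : i.el ^ (n + 1) ∈ ℬ ((n + 1) • i.deg) := SetLike.pow_mem_graded (n + 1) i.mem
  have hd : (n + 1) ≤ (n + 1) • i.deg := by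
    rw [smul_eq_mul]; exact Nat.le_mul_of_pos_right _ i.pos
  obtain ⟨a, ha, hab⟩ := hs _ (Nat.le_of_succ_le hd) _ hp
  refine (RelConeLib.mem_domOpen_iff ψ y).mpr ⟨⟨(n + 1) • i.deg, a, lt_of_lt_of_le n.succ_pos hd, ha⟩, ?_⟩
  show y ∈ Proj.basicOpen ℬ (ψ a)
  rw [hab, Proj.basicOpen_pow ℬ i.el (n + 1) n.succ_pos]
  exact hi

theorem tn_awayMap_surjective (hs : ∀ k, n ≤ k → ∀ y ∈ ℬ k, ∃ x ∈ 𝒜 k, ψ x = y) (i : Idx 𝒜) :
    Function.Surjective (Away.map ψ i.el) := by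
  intro z
  obtain ⟨k, b, hb, rfl⟩ := Away.mk_surjective ℬ (ψ.map_mem i.mem) z
  have hb' : b * ψ i.el ^ n ∈ ℬ ((k + n) • i.deg) := by
    rw [add_nsmul]; exact SetLike.mul_mem_graded hb (SetLike.pow_mem_graded n (ψ.map_mem i.mem))
  have hle : n ≤ (k + n) • i.deg := by
    rw [smul_eq_mul]; exact (Nat.le_add_left n k).trans (Nat.le_mul_of_pos_right _ i.pos)
  obtain ⟨a, ha, hab⟩ := hs _ hle _ hb'
  refine ⟨Away.mk 𝒜 i.mem (k + n) a ha, ?_⟩
  rw [Away.map_mk ψ i.el i.mem (k + n) a ha]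
  refine val_injective _ ?_
  simp only [Away.val_mk, hab]
  rw [Localization.mk_eq_mk_iff, Localization.r_iff_exists]
  exact ⟨1, by
    simp only [OneMemClass.coe_one, one_mul]
    change ψ i.el ^ k * (b * ψ i.el ^ n) = ψ i.el ^ (k + n) * b
    ring⟩

theorem tn_awayMap_injective (hi : ∀ k, n ≤ k → ∀ x ∈ 𝒜 k, ψ x = 0 → x = 0) (i : Idx 𝒜) :
    Function.Injective (Away.map ψ i.el) := by
  rw [injective_iff_map_eq_zero]
  intro z hz
  obtain ⟨k, a, ha, rfl⟩ := Away.mk_surjective 𝒜 i.mem z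
  rw [Away.map_mk ψ i.el i.mem k a ha] at hz
  have h1 := congrArg HomogeneousLocalization.val hz
  rw [Away.val_mk, HomogeneousLocalization.val_zero, ← Localization.mk_zero (1 : Submonoid.powers (ψ i.el)),
    Localization.mk_eq_mk_iff, Localization.r_iff_exists] at h1
  obtain ⟨⟨_, m, rfl⟩, hm⟩ := h1
  simp only [OneMemClass.coe_one, one_mul, mul_zero] at hm
  have hdeg : a * i.el ^ (m + n) ∈ 𝒜 (k • i.deg + (m + n) • i.deg) :=
    SetLike.mul_mem_graded ha (SetLike.pow_mem_graded _ i.mem)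
  have hle : n ≤ k • i.deg + (m + n) • i.deg := by
    rw [smul_eq_mul, smul_eq_mul]
    exact ((Nat.le_add_left n m).trans (Nat.le_mul_of_pos_right _ i.pos)).trans (Nat.le_add_left _ _)
  have h0 : a * i.el ^ (m + n) = 0 := by
    refine hi _ hle _ hdeg ?_
    rw [map_mul, map_pow, pow_add, ← mul_assoc, mul_comm (ψ a)]
    change ψ i.el ^ m * ψ a * ψ i.el ^ n = 0
    rw [show ψ i.el ^ m * ψ a = 0 from hm, zero_mul]
  refine val_injective _ ?_
  rw [Away.val_mk, HomogeneousLocalization.val_zero, ← Localization.mk_zero (1 : Submonoid.powers i.el),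
    Localization.mk_eq_mk_iff, Localization.r_iff_exists]
  exact ⟨⟨i.el ^ (m + n), m + n, rfl⟩, by simp [mul_comm, h0]⟩

theorem dMap_squares (Q : MorphismProperty Scheme.{u}) [IsZariskiLocalAtTarget Q]
    (h : ∀ i : Idx 𝒜, Q (Spec.map (CommRingCat.ofHom (Away.map ψ i.el)))) : Q (RelConeLib.dMap ψ) := by
  refine RelConeLib.of_squares Q _ (fun i : Idx 𝒜 => RelConeLib.dChart ψ i)
    (fun i => Proj.awayι 𝒜 i.el i.mem i.pos) (fun i => Spec.map (CommRingCat.ofHom (Away.map ψ i.el)))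
    (fun i => RelConeLib.dChart_dMap ψ i) (fun i => ?_) (fun y => ?_) h
  · rw [Proj.opensRange_awayι, RelConeLib.dMap_preimage ψ i.mem i.pos, RelConeLib.dChart_opensRange]
  · obtain ⟨i, hi⟩ := ConeRetrLib.exists_mem_basicOpen (𝒜 := 𝒜) y
    exact ⟨i, (Proj.opensRange_awayι 𝒜 i.el i.mem i.pos).ge hi⟩

end Ring

variable {Y PA PB : Scheme.{u}} {𝒜 ℬ : RelProj.QCGrAlg Y} {φ : 𝒜.toQCAlg ⟶ ℬ.toQCAlg}
  (hφ : RelProj.IsGradedHom φ) {pA : PA ⟶ Y}
  {chartA : ∀ (U : Y.Opens) (hU : IsAffineOpen U), (((pA ⁻¹ᵁ U : PA.Opens) : Scheme.{u}) ≅ Proj (𝒜.deg U hU))}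
  {pB : PB ⟶ Y}
  {chartB : ∀ (U : Y.Opens) (hU : IsAffineOpen U), (((pB ⁻¹ᵁ U : PB.Opens) : Scheme.{u}) ≅ Proj (ℬ.deg U hU))}

theorem gradedAt_ofHom (U : Y.Opens) (hU : IsAffineOpen U) (a : 𝒜.presheaf.obj (op U)) :
    (RelProj.QGrHom.ofHom φ hφ).gradedAt U hU U hU (le_refl U) a = (φ.hom.app (op U)).hom a := by
  show (φ.hom.app (op U) ≫ ℬ.presheaf.map (homOfLE (le_refl U)).op).hom a = (φ.hom.app (op U)).hom a
  rw [show (homOfLE (le_refl U) : U ⟶ U) = 𝟙 U from rfl, op_id, CategoryTheory.Functor.map_id, Category.comp_id]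

/-- a property local on the target passes from the local maps to `Proj(φ)` -/
theorem projQMap_of_local (Q : MorphismProperty Scheme.{u}) [IsZariskiLocalAtTarget Q]
    [Q.RespectsIso] (hA : RelProj.IsRelProj 𝒜 pA chartA) (hB : RelProj.IsRelProj ℬ pB chartB)
    (hdom : ∀ (U : Y.Opens) (hU : IsAffineOpen U),
      RelCone.domOpen ((RelProj.QGrHom.ofHom φ hφ).gradedAt U hU U hU (le_refl U)) = ⊤)
    (hQ : ∀ (U : Y.Opens) (hU : IsAffineOpen U),
      Q (RelConeLib.dMap ((RelProj.QGrHom.ofHom φ hφ).gradedAt U hU U hU (le_refl U)))) :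
    RelProj.domQ (RelProj.QGrHom.ofHom φ hφ) pB chartB = ⊤ ∧
      ∀ h : PB ⟶ PA, RelProj.IsProjQMap (RelProj.QGrHom.ofHom φ hφ) pA chartA pB chartB h → Q h := by
  let u := RelProj.QGrHom.ofHom φ hφ
  let j : Y.affineOpens → RelConeLib.Pair (𝟙 Y) := fun U => ⟨U.1, U.2, U.1, U.2, le_refl U.1⟩
  have htop : RelProj.domQ u pB chartB = ⊤ := by
    refine eq_top_iff.mpr fun x _ => ?_
    obtain ⟨U, hU, v, hv⟩ := RelConeLib.exists_emb (chart := chartB) x
    have hv' : v ∈ RelCone.domOpen ((j ⟨U, hU⟩).hom u) := (hdom U hU).ge trivial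
    rw [← RelConeLib.emb_preimage_domQ u hB] at hv'
    rw [← hv]
    exact hv'
  refine ⟨htop, fun h hh => ?_⟩
  let Φ := (RelProj.domQ u pB chartB).ι ≫ h
  have hΦ : RelProj.IsProjQMapOn u pA chartA pB chartB (RelProj.domQ u pB chartB) Φ := by
    intro U hU U' hU' hle d hd f hf hW
    rw [← Category.assoc, IsOpenImmersion.lift_fac]
    exact hh.2 U hU U' hU' hle d hd f hf
  have hQΦ : Q Φ := by
    refine RelConeLib.of_squares Q Φ (fun U : Y.affineOpens => RelConeLib.qEmb u (chart' := chartB) (j U))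
      (fun U => RelProj.emb pA chartA U.1 U.2) (fun U => RelConeLib.dMap ((j U).hom u))
      (fun U => (RelConeLib.isProjQMapOn_iff _ Φ).mp hΦ (j U)) (fun U => ?_) (fun x => ?_)
      fun U => hQ U.1 U.2
    · rw [RelConeLib.emb_opensRange, RelConeLib.qEmb_opensRange _ hB, ← Scheme.Hom.comp_preimage,
        RelConeLib.qMap_over _ hA hB hΦ]
      rfl
    · obtain ⟨U, hU, v, hv⟩ := RelConeLib.exists_emb (chart := chartA) x
      exact ⟨⟨U, hU⟩, v, hv⟩
  haveI : IsIso (RelProj.domQ u pB chartB).ι := by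
    haveI : Surjective (RelProj.domQ u pB chartB).ι :=
      ⟨fun x => ⟨⟨x, htop ▸ trivial⟩, rfl⟩⟩
    haveI : Epi (RelProj.domQ u pB chartB).ι.base :=
      (TopCat.epi_iff_surjective _).mpr (RelProj.domQ u pB chartB).ι.surjective
    exact IsOpenImmersion.isIso _
  exact (MorphismProperty.cancel_left_of_respectsIso Q _ h).mp hQΦ

end EGA2SymLib

end
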