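import Groth.Agent.EGA2SymLib.RL
import Groth.Agent.EGA2SymLib.TN
import Mathlib.AlgebraicGeometry.Morphisms.Immersion

/-!
# `Proj` of a composite
-/

set_option autoImplicit false
universe u

open CategoryTheory CategoryTheory.Limits AlgebraicGeometry TopologicalSpace Opposite HomogeneousLocalization
open ConeRetrLib (Idx)
open scoped HomogeneousIdeal

noncomputable section

namespace EGA2SymLib

section Ring

variable {A σ : Type u} [CommRing A] [SetLike σ A] [AddSubgroupClass σ A] {𝒜 : ℕ → σ} [GradedRing 𝒜]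
  {B τ : Type u} [CommRing B] [SetLike τ B] [AddSubgroupClass τ B] {ℬ : ℕ → τ} [GradedRing ℬ]
  {C υ : Type u} [CommRing C] [SetLike υ C] [AddSubgroupClass υ C] {𝒞 : ℕ → υ} [GradedRing 𝒞]

/-- `dMap` of a composite -/
theorem dMap_comp (ψ₁ : 𝒜 →+*ᵍ ℬ) (ψ₂ : ℬ →+*ᵍ 𝒞) (ψ : 𝒜 →+*ᵍ 𝒞) (h : ψ = ψ₂.comp ψ₁) :
    ∃ (l : (RelCone.domOpen ψ : Scheme.{u}) ⟶ (RelCone.domOpen ψ₂ : Scheme.{u}))
      (m : (RelCone.domOpen ψ : Scheme.{u}) ⟶ (RelCone.domOpen ψ₁ : Scheme.{u})),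
      l ≫ (RelCone.domOpen ψ₂).ι = (RelCone.domOpen ψ).ι ∧
        m ≫ (RelCone.domOpen ψ₁).ι = l ≫ RelConeLib.dMap ψ₂ ∧
        RelConeLib.dMap ψ = m ≫ RelConeLib.dMap ψ₁ := by
  subst h
  let map' : Idx 𝒜 → Idx ℬ := fun i => ⟨i.deg, ψ₁ i.el, i.pos, ψ₁.map_mem i.mem⟩
  have hsub : RelCone.domOpen (ψ₂.comp ψ₁) ≤ RelCone.domOpen ψ₂ := fun z hz => by
    obtain ⟨i, hi⟩ := (RelConeLib.mem_domOpen_iff _ z).mp hz
    exact (RelConeLib.mem_domOpen_iff _ z).mpr ⟨map' i, hi⟩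
  let l := IsOpenImmersion.lift (RelCone.domOpen ψ₂).ι (RelCone.domOpen (ψ₂.comp ψ₁)).ι (by
    rw [Scheme.Opens.range_ι, Scheme.Opens.range_ι]; exact hsub)
  have hl : l ≫ (RelCone.domOpen ψ₂).ι = (RelCone.domOpen (ψ₂.comp ψ₁)).ι := IsOpenImmersion.lift_fac _ _ _
  have hcl : ∀ i : Idx 𝒜, RelConeLib.dChart (ψ₂.comp ψ₁) i ≫ l = RelConeLib.dChart ψ₂ (map' i) := fun i =>
    (cancel_mono (RelCone.domOpen ψ₂).ι).mp
      (((Category.assoc _ _ _).trans (congrArg (RelConeLib.dChart (ψ₂.comp ψ₁) i ≫ ·) hl)).trans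
        ((RelConeLib.dChart_ι (ψ₂.comp ψ₁) i).trans (RelConeLib.dChart_ι ψ₂ (map' i)).symm))
  have hl2 : ∀ i : Idx 𝒜, RelConeLib.dChart (ψ₂.comp ψ₁) i ≫ l ≫ RelConeLib.dMap ψ₂ =
      Spec.map (CommRingCat.ofHom (Away.map ψ₂ (ψ₁ i.el))) ≫
        Proj.awayι ℬ (ψ₁ i.el) (ψ₁.map_mem i.mem) i.pos := fun i =>
    (Category.assoc _ _ _).symm.trans
      ((congrArg (fun f => f ≫ RelConeLib.dMap ψ₂) (hcl i)).trans (RelConeLib.dChart_dMap ψ₂ (map' i)))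
  have hrange : Set.range (l ≫ RelConeLib.dMap ψ₂) ⊆ Set.range (RelCone.domOpen ψ₁).ι := by
    rw [Scheme.Opens.range_ι]
    rintro _ ⟨x, rfl⟩
    obtain ⟨i, w, rfl⟩ := RelConeLib.dChart_cover (ψ₂.comp ψ₁) x
    refine (RelConeLib.mem_domOpen_iff _ _).mpr ⟨i, ?_⟩
    rw [← Proj.opensRange_awayι ℬ (ψ₁ i.el) (ψ₁.map_mem i.mem) i.pos]
    exact ⟨Spec.map (CommRingCat.ofHom (Away.map ψ₂ (ψ₁ i.el))) w, (congr($(hl2 i) w)).symm⟩
  let m := IsOpenImmersion.lift (RelCone.domOpen ψ₁).ι (l ≫ RelConeLib.dMap ψ₂) hrange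
  have hm : m ≫ (RelCone.domOpen ψ₁).ι = l ≫ RelConeLib.dMap ψ₂ := IsOpenImmersion.lift_fac _ _ _
  refine ⟨l, m, hl, hm, ?_⟩
  refine RelConeLib.ext_of_charts _ _ fun x => ?_
  obtain ⟨i, hi⟩ := RelConeLib.dChart_cover (ψ₂.comp ψ₁) x
  refine ⟨_, RelConeLib.dChart (ψ₂.comp ψ₁) i, inferInstance, hi, ?_⟩
  have h1 : RelConeLib.dChart (ψ₂.comp ψ₁) i ≫ m =
      Spec.map (CommRingCat.ofHom (Away.map ψ₂ (ψ₁ i.el))) ≫ RelConeLib.dChart ψ₁ i :=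
    (cancel_mono (RelCone.domOpen ψ₁).ι).mp
      (((Category.assoc _ _ _).trans (congrArg (RelConeLib.dChart (ψ₂.comp ψ₁) i ≫ ·) hm)).trans
        ((hl2 i).trans
          ((congrArg (Spec.map (CommRingCat.ofHom (Away.map ψ₂ (ψ₁ i.el))) ≫ ·)
            (RelConeLib.dChart_ι ψ₁ i).symm).trans (Category.assoc _ _ _).symm)))
  have h2 : Spec.map (CommRingCat.ofHom (Away.map (ψ₂.comp ψ₁) i.el)) =
      Spec.map (CommRingCat.ofHom (Away.map ψ₂ (ψ₁ i.el))) ≫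
        Spec.map (CommRingCat.ofHom (Away.map ψ₁ i.el)) := by
    refine Eq.trans ?_ (Spec.map_comp _ _)
    exact congrArg (fun f => Spec.map (CommRingCat.ofHom f)) (Away.map_comp ψ₁ ψ₂ i.el)
  refine (RelConeLib.dChart_dMap (ψ₂.comp ψ₁) i).trans ?_
  refine Eq.trans ?_ (Category.assoc _ _ _)
  refine Eq.trans ?_ (congrArg (fun f => f ≫ RelConeLib.dMap ψ₁) h1).symm
  refine Eq.trans ?_ (Category.assoc _ _ _).symm
  refine Eq.trans ?_ (congrArg (Spec.map (CommRingCat.ofHom (Away.map ψ₂ (ψ₁ i.el))) ≫ ·)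
    (RelConeLib.dChart_dMap ψ₁ i)).symm
  exact (congrArg (fun f => f ≫ Proj.awayι 𝒜 i.el i.mem i.pos) h2).trans (Category.assoc _ _ _)

end Ring

variable {X Y PL P P' : Scheme.{u}} {q : X ⟶ Y} {𝒮 𝒯 : RelProj.QCGrAlg Y} {𝒮' : RelProj.QCGrAlg X}
  {u : RelProj.QGrHom q 𝒮 𝒮'} {p : P ⟶ Y}
  {chart : ∀ (U : Y.Opens) (hU : IsAffineOpen U), (((p ⁻¹ᵁ U : P.Opens) : Scheme.{u}) ≅ Proj (𝒮.deg U hU))}
  {pL : PL ⟶ X}
  {chartL : ∀ (U : X.Opens) (hU : IsAffineOpen U), (((pL ⁻¹ᵁ U : PL.Opens) : Scheme.{u}) ≅ Proj (𝒮'.deg U hU))}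
  {r : ((RelProj.domQ u pL chartL : PL.Opens) : Scheme.{u}) ⟶ P}
  {p' : P' ⟶ Y}
  {chart' : ∀ (U : Y.Opens) (hU : IsAffineOpen U), (((p' ⁻¹ᵁ U : P'.Opens) : Scheme.{u}) ≅ Proj (𝒯.deg U hU))}

/-- `Proj(u ∘ v)` factors as `Proj(u)` followed by `Proj(v)` -/
theorem exists_factor {v : 𝒯.toQCAlg ⟶ 𝒮.toQCAlg} (hv : RelProj.IsGradedHom v)
    {u' : RelProj.QGrHom q 𝒯 𝒮'} (hu' : ∀ U : Y.Opens, u'.app U = v.hom.app (op U) ≫ u.app U)
    {r' : ((RelProj.domQ u' pL chartL : PL.Opens) : Scheme.{u}) ⟶ P'}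
    (hP : RelProj.IsRelProj 𝒮 p chart) (hP' : RelProj.IsRelProj 𝒯 p' chart')
    (hPL : RelProj.IsRelProj 𝒮' pL chartL)
    (hr : RelProj.IsProjQMapOn u p chart pL chartL (RelProj.domQ u pL chartL) r)
    (hr' : RelProj.IsProjQMapOn u' p' chart' pL chartL (RelProj.domQ u' pL chartL) r') :
    ∃ (k : (RelProj.domQ u' pL chartL : Scheme.{u}) ⟶ (RelProj.domQ u pL chartL : Scheme.{u}))
      (ρ : (RelProj.domQ u' pL chartL : Scheme.{u}) ⟶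
        (RelProj.domQ (RelProj.QGrHom.ofHom v hv) p chart : Scheme.{u}))
      (Φ : (RelProj.domQ (RelProj.QGrHom.ofHom v hv) p chart : Scheme.{u}) ⟶ P'),
      k ≫ (RelProj.domQ u pL chartL).ι = (RelProj.domQ u' pL chartL).ι ∧
        RelProj.IsProjQMapOn (RelProj.QGrHom.ofHom v hv) p' chart' p chart
          (RelProj.domQ (RelProj.QGrHom.ofHom v hv) p chart) Φ ∧
        ρ ≫ (RelProj.domQ (RelProj.QGrHom.ofHom v hv) p chart).ι = k ≫ r ∧ r' = ρ ≫ Φ := by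
  let w := RelProj.QGrHom.ofHom v hv
  obtain ⟨Φ, hΦ, -⟩ := RelConeLib.existsUnique_isProjQMapOn w hP' hP
  let k := IsOpenImmersion.lift (RelProj.domQ u pL chartL).ι (RelProj.domQ u' pL chartL).ι (by
    rw [Scheme.Opens.range_ι, Scheme.Opens.range_ι]; exact domQ_comp_le v hv u' hu')
  have hk : k ≫ (RelProj.domQ u pL chartL).ι = (RelProj.domQ u' pL chartL).ι := IsOpenImmersion.lift_fac _ _ _
  have key : ∀ j : RelConeLib.Pair q, ∃ (l : (RelCone.domOpen (j.hom u') : Scheme.{u}) ⟶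
        (RelCone.domOpen ((⟨j.U, j.hU, j.U, j.hU, le_refl _⟩ : RelConeLib.Pair (𝟙 Y)).hom w) : Scheme.{u})),
      RelConeLib.qEmb u' (chart' := chartL) j ≫ k ≫ r =
          (l ≫ RelConeLib.qEmb w (chart' := chart) (⟨j.U, j.hU, j.U, j.hU, le_refl _⟩ : RelConeLib.Pair (𝟙 Y))) ≫
            (RelProj.domQ w p chart).ι ∧
        RelConeLib.qEmb u' (chart' := chartL) j ≫ r' =
          (l ≫ RelConeLib.qEmb w (chart' := chart) (⟨j.U, j.hU, j.U, j.hU, le_refl _⟩ : RelConeLib.Pair (𝟙 Y))) ≫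
            Φ := by
    intro j
    let jw : RelConeLib.Pair (𝟙 Y) := ⟨j.U, j.hU, j.U, j.hU, le_refl _⟩
    obtain ⟨l, m, hl, hm, hd⟩ := dMap_comp (jw.hom w) (j.hom u) (j.hom u') (GradedRingHom.ext fun a => by
      refine (gradedAt_comp v u' hu' j.U j.hU j.U' j.hU' j.le a).trans ?_
      show _ = j.hom u (jw.hom w a)
      exact (congrArg (j.hom u) (gradedAt_ofHom hv j.U j.hU a)).symm)
    refine ⟨m, ?_, ?_⟩
    · have hq : RelConeLib.qEmb u' (chart' := chartL) j ≫ k = l ≫ RelConeLib.qEmb u (chart' := chartL) j := by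
        rw [← cancel_mono (RelProj.domQ u pL chartL).ι, Category.assoc, hk, RelConeLib.qEmb_ι, Category.assoc,
          RelConeLib.qEmb_ι, ← Category.assoc, hl]
      rw [← Category.assoc, hq, Category.assoc, (RelConeLib.isProjQMapOn_iff u r).mp hr j, RelConeLib.qTarget,
        Category.assoc, RelConeLib.qEmb_ι, ← Category.assoc l, ← hm, Category.assoc]
    · rw [(RelConeLib.isProjQMapOn_iff u' r').mp hr' j, RelConeLib.qTarget, Category.assoc,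
        (RelConeLib.isProjQMapOn_iff w Φ).mp hΦ jw, RelConeLib.qTarget, ← Category.assoc m, ← hd]
  have hrange : Set.range (k ≫ r) ⊆ Set.range (RelProj.domQ w p chart).ι := by
    rintro _ ⟨x, rfl⟩
    obtain ⟨j, z, rfl⟩ := RelConeLib.qEmb_cover u' hPL x
    obtain ⟨l, h1, -⟩ := key j
    rw [← Scheme.Hom.comp_apply, h1]
    exact ⟨_, rfl⟩
  let ρ := IsOpenImmersion.lift (RelProj.domQ w p chart).ι (k ≫ r) hrange
  have hρ : ρ ≫ (RelProj.domQ w p chart).ι = k ≫ r := IsOpenImmersion.lift_fac _ _ _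
  refine ⟨k, ρ, Φ, hk, hΦ, hρ, RelConeLib.ext_of_charts _ _ fun x => ?_⟩
  obtain ⟨j, hj⟩ := RelConeLib.qEmb_cover u' hPL x
  obtain ⟨l, h1, h2⟩ := key j
  refine ⟨_, RelConeLib.qEmb u' (chart' := chartL) j, inferInstance, hj, ?_⟩
  rw [h2, ← Category.assoc]
  congr 1
  refine (cancel_mono (RelProj.domQ w p chart).ι).mp (h1.symm.trans ?_)
  exact ((Category.assoc _ _ _).trans (congrArg (RelConeLib.qEmb u' (chart' := chartL) j ≫ ·) hρ)).symm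

end EGA2SymLib

end
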