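import Groth.Agent.EGA2SymLib.Line
import Groth.Agent.EGA2SymLib.Factor
import Mathlib.AlgebraicGeometry.Morphisms.IsIso

/-!
# Immersion criteria for `Proj(u)` over an affine base
-/

set_option autoImplicit false
universe u

open CategoryTheory CategoryTheory.Limits AlgebraicGeometry TopologicalSpace Opposite HomogeneousLocalization
open ConeRetrLib (Idx)
open scoped HomogeneousIdeal

noncomputable section

namespace EGA2SymLib

variable {X Y PL P : Scheme.{u}} {L : X.Modules} [Coh.IsQCoh L] {𝒮' : RelProj.QCGrAlg X} {j : L ⟶ 𝒮'.toModule}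
  {q : X ⟶ Y} {𝒮 : RelProj.QCGrAlg Y} {u : RelProj.QGrHom q 𝒮 𝒮'}
  {pL : PL ⟶ X}
  {chartL : ∀ (U : X.Opens) (hU : IsAffineOpen U), (((pL ⁻¹ᵁ U : PL.Opens) : Scheme.{u}) ≅ Proj (𝒮'.deg U hU))}
  {p : P ⟶ Y}
  {chart : ∀ (U : Y.Opens) (hU : IsAffineOpen U), (((p ⁻¹ᵁ U : P.Opens) : Scheme.{u}) ≅ Proj (𝒮.deg U hU))}
  {r : ((RelProj.domQ u pL chartL : PL.Opens) : Scheme.{u}) ⟶ P}
  (hL : PicF.IsInvertible L) (hj : RelProj.IsGrSymAlg L 𝒮' j)
  (hP : RelProj.IsRelProj 𝒮 p chart) (hPL : RelProj.IsRelProj 𝒮' pL chartL)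
  (hr : RelProj.IsProjQMapOn u p chart pL chartL (RelProj.domQ u pL chartL) r)
  (hY : IsAffineOpen (⊤ : Y.Opens))
  {n : ℕ} (hn : 0 < n) {s : 𝒮.presheaf.obj (op ⊤)} (hs : s ∈ 𝒮.deg ⊤ hY n)

include hY in
omit [Coh.IsQCoh L] in
theorem le_preimage_top (V : X.Opens) : V ≤ q ⁻¹ᵁ (⊤ : Y.Opens) :=
  le_top.trans (Scheme.Hom.preimage_top q).ge

omit [Coh.IsQCoh L] in
/-- the standard open of the target -/
abbrev stdOpen (p : P ⟶ Y) (chart : ∀ (U : Y.Opens) (hU : IsAffineOpen U),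
    (((p ⁻¹ᵁ U : P.Opens) : Scheme.{u}) ≅ Proj (𝒮.deg U hU)))
    (hY : IsAffineOpen (⊤ : Y.Opens)) (s : 𝒮.presheaf.obj (op ⊤)) : P.Opens :=
  RelProj.emb p chart ⊤ hY ''ᵁ Proj.basicOpen (𝒮.deg ⊤ hY) s

omit [Coh.IsQCoh L] in
/-- the standard chart of the target -/
abbrev stdEmb (p : P ⟶ Y) (chart : ∀ (U : Y.Opens) (hU : IsAffineOpen U),
    (((p ⁻¹ᵁ U : P.Opens) : Scheme.{u}) ≅ Proj (𝒮.deg U hU))) :
    Spec (CommRingCat.of (Away (𝒮.deg ⊤ hY) s)) ⟶ P :=
  Proj.awayι (𝒮.deg ⊤ hY) s hs hn ≫ RelProj.emb p chart ⊤ hY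

omit [Coh.IsQCoh L] in
theorem stdEmb_opensRange : (stdEmb hY hn hs p chart).opensRange = stdOpen p chart hY s := by
  rw [Scheme.Hom.opensRange_comp, Proj.opensRange_awayι]

omit [Coh.IsQCoh L] in
theorem isAffineOpen_stdOpen (hn : 0 < n) (hs : s ∈ 𝒮.deg ⊤ hY n) : IsAffineOpen (stdOpen p chart hY s) := by
  rw [← stdEmb_opensRange hY hn hs]
  exact isAffineOpen_opensRange _

include hL hj hP hPL hr hn hs in
theorem affine_iff [IsIso pL] :
    IsAffineOpen (r ⁻¹ᵁ stdOpen p chart hY s) ↔ IsAffineOpen (goodOpen u n s) := by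
  rw [← Scheme.Hom.isAffineOpen_iff_of_isOpenImmersion (RelProj.domQ u pL chartL).ι,
    show (RelProj.domQ u pL chartL).ι ''ᵁ (r ⁻¹ᵁ stdOpen p chart hY s) = pL ⁻¹ᵁ goodOpen u n s from
      preimage_eq hL hj hP hPL hr hY n hn s hs]
  constructor
  · intro h
    have := h.image_of_isOpenImmersion pL
    rwa [pL.image_preimage_eq_opensRange_inf, Scheme.Hom.opensRange_of_isIso, top_inf_eq] at this
  · exact fun h => h.preimage pL

include hL hj hP hPL hr hn hs in
theorem exists_square (hXT : IsAffineOpen (goodOpen u n s)) :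
    ∃ jX : Spec (CommRingCat.of (Away (𝒮'.deg (goodOpen u n s) hXT)
        (u.gradedAt ⊤ hY (goodOpen u n s) hXT (le_preimage_top hY _) s))) ⟶
        (RelProj.domQ u pL chartL : Scheme.{u}),
      ∃ _ : IsOpenImmersion jX, jX.opensRange = r ⁻¹ᵁ stdOpen p chart hY s ∧
        jX ≫ r = Spec.map (CommRingCat.ofHom (Away.map
          (u.gradedAt ⊤ hY (goodOpen u n s) hXT (le_preimage_top hY _)) s)) ≫ stdEmb hY hn hs p chart := by
  let W : RelConeLib.Pair q := ⟨⊤, hY, goodOpen u n s, hXT, le_preimage_top hY _⟩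
  let i : Idx (𝒮.deg ⊤ hY) := ⟨n, s, hn, hs⟩
  refine ⟨RelConeLib.dChart (W.hom u) i ≫ RelConeLib.qEmb u (chart' := chartL) W, inferInstance, ?_, ?_⟩
  · ext x
    constructor
    · rintro ⟨t, rfl⟩
      have h1 : RelConeLib.dChart (W.hom u) i t ∈ (RelConeLib.dChart (W.hom u) i).opensRange := ⟨t, rfl⟩
      rw [RelConeLib.dChart_opensRange] at h1
      exact (qEmb_mem_iff hr W (RelConeLib.dChart (W.hom u) i t) hn hs).mpr h1
    · intro hx
      have h0 : (RelProj.domQ u pL chartL).ι x ∈ pL ⁻¹ᵁ goodOpen u n s := by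
        rw [← preimage_eq hL hj hP hPL hr hY n hn s hs]
        exact ⟨x, hx, rfl⟩
      have h1 : x ∈ (RelConeLib.qEmb u (chart' := chartL) W).opensRange := by
        rw [RelConeLib.qEmb_opensRange u hPL]
        exact h0
      obtain ⟨w, rfl⟩ := h1
      have h2 : w ∈ (RelConeLib.dChart (W.hom u) i).opensRange := by
        rw [RelConeLib.dChart_opensRange]
        exact (qEmb_mem_iff hr W w hn hs).mp hx
      obtain ⟨t, rfl⟩ := h2
      exact ⟨t, rfl⟩
  · rw [Category.assoc, (RelConeLib.isProjQMapOn_iff u r).mp hr W, RelConeLib.qTarget,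
      reassoc_of% (RelConeLib.dChart_dMap (W.hom u) i), RelConeLib.dTarget, Category.assoc]

include hL hj hP hPL hr hn hs in
/-- functions on the affine `X_T` are the degree zero fractions -/
theorem base_bijective [IsIso pL] (hXT : IsAffineOpen (goodOpen u n s)) :
    Function.Bijective ((fromZeroRingHom (𝒮'.deg (goodOpen u n s) hXT)
      (Submonoid.powers (u.gradedAt ⊤ hY (goodOpen u n s) hXT (le_preimage_top hY _) s))).comp
        (𝒮'.strZero (goodOpen u n s) hXT).hom) := by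
  let W : RelConeLib.Pair q := ⟨⊤, hY, goodOpen u n s, hXT, le_preimage_top hY _⟩
  let aw := Proj.awayι (𝒮'.deg (goodOpen u n s) hXT) (W.hom u s) ((W.hom u).map_mem hs) hn
  let g := aw ≫ RelProj.emb pL chartL (goodOpen u n s) hXT
  have hsurj : ∀ v : Proj (𝒮'.deg (goodOpen u n s) hXT), v ∈ Proj.basicOpen _ (W.hom u s) := by
    intro v
    have h0 : RelProj.emb pL chartL (goodOpen u n s) hXT v ∈ pL ⁻¹ᵁ goodOpen u n s := RelConeLib.mem_of_emb v
    rw [← preimage_eq hL hj hP hPL hr hY n hn s hs] at h0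
    obtain ⟨x, hx, hxv⟩ := h0
    have hv : v ∈ RelProj.emb pL chartL (goodOpen u n s) hXT ⁻¹ᵁ RelProj.domQ u pL chartL :=
      show RelProj.emb pL chartL (goodOpen u n s) hXT v ∈ RelProj.domQ u pL chartL from hxv ▸ x.2
    have hv' : v ∈ RelCone.domOpen (W.hom u) := (RelConeLib.emb_preimage_domQ u hPL W).le hv
    have e : RelConeLib.qEmb u (chart' := chartL) W ⟨v, hv'⟩ = x := by
      refine (RelProj.domQ u pL chartL).ι.isOpenEmbedding.injective ?_
      refine Eq.trans ?_ hxv.symm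
      exact congr($(RelConeLib.qEmb_ι u (chart' := chartL) W) ⟨v, hv'⟩)
    exact (qEmb_mem_iff hr W ⟨v, hv'⟩ hn hs).mp (e ▸ hx)
  have hg : g.opensRange = pL ⁻¹ᵁ goodOpen u n s := by
    rw [Scheme.Hom.opensRange_comp, Proj.opensRange_awayι,
      show Proj.basicOpen _ (W.hom u s) = ⊤ from top_le_iff.mp fun v _ => hsurj v,
      Scheme.Hom.image_top_eq_opensRange, RelConeLib.emb_opensRange]
  let b := CommRingCat.ofHom ((fromZeroRingHom (𝒮'.deg (goodOpen u n s) hXT)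
    (Submonoid.powers (W.hom u s))).comp (𝒮'.strZero (goodOpen u n s) hXT).hom)
  have hb : Spec.map b ≫ hXT.fromSpec = g ≫ pL := by
    rw [Category.assoc, RelConeLib.emb_over hPL, Proj.awayι_toSpecZero_assoc, ← Spec.map_comp_assoc]
    rfl
  haveI : IsOpenImmersion (Spec.map b) := by
    haveI : IsOpenImmersion (Spec.map b ≫ hXT.fromSpec) := hb ▸ inferInstance
    exact IsOpenImmersion.of_comp _ hXT.fromSpec
  haveI : IsIso (Spec.map b) := by
    haveI : Epi (Spec.map b).base := by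
      rw [TopCat.epi_iff_surjective]
      intro z
      have hz : inv pL (hXT.fromSpec z) ∈ pL ⁻¹ᵁ goodOpen u n s := by
        show pL (inv pL (hXT.fromSpec z)) ∈ goodOpen u n s
        rw [← Scheme.Hom.comp_apply, IsIso.inv_hom_id]
        exact hXT.range_fromSpec.le ⟨z, rfl⟩
      rw [← hg] at hz
      obtain ⟨t, ht⟩ := hz
      refine ⟨t, hXT.fromSpec.isOpenEmbedding.injective ?_⟩
      rw [← Scheme.Hom.comp_apply, hb, Scheme.Hom.comp_apply, ht, ← Scheme.Hom.comp_apply, IsIso.inv_hom_id]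
      rfl
    exact IsOpenImmersion.isIso _
  exact (isIso_SpecMap_iff (f := b)).mp inferInstance

omit [Coh.IsQCoh L] in
theorem map_eq_base_iff {V : X.Opens} (hV : IsAffineOpen V) (hle : V ≤ q ⁻¹ᵁ ⊤) (m : ℕ)
    (a : 𝒮.presheaf.obj (op ⊤)) (ha : a ∈ 𝒮.deg ⊤ hY (m • n)) (t : Γ(X, V)) :
    Away.map (u.gradedAt ⊤ hY V hV hle) s (Away.mk (𝒮.deg ⊤ hY) hs m a ha) =
      fromZeroRingHom (𝒮'.deg V hV) (Submonoid.powers (u.gradedAt ⊤ hY V hV hle s))
        ((𝒮'.strZero V hV).hom t) ↔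
    ∃ l : ℕ, (u.gradedAt ⊤ hY V hV hle s) ^ l * u.gradedAt ⊤ hY V hV hle a =
      (u.gradedAt ⊤ hY V hV hle s) ^ l *
        ((u.gradedAt ⊤ hY V hV hle s) ^ m * (𝒮'.str.app (op V)).hom t) := by
  rw [Away.map_mk _ s hs m a ha, ← (val_injective _).eq_iff, Away.val_mk]
  have e : HomogeneousLocalization.val (fromZeroRingHom (𝒮'.deg V hV)
      (Submonoid.powers (u.gradedAt ⊤ hY V hV hle s)) ((𝒮'.strZero V hV).hom t)) =
      Localization.mk ((𝒮'.str.app (op V)).hom t) 1 := by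
    show HomogeneousLocalization.val (HomogeneousLocalization.mk
      ⟨0, (𝒮'.strZero V hV).hom t, (1 : 𝒮'.deg V hV 0), one_mem _⟩) = _
    rw [HomogeneousLocalization.val_mk]
    rfl
  rw [e, Localization.mk_eq_mk_iff, Localization.r_iff_exists]
  constructor
  · rintro ⟨⟨_, l, rfl⟩, h⟩
    exact ⟨l, by simp only [OneMemClass.coe_one, one_mul] at h; exact h⟩
  · rintro ⟨l, h⟩
    exact ⟨⟨_, l, rfl⟩, by simp only [OneMemClass.coe_one, one_mul]; exact h⟩

/-- the condition on sections saying that the chart map is surjective -/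
abbrev SurjCond (u : RelProj.QGrHom q 𝒮 𝒮') (hY : IsAffineOpen (⊤ : Y.Opens)) (n : ℕ)
    (s : 𝒮.presheaf.obj (op ⊤)) (V : X.Opens) : Prop :=
  ∀ t : X.presheaf.obj (op V), ∃ (m : ℕ) (_ : 0 < m) (s' : 𝒮.presheaf.obj (op ⊤)) (_ : s' ∈ 𝒮.deg ⊤ hY (m * n)),
    (𝒮'.str.app (op V)).hom t * ((u.appLE ⊤ V (le_top.trans (Scheme.Hom.preimage_top q).ge)).hom s) ^ m =
      (u.appLE ⊤ V (le_top.trans (Scheme.Hom.preimage_top q).ge)).hom s'

/-- the condition on sections saying that the chart map is injective -/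
abbrev InjCond (u : RelProj.QGrHom q 𝒮 𝒮') (hY : IsAffineOpen (⊤ : Y.Opens)) (n : ℕ)
    (s : 𝒮.presheaf.obj (op ⊤)) (V : X.Opens) : Prop :=
  ∀ m : ℕ, 0 < m → ∀ s' ∈ 𝒮.deg ⊤ hY (m * n),
    (u.appLE ⊤ V (le_top.trans (Scheme.Hom.preimage_top q).ge)).hom s' = 0 → ∃ k : ℕ, 0 < k ∧ s ^ k * s' = 0

include hL hj hP hPL hr hn hs in
theorem surjective_iff [IsIso pL] (hXT : IsAffineOpen (goodOpen u n s)) :
    Function.Surjective (Away.map (u.gradedAt ⊤ hY (goodOpen u n s) hXT (le_preimage_top hY _)) s) ↔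
      SurjCond u hY n s (goodOpen u n s) := by
  constructor
  · intro h t
    obtain ⟨z, hz⟩ := h (fromZeroRingHom (𝒮'.deg (goodOpen u n s) hXT) _
      ((𝒮'.strZero (goodOpen u n s) hXT).hom t))
    obtain ⟨m, a, ha, rfl⟩ := Away.mk_surjective (𝒮.deg ⊤ hY) hs z
    obtain ⟨l, hl⟩ := (map_eq_base_iff hY hs hXT (le_preimage_top hY _) m a ha t).mp hz
    refine ⟨l + 1 + m, by omega, s ^ (l + 1) * a, ?_, ?_⟩
    · have := SetLike.mul_mem_graded (SetLike.pow_mem_graded (l + 1) hs) ha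
      rwa [← add_nsmul, smul_eq_mul] at this
    · rw [map_mul, map_pow]
      change (𝒮'.str.app _).hom t * (u.gradedAt ⊤ hY _ hXT (le_preimage_top hY _) s) ^ (l + 1 + m) =
        (u.gradedAt ⊤ hY _ hXT (le_preimage_top hY _) s) ^ (l + 1) *
          u.gradedAt ⊤ hY _ hXT (le_preimage_top hY _) a
      rw [pow_succ', mul_assoc (u.gradedAt ⊤ hY _ hXT _ s), hl]
      ring
  · intro h y
    obtain ⟨t, rfl⟩ := (base_bijective hL hj hP hPL hr hY hn hs hXT).2 y
    obtain ⟨m, -, s', hs', he⟩ := h t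
    refine ⟨Away.mk (𝒮.deg ⊤ hY) hs m s' (by rwa [smul_eq_mul]),
      (map_eq_base_iff hY hs hXT (le_preimage_top hY _) m s' (by rwa [smul_eq_mul]) t).mpr ⟨0, ?_⟩⟩
    rw [pow_zero, one_mul, one_mul, mul_comm]
    exact he.symm

omit [Coh.IsQCoh L] in
include hn hs in
theorem injective_iff' (hXT : IsAffineOpen (goodOpen u n s)) :
    Function.Injective (Away.map (u.gradedAt ⊤ hY (goodOpen u n s) hXT (le_preimage_top hY _)) s) ↔
      InjCond u hY n s (goodOpen u n s) := by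
  constructor
  · intro h m _ s' hs' h0
    have e : Away.mk (𝒮.deg ⊤ hY) hs m s' (by rwa [smul_eq_mul]) = 0 := by
      refine h ((map_zero (Away.map (u.gradedAt ⊤ hY (goodOpen u n s) hXT (le_preimage_top hY _)) s)).symm ▸ ?_)
      refine val_injective _ ?_
      rw [Away.map_mk _ s hs, Away.val_mk, HomogeneousLocalization.val_zero]
      simp only [show u.gradedAt ⊤ hY (goodOpen u n s) hXT (le_preimage_top hY _) s' = 0 from h0,
        Localization.mk_zero]
    have h1 := congrArg HomogeneousLocalization.val e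
    rw [Away.val_mk, HomogeneousLocalization.val_zero, ← Localization.mk_zero (1 : Submonoid.powers s),
      Localization.mk_eq_mk_iff, Localization.r_iff_exists] at h1
    obtain ⟨⟨_, k, rfl⟩, hk⟩ := h1
    refine ⟨k + 1, k.succ_pos, ?_⟩
    simp only [OneMemClass.coe_one, one_mul, mul_zero] at hk
    rw [pow_succ', mul_assoc, hk, mul_zero]
  · intro h
    rw [injective_iff_map_eq_zero]
    intro z hz
    obtain ⟨m, a, ha, rfl⟩ := Away.mk_surjective (𝒮.deg ⊤ hY) hs z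
    have hz' := hz.trans (map_zero ((fromZeroRingHom (𝒮'.deg (goodOpen u n s) hXT)
      (Submonoid.powers (u.gradedAt ⊤ hY (goodOpen u n s) hXT (le_preimage_top hY _) s))).comp
        (𝒮'.strZero (goodOpen u n s) hXT).hom)).symm
    obtain ⟨l, hl⟩ := (map_eq_base_iff hY hs hXT (le_preimage_top hY _) m a ha 0).mp hz'
    rw [map_zero, mul_zero, mul_zero] at hl
    have hd : s ^ (l + 1) * a ∈ 𝒮.deg ⊤ hY ((l + 1 + m) * n) := by
      have := SetLike.mul_mem_graded (SetLike.pow_mem_graded (l + 1) hs) ha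
      rwa [← add_nsmul, smul_eq_mul] at this
    obtain ⟨k, -, hk⟩ := h (l + 1 + m) (by omega) _ hd (by
      rw [map_mul, map_pow]
      change (u.gradedAt ⊤ hY _ hXT (le_preimage_top hY _) s) ^ (l + 1) *
        u.gradedAt ⊤ hY _ hXT (le_preimage_top hY _) a = 0
      rw [pow_succ', mul_assoc, hl, mul_zero])
    refine val_injective _ ?_
    rw [Away.val_mk, HomogeneousLocalization.val_zero, ← Localization.mk_zero (1 : Submonoid.powers s),
      Localization.mk_eq_mk_iff, Localization.r_iff_exists]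
    exact ⟨⟨s ^ (k + (l + 1)), k + (l + 1), rfl⟩, by
      simp only [OneMemClass.coe_one, one_mul, mul_zero]
      rw [pow_add, mul_assoc, hk]⟩

include hL hj hP hPL hr in
/-- from charts to the morphism -/
theorem exists_lift_of_cover [IsIso pL] {ι : Type u} (n : ι → ℕ) (s : ι → 𝒮.presheaf.obj (op ⊤))
    (hns : ∀ a, 0 < n a ∧ s a ∈ 𝒮.deg ⊤ hY (n a)) (hcov : (⨆ a, goodOpen u (n a) (s a)) = ⊤)
    (hXT : ∀ a, IsAffineOpen (goodOpen u (n a) (s a))) (Q : MorphismProperty Scheme.{u}) [IsZariskiLocalAtTarget Q]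
    (hQ : ∀ a, Q (Spec.map (CommRingCat.ofHom (Away.map
      (u.gradedAt ⊤ hY (goodOpen u (n a) (s a)) (hXT a) (le_preimage_top hY _)) (s a))))) :
    RelProj.domQ u pL chartL = ⊤ ∧
      ∃ r' : (RelProj.domQ u pL chartL : Scheme.{u}) ⟶ ((⨆ a, stdOpen p chart hY (s a) : P.Opens) : Scheme.{u}),
        r' ≫ (⨆ a, stdOpen p chart hY (s a) : P.Opens).ι = r ∧ Q r' := by
  let O : P.Opens := ⨆ a, stdOpen p chart hY (s a)
  have hy : ∀ y : PL, ∃ (a : ι) (y' : (RelProj.domQ u pL chartL : Scheme.{u})), r y' ∈ stdOpen p chart hY (s a) ∧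
      (RelProj.domQ u pL chartL).ι y' = y := by
    intro y
    obtain ⟨a, ha⟩ := Opens.mem_iSup.mp (hcov.ge (show pL y ∈ (⊤ : X.Opens) from trivial))
    have hy : y ∈ pL ⁻¹ᵁ goodOpen u (n a) (s a) := ha
    rw [← preimage_eq hL hj hP hPL hr hY (n a) (hns a).1 (s a) (hns a).2] at hy
    obtain ⟨y', h1, h2⟩ := hy
    exact ⟨a, y', h1, h2⟩
  have htop : RelProj.domQ u pL chartL = ⊤ := top_le_iff.mp fun y _ => by
    obtain ⟨-, y', -, rfl⟩ := hy y
    exact y'.2
  have hrange : Set.range r ⊆ Set.range O.ι := by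
    rw [Scheme.Opens.range_ι]
    rintro _ ⟨x, rfl⟩
    obtain ⟨a, y', h1, h2⟩ := hy ((RelProj.domQ u pL chartL).ι x)
    obtain rfl := (RelProj.domQ u pL chartL).ι.isOpenEmbedding.injective h2
    exact Opens.mem_iSup.mpr ⟨a, h1⟩
  let r' := IsOpenImmersion.lift O.ι r hrange
  have hr' : r' ≫ O.ι = r := IsOpenImmersion.lift_fac _ _ _
  refine ⟨htop, r', hr', ?_⟩
  choose jX hj1 hj2 hj3 using fun a => exists_square hL hj hP hPL hr hY (hns a).1 (hns a).2 (hXT a)
  have hle : ∀ a, Set.range (stdEmb hY (hns a).1 (hns a).2 p chart) ⊆ Set.range O.ι := fun a => by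
    rw [Scheme.Opens.range_ι]
    intro z hz
    refine Opens.mem_iSup.mpr ⟨a, ?_⟩
    rw [← stdEmb_opensRange hY (hns a).1 (hns a).2]
    exact hz
  let jY := fun a => IsOpenImmersion.lift O.ι (stdEmb hY (hns a).1 (hns a).2 p chart) (hle a)
  haveI : ∀ a, IsOpenImmersion (jY a) := fun a => by
    haveI : IsOpenImmersion (jY a ≫ O.ι) := (IsOpenImmersion.lift_fac O.ι _ (hle a)).symm ▸ inferInstance
    exact IsOpenImmersion.of_comp (jY a) O.ι
  have hjY : ∀ a, (jY a).opensRange = O.ι ⁻¹ᵁ stdOpen p chart hY (s a) := fun a => by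
    rw [← stdEmb_opensRange hY (hns a).1 (hns a).2, ← O.ι.preimage_image_eq (jY a).opensRange,
      ← Scheme.Hom.opensRange_comp]
    congr 2
    exact IsOpenImmersion.lift_fac _ _ _
  refine RelConeLib.of_squares Q r' jX jY _ (fun a => ?_) (fun a => ?_) (fun z => ?_) hQ
  · rw [← cancel_mono O.ι, Category.assoc, Category.assoc, hr', hj3 a, IsOpenImmersion.lift_fac]
  · rw [hjY, ← Scheme.Hom.comp_preimage, hr', hj2 a]
  · obtain ⟨a, ha⟩ := Opens.mem_iSup.mp z.2
    exact ⟨a, (hjY a).ge ha⟩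

include hL hj hP hPL hr hn hs in
/-- from the morphism to a chart -/
theorem chart_property (Q : MorphismProperty Scheme.{u}) [Q.IsStableUnderBaseChange] {O : P.Opens}
    {r' : (RelProj.domQ u pL chartL : Scheme.{u}) ⟶ (O : Scheme.{u})} (hr' : r' ≫ O.ι = r)
    (hO : stdOpen p chart hY s ≤ O) (hQ : Q r') (hXT : IsAffineOpen (goodOpen u n s)) :
    Q (Spec.map (CommRingCat.ofHom (Away.map
      (u.gradedAt ⊤ hY (goodOpen u n s) hXT (le_preimage_top hY _)) s))) := by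
  obtain ⟨jX, hjo, hj2, hj3⟩ := exists_square hL hj hP hPL hr hY hn hs hXT
  have hle : Set.range (stdEmb hY hn hs p chart) ⊆ Set.range O.ι := by
    rw [Scheme.Opens.range_ι]
    intro z hz
    refine hO ?_
    rw [← stdEmb_opensRange hY hn hs]
    exact hz
  let jY := IsOpenImmersion.lift O.ι (stdEmb hY hn hs p chart) hle
  haveI : IsOpenImmersion jY := by
    haveI : IsOpenImmersion (jY ≫ O.ι) := (IsOpenImmersion.lift_fac O.ι _ hle).symm ▸ inferInstance
    exact IsOpenImmersion.of_comp jY O.ι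
  have hjY : jY.opensRange = O.ι ⁻¹ᵁ stdOpen p chart hY s := by
    rw [← stdEmb_opensRange hY hn hs, ← O.ι.preimage_image_eq jY.opensRange, ← Scheme.Hom.opensRange_comp]
    congr 2
    exact IsOpenImmersion.lift_fac _ _ _
  refine MorphismProperty.of_isPullback
    (IsOpenImmersion.isPullback _ jX jY r' ?_ ?_).flip hQ
  · rw [← cancel_mono O.ι, Category.assoc, Category.assoc, hr', hj3, IsOpenImmersion.lift_fac]
  · rw [hjY, ← Scheme.Hom.comp_preimage, hr', hj2]

include hL hj hP hPL hr hY in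
/-- the standard opens inside a neighbourhood of the image cover -/
theorem exists_good_of_range [IsIso pL] (htop : RelProj.domQ u pL chartL = ⊤) (O : P.Opens)
    (hO : Set.range r ⊆ (O : Set P)) (x : X) :
    ∃ (n : ℕ) (s : 𝒮.presheaf.obj (op ⊤)), 0 < n ∧ s ∈ 𝒮.deg ⊤ hY n ∧
      stdOpen p chart hY s ≤ O ∧ x ∈ goodOpen u n s := by
  obtain ⟨y, rfl⟩ := pL.homeomorph.surjective x
  let y' : (RelProj.domQ u pL chartL : Scheme.{u}) := ⟨y, htop ▸ trivial⟩
  obtain ⟨t, ht⟩ := RelConeLib.exists_emb_eq (chart := chart) hY (r y') trivial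
  obtain ⟨d, g, hd, hg, htg, hgO⟩ := exists_homogeneous_basicOpen t
    (O := RelProj.emb p chart ⊤ hY ⁻¹ᵁ O) (show RelProj.emb p chart ⊤ hY t ∈ O from ht ▸ hO ⟨y', rfl⟩)
  refine ⟨d, g, hd, hg, ?_, ?_⟩
  · rintro z ⟨z', hz', rfl⟩
    exact hgO hz'
  · have hmem : y ∈ (RelProj.domQ u pL chartL).ι ''ᵁ (r ⁻¹ᵁ stdOpen p chart hY g) := ⟨y', ⟨t, htg, ht⟩, rfl⟩
    rw [preimage_eq hL hj hP hPL hr hY d hd g hg] at hmem
    exact hmem

end EGA2SymLib

end
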