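import Mathlib
import Groth.Agent.EGA2SymLib.RLCrit

/-!
# Very ampleness of an external tensor product
-/

set_option autoImplicit false
universe u

open CategoryTheory CategoryTheory.Limits AlgebraicGeometry TopologicalSpace Opposite
open AmpleLib (res GenOn GenAt shT)
open KFlatLib (pb puSec)

noncomputable section

namespace EGA2SymLib

variable {X Y : Scheme.{u}}

theorem genAt_right_of_tensor {A B : X.Modules} (hA : PicF.IsInvertible A) (hB : PicF.IsInvertible B)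
    {W : X.Opens} {a : Γ(A, W)} {b : Γ(B, W)} {x : X} (hx : x ∈ W)
    (h : GenAt (CohB1.tensorMod A B) (shT a b) hx) : GenAt B b hx := by
  obtain ⟨U, g, hxU, hg⟩ := TwistLib.exists_genOn hA x
  obtain ⟨U', g', hxU', hg'⟩ := TwistLib.exists_genOn hB x
  let V := W ⊓ (U ⊓ U')
  have hxV : x ∈ V := ⟨hx, hxU, hxU'⟩
  have hVW : V ≤ W := inf_le_left
  have hgV := hg.res (inf_le_right.trans inf_le_left : V ≤ U)
  have hg'V := hg'.res (inf_le_right.trans inf_le_right : V ≤ U')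
  obtain ⟨c, hc⟩ := (hg V (inf_le_right.trans inf_le_left)).2 (res A hVW a)
  obtain ⟨d, hd⟩ := (hg' V (inf_le_right.trans inf_le_right)).2 (res B hVW b)
  dsimp only at hc hd
  have h1 := (AmpleLib.genAt_res hVW _ (x := x) hxV).mpr h
  rw [AmpleLib.shT_res, ← hc, ← hd, AmpleLib.shT_smul,
    AmpleLib.genAt_smul_iff _ _ hxV ((hgV.genAt hxV).tensor (hg'V.genAt hxV)), Scheme.basicOpen_mul] at h1
  refine (AmpleLib.genAt_res hVW b (x := x) hxV).mp ?_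
  rw [← hd, AmpleLib.genAt_smul_iff _ _ hxV (hg'V.genAt hxV)]
  exact h1.2

/-- a section generates where its inverse image does -/
theorem genAt_of_puSec (f : X ⟶ Y) {M : Y.Modules} (hM : PicF.IsInvertible M) {U : Y.Opens} (m : Γ(M, U)) {x : X}
    (hx : f x ∈ U) (h : GenAt (pb f M) (W := f ⁻¹ᵁ U) (puSec f m) (show x ∈ f ⁻¹ᵁ U from hx)) : GenAt M m hx := by
  obtain ⟨V, g, hxV, hg⟩ := TwistLib.exists_genOn hM (f x)
  have hxW : f x ∈ U ⊓ V := ⟨hx, hxV⟩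
  obtain ⟨c, hc⟩ := (hg (U ⊓ V) inf_le_right).2 (res M inf_le_left m)
  dsimp only at hc
  have hgen := (hg.res (inf_le_right : U ⊓ V ≤ V)).genAt hxW
  have h1 : GenAt (pb f M) (W := f ⁻¹ᵁ (U ⊓ V)) (puSec f (res M inf_le_left m)) (show x ∈ f ⁻¹ᵁ (U ⊓ V) from hxW) := by
    rw [TwistLib.puSec_res]
    exact (AmpleLib.genAt_res _ _ (x := x) _).mpr h
  rw [← hc, KFlatLib.puSec_smul, AmpleLib.genAt_smul_iff _ _ _ (TwistLib.GenAt.puSec f hgen),
    ← Scheme.preimage_basicOpen] at h1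
  refine (AmpleLib.genAt_res inf_le_left m (x := f x) hxW).mp ?_
  rw [← hc, AmpleLib.genAt_smul_iff _ _ _ hgen]
  exact h1

/-- very ampleness, read on the family of sections of a defining bundle -/
theorem exists_sigma_of_isRelVeryAmple {q : X ⟶ Y} {L : X.Modules} (h : RelProj.IsRelVeryAmple q L) :
    ∃ (E : Y.Modules) (_ : Coh.IsQCoh E) (σ : E ⟶ (Scheme.Modules.pushforward q).obj L),
      ∀ (U : Y.Opens), IsAffineOpen U → ∀ x ∈ q ⁻¹ᵁ U, SecAtS σ U x := by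
  obtain ⟨E, hE, 𝒮, j, hj, P, p, chart, hP, O1, lam, hO1, i, hi, hip, ⟨ε⟩⟩ := h
  haveI := hE
  haveI := hi
  obtain ⟨φ, hφ⟩ := exists_canonicalMap_one hP hO1 j hj.2
  let s : pb q E ⟶ L := indQ φ hip ε.symm.hom
  have hI : Induces s φ i hip := ⟨ε.symm, fun U m => (indQ_puSec φ hip ε.symm.hom m).symm⟩
  let σ := (Scheme.Modules.pullbackPushforwardAdjunction q).homEquiv E L s
  have hσ : ∀ (U : Y.Opens) (m : Γ(E, U)), (show Γ(L, q ⁻¹ᵁ U) from σ.app U m) = qVal s U m := fun U m =>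
    congrArg (fun χ => Scheme.Modules.Hom.app χ U m)
      ((Scheme.Modules.pullbackPushforwardAdjunction q).homEquiv_unit E L s)
  refine ⟨E, hE, σ, fun U hU x hx => ?_⟩
  obtain ⟨τ, hτ⟩ := hI
  obtain ⟨e, he⟩ := exists_genAt_of_induces (s := s) (hr := hip) hO1 hj hφ ⟨τ, hτ⟩ hU hx
  refine ⟨e, hx, genAt_congr (hσ U e).symm he, fun W hW hWe => ?_⟩
  let D := bOpen p chart j hU e
  have hWD : W ≤ i ⁻¹ᵁ D := fun z hz =>
    (mem_bOpen_iff (hr := hip) hO1 hj hφ τ hτ hU e (hW hz)).mpr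
      (genAt_congr (hσ U e) ((hWe z (hW hz)).mp hz))
  haveI : IsAffine (D : Scheme.{u}) :=
    (IsAffineOpen.image_of_isOpenImmersion
      (Proj.isAffineOpen_basicOpen (𝒮.deg U hU) (jS j U e) (jS_mem hj hU e) one_pos) (RelProj.emb p chart U hU))
  refine ⟨_, inferInstance, i.resLE D W hWD, inferInstance, fun a => ?_⟩
  have h1 : W.topIso.hom ((i.resLE D W hWD).appTop a) = i.appLE D W hWD (D.topIso.hom a) := by
    simp only [Scheme.Hom.appTop, Scheme.Hom.resLE_app_top, CommRingCat.comp_apply]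
    exact CategoryTheory.Iso.inv_hom_id_apply W.topIso _
  rw [h1]
  refine Subring.closure_mono ?_ ((range_appLE_eq_closure (hr := hip) hO1 hj hφ τ hτ hU e hW hWD).le ⟨_, rfl⟩)
  rintro b ⟨m, hm⟩
  refine ⟨m, ?_⟩
  rw [hσ, hσ]
  exact hm

/-- the external tensor product of very ample modules is very ample -/
theorem isRelVeryAmple_pullback_tensor {A B P Q : Scheme.{u}} {a : A ⟶ Q} {b : B ⟶ Q} {pa : P ⟶ A} {pbB : P ⟶ B}
    (hP : IsPullback pa pbB a b) {M₁ : A.Modules} (hM₁ : PicF.IsInvertible M₁) {M₂ : B.Modules}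
    (hM₂ : PicF.IsInvertible M₂) (h₁ : RelProj.IsRelVeryAmple a M₁) (h₂ : RelProj.IsRelVeryAmple b M₂) :
    RelProj.IsRelVeryAmple (pa ≫ a)
      (CohB1.tensorMod ((Scheme.Modules.pullback pa).obj M₁) ((Scheme.Modules.pullback pbB).obj M₂)) := by
  obtain ⟨E₁, hE₁, σ₁, hσ₁⟩ := exists_sigma_of_isRelVeryAmple h₁
  obtain ⟨E₂, hE₂, σ₂, hσ₂⟩ := exists_sigma_of_isRelVeryAmple h₂
  haveI : Coh.IsQCoh (CohB1.tensorMod E₁ E₂) := (Groth.Agent.S2297.result E₁ E₂).1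
  let s₁ : pb (pa ≫ a) E₁ ⟶ (Scheme.Modules.pullback pa).obj M₁ :=
    CycPBLib.compQ (adjA σ₁) (rfl : pa ≫ a = pa ≫ a) (𝟙 _)
  let s₂ : pb (pa ≫ a) E₂ ⟶ (Scheme.Modules.pullback pbB).obj M₂ :=
    CycPBLib.compQ (adjA σ₂) hP.w.symm (𝟙 _)
  have hle₂ : ∀ U : Q.Opens, (pa ≫ a) ⁻¹ᵁ U ≤ pbB ⁻¹ᵁ (b ⁻¹ᵁ U) := fun U => by
    rw [hP.w]; exact le_rfl
  have hs₁ : ∀ (U : Q.Opens) (m : Γ(E₁, U)), qVal s₁ U m = puSec pa (show Γ(M₁, a ⁻¹ᵁ U) from σ₁.app U m) := by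
    intro U m
    refine (CycPBLib.comp_apply_puSec (adjA σ₁) (rfl : pa ≫ a = pa ≫ a) (𝟙 _) m).trans ?_
    rw [adjA_puSec]
    exact congr($((((Scheme.Modules.pullback pa).obj M₁).presheaf).map_id _) _)
  have hs₂ : ∀ (U : Q.Opens) (m : Γ(E₂, U)), qVal s₂ U m =
      res _ (hle₂ U) (puSec pbB (show Γ(M₂, b ⁻¹ᵁ U) from σ₂.app U m)) := by
    intro U m
    refine (CycPBLib.comp_apply_puSec (adjA σ₂) hP.w.symm (𝟙 _) m).trans ?_
    rw [adjA_puSec]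
    rfl
  let M₁' := (Scheme.Modules.pullback pa).obj M₁
  let M₂' := (Scheme.Modules.pullback pbB).obj M₂
  have hM₁' : PicF.IsInvertible M₁' := (CohCmpLib.invertible_iff_rank_one _).2
    (CohCmpLib.rank_one_pullback pa ((CohCmpLib.invertible_iff_rank_one M₁).1 hM₁))
  have hM₂' : PicF.IsInvertible M₂' := (CohCmpLib.invertible_iff_rank_one _).2
    (CohCmpLib.rank_one_pullback pbB ((CohCmpLib.invertible_iff_rank_one M₂).1 hM₂))
  let σ := (Scheme.Modules.pullbackPushforwardAdjunction (pa ≫ a)).homEquiv _ _ (quotT s₁ s₂)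
  have hσ : ∀ (U : Q.Opens) (m : Γ(E₁, U)) (n : Γ(E₂, U)),
      (show Γ(CohB1.tensorMod M₁' M₂', (pa ≫ a) ⁻¹ᵁ U) from σ.app U (shT m n)) = shT (qVal s₁ U m) (qVal s₂ U n) :=
    fun U m n => (congrArg (fun χ => Scheme.Modules.Hom.app χ U (shT m n))
      ((Scheme.Modules.pullbackPushforwardAdjunction (pa ≫ a)).homEquiv_unit _ _ (quotT s₁ s₂))).trans
        (qVal_quotT s₁ s₂ m n)
  refine isRelVeryAmple_of_secAtS (σ := σ) (AmpleThLib.shT_isInvertible hM₁' hM₂') fun x => ?_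
  obtain ⟨U, hU, hxU, -⟩ := exists_isAffineOpen_mem_and_subset (X := Q) (x := (pa ≫ a) x) (U := ⊤) trivial
  obtain ⟨e₁, hx₁, hg₁, hr₁⟩ := hσ₁ U hU (pa x) hxU
  have hxU₂ : pbB x ∈ b ⁻¹ᵁ U := hle₂ U hxU
  obtain ⟨e₂, hx₂, hg₂, hr₂⟩ := hσ₂ U hU (pbB x) hxU₂
  obtain ⟨W₁, hW₁, hW₁e⟩ := exists_genLocus hM₁ (show Γ(M₁, a ⁻¹ᵁ U) from σ₁.app U e₁)
  obtain ⟨W₂, hW₂, hW₂e⟩ := exists_genLocus hM₂ (show Γ(M₂, b ⁻¹ᵁ U) from σ₂.app U e₂)
  obtain ⟨A₁, hA₁, f₁, hf₁, hfa₁⟩ := hr₁ W₁ hW₁ hW₁e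
  obtain ⟨A₂, hA₂, f₂, hf₂, hfa₂⟩ := hr₂ W₂ hW₂ hW₂e
  haveI := hA₁; haveI := hf₁; haveI := hA₂; haveI := hf₂
  have hG₁ : ∀ (z : P) (hz : z ∈ (pa ≫ a) ⁻¹ᵁ U), GenAt M₁' (qVal s₁ U e₁) hz ↔ pa z ∈ W₁ := fun z hz => by
    rw [hW₁e (pa z) hz, hs₁]
    exact ⟨fun h => genAt_of_puSec pa hM₁ _ hz h, fun h => TwistLib.GenAt.puSec pa h⟩
  have hG₂ : ∀ (z : P) (hz : z ∈ (pa ≫ a) ⁻¹ᵁ U), GenAt M₂' (qVal s₂ U e₂) hz ↔ pbB z ∈ W₂ := fun z hz => by
    rw [hW₂e (pbB z) (hle₂ U hz), hs₂, AmpleLib.genAt_res (hle₂ U) _ (x := z) hz]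
    exact ⟨fun h => genAt_of_puSec pbB hM₂ _ _ h, fun h => TwistLib.GenAt.puSec pbB h⟩
  refine ⟨U, hU, shT e₁ e₂, hxU, ?_, fun W hW hWe => ?_⟩
  · rw [hσ]
    exact ((hG₁ x hxU).mpr ((hW₁e _ _).mpr hg₁)).tensor ((hG₂ x hxU).mpr ((hW₂e _ _).mpr hg₂))
  have hWiff : ∀ z : P, z ∈ W ↔ pa z ∈ W₁ ∧ pbB z ∈ W₂ := fun z => by
    constructor
    · intro hz
      have h := (hWe z (hW hz)).mp hz
      rw [hσ] at h
      exact ⟨(hG₁ z (hW hz)).mp (genAt_left_of_tensor hM₁' hM₂' (hW hz) h),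
        (hG₂ z (hW hz)).mp (genAt_right_of_tensor hM₁' hM₂' (hW hz) h)⟩
    · rintro ⟨h1, h2⟩
      have hz : z ∈ (pa ≫ a) ⁻¹ᵁ U := hW₁ h1
      rw [hWe z hz, hσ]
      exact ((hG₁ z hz).mpr h1).tensor ((hG₂ z hz).mpr h2)
  have hWW₁ : W ≤ pa ⁻¹ᵁ W₁ := fun z hz => ((hWiff z).mp hz).1
  have hWW₂ : W ≤ pbB ⁻¹ᵁ W₂ := fun z hz => ((hWiff z).mp hz).2
  let r₁ := pa.resLE W₁ W hWW₁
  let r₂ := pbB.resLE W₂ W hWW₂
  let tA := terminal.from A
  let tB := terminal.from B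
  let j : (W : Scheme.{u}) ⟶ pullback (W₁.ι ≫ tA) (W₂.ι ≫ tB) := pullback.lift r₁ r₂ (terminal.hom_ext _ _)
  haveI : IsImmersion j := by
    let m := pullback.map (W₁.ι ≫ tA) (W₂.ι ≫ tB) tA tB W₁.ι W₂.ι (𝟙 _) (Category.comp_id _) (Category.comp_id _)
    haveI : IsImmersion (j ≫ m) := by
      have e : j ≫ m = W.ι ≫ hP.isoPullback.hom ≫ pullback.mapDesc a b (terminal.from Q) ≫
          (pullback.congrHom (terminal.hom_ext _ _) (terminal.hom_ext _ _)).hom := by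
        apply pullback.hom_ext <;>
          simp only [j, m, r₁, r₂, tA, tB, pullback.map, pullback.mapDesc, pullback.congrHom, asIso_hom, Category.assoc,
            pullback.lift_fst, pullback.lift_fst_assoc, pullback.lift_snd, pullback.lift_snd_assoc, Category.comp_id,
            Scheme.Hom.resLE_comp_ι, IsPullback.isoPullback_hom_fst, IsPullback.isoPullback_hom_snd]
      rw [e]
      infer_instance
    exact IsImmersion.of_comp j m
  haveI : IsImmersion (pullback.map (W₁.ι ≫ tA) (W₂.ι ≫ tB) (terminal.from A₁) (terminal.from A₂) f₁ f₂ (𝟙 _)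
      (terminal.hom_ext _ _) (terminal.hom_ext _ _)) :=
    MorphismProperty.pullbackMap hf₁ hf₂ (terminal.hom_ext _ _) (terminal.hom_ext _ _)
  let F := j ≫ pullback.map (W₁.ι ≫ tA) (W₂.ι ≫ tB) (terminal.from A₁) (terminal.from A₂) f₁ f₂ (𝟙 _)
      (terminal.hom_ext _ _) (terminal.hom_ext _ _)
  let B₀ : Subring Γ(W.toScheme, ⊤) := (Subring.closure {c : Γ(P, W) | ∃ m : Γ(CohB1.tensorMod E₁ E₂, U),
    res (CohB1.tensorMod M₁' M₂') hW (show Γ(CohB1.tensorMod M₁' M₂', (pa ≫ a) ⁻¹ᵁ U) from σ.app U m) =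
      c • res (CohB1.tensorMod M₁' M₂') hW
        (show Γ(CohB1.tensorMod M₁' M₂', (pa ≫ a) ⁻¹ᵁ U) from σ.app U (shT e₁ e₂))}).comap W.topIso.hom.hom
  have hle₁ : ∀ α : Γ(A₁, ⊤), (r₁ ≫ f₁).appTop α ∈ B₀ := by
    intro α
    show W.topIso.hom ((r₁ ≫ f₁).appTop α) ∈ Subring.closure _
    rw [Scheme.Hom.comp_appTop, CommRingCat.comp_apply,
      show W.topIso.hom (r₁.appTop (f₁.appTop α)) = pa.appLE W₁ W hWW₁ (W₁.topIso.hom (f₁.appTop α)) by
        simp only [r₁, Scheme.Hom.appTop, Scheme.Hom.resLE_app_top, CommRingCat.comp_apply]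
        exact CategoryTheory.Iso.inv_hom_id_apply W.topIso _]
    refine (Subring.closure_le (t := (Subring.closure _).comap (pa.appLE W₁ W hWW₁).hom)).mpr ?_ (hfa₁ α)
    rintro c ⟨m, hm⟩
    refine Subring.subset_closure ⟨shT m e₂, ?_⟩
    rw [hσ, hσ, AmpleLib.shT_res, AmpleLib.shT_res]
    have h1 : res M₁' hW (qVal s₁ U m) = pa.appLE W₁ W hWW₁ c • res M₁' hW (qVal s₁ U e₁) := by
      rw [hs₁, hs₁]
      have h := congrArg (fun z => res M₁' hWW₁ (puSec pa z)) hm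
      simp only [KFlatLib.puSec_smul, AmpleLib.res_smul, TwistLib.puSec_res, AmpleLib.res_res] at h
      exact (AmpleLib.res_res _ _ _ _).symm.trans (h.trans (congrArg (_ • ·) (AmpleLib.res_res _ _ _ _)))
    rw [h1]
    have h2 := AmpleLib.shT_smul (pa.appLE W₁ W hWW₁ c) 1 (res M₁' hW (qVal s₁ U e₁)) (res M₂' hW (qVal s₂ U e₂))
    rwa [one_smul, mul_one] at h2
  have hle₂' : ∀ α : Γ(A₂, ⊤), (r₂ ≫ f₂).appTop α ∈ B₀ := by
    intro α
    show W.topIso.hom ((r₂ ≫ f₂).appTop α) ∈ Subring.closure _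
    rw [Scheme.Hom.comp_appTop, CommRingCat.comp_apply,
      show W.topIso.hom (r₂.appTop (f₂.appTop α)) = pbB.appLE W₂ W hWW₂ (W₂.topIso.hom (f₂.appTop α)) by
        simp only [r₂, Scheme.Hom.appTop, Scheme.Hom.resLE_app_top, CommRingCat.comp_apply]
        exact CategoryTheory.Iso.inv_hom_id_apply W.topIso _]
    refine (Subring.closure_le (t := (Subring.closure _).comap (pbB.appLE W₂ W hWW₂).hom)).mpr ?_ (hfa₂ α)
    rintro c ⟨m, hm⟩
    refine Subring.subset_closure ⟨shT e₁ m, ?_⟩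
    rw [hσ, hσ, AmpleLib.shT_res, AmpleLib.shT_res]
    have h1 : res M₂' hW (qVal s₂ U m) = pbB.appLE W₂ W hWW₂ c • res M₂' hW (qVal s₂ U e₂) := by
      rw [hs₂, hs₂]
      have h := congrArg (fun z => res M₂' hWW₂ (puSec pbB z)) hm
      simp only [KFlatLib.puSec_smul, AmpleLib.res_smul, TwistLib.puSec_res, AmpleLib.res_res] at h ⊢
      have e : ∀ z : Γ(pb pbB M₂, pbB ⁻¹ᵁ (b ⁻¹ᵁ U)), res M₂' hW (res (pb pbB M₂) (hle₂ U) z) =
          res M₂' hWW₂ (res (pb pbB M₂) (pbB.preimage_mono hW₂) z) := fun z =>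
        (AmpleLib.res_res (pb pbB M₂) (hle₂ U) hW z).trans (AmpleLib.res_res (pb pbB M₂) (pbB.preimage_mono hW₂) hWW₂ z).symm
      exact (e _).trans (h.trans (congrArg (_ • ·) (e _).symm))
    rw [h1]
    have h2 := AmpleLib.shT_smul 1 (pbB.appLE W₂ W hWW₂ c) (res M₁' hW (qVal s₁ U e₁)) (res M₂' hW (qVal s₂ U e₂))
    rwa [one_smul, one_mul] at h2
  haveI : IsImmersion (toSpecSubring W.toScheme B₀) := by
    let θ₁ : Γ(A₁, ⊤) ⟶ CommRingCat.of B₀ := CommRingCat.ofHom ((r₁ ≫ f₁).appTop.hom.codRestrict B₀ hle₁)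
    let θ₂ : Γ(A₂, ⊤) ⟶ CommRingCat.of B₀ := CommRingCat.ofHom ((r₂ ≫ f₂).appTop.hom.codRestrict B₀ hle₂')
    let G : Spec (CommRingCat.of B₀) ⟶ pullback (terminal.from A₁) (terminal.from A₂) :=
      pullback.lift (Spec.map θ₁ ≫ A₁.isoSpec.inv) (Spec.map θ₂ ≫ A₂.isoSpec.inv) (terminal.hom_ext _ _)
    have e : toSpecSubring W.toScheme B₀ ≫ G = F := by
      apply pullback.hom_ext
      · rw [Category.assoc, pullback.lift_fst, Category.assoc, Category.assoc, pullback.lift_fst,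
          pullback.lift_fst_assoc, ← Category.assoc (Spec.map _), ← Spec.map_comp,
          show θ₁ ≫ CommRingCat.ofHom B₀.subtype = (r₁ ≫ f₁).appTop from rfl, ← Category.assoc,
          ← Scheme.toSpecΓ_naturality, Category.assoc, Scheme.toSpecΓ_isoSpec_inv, Category.comp_id]
      · rw [Category.assoc, pullback.lift_snd, Category.assoc, Category.assoc, pullback.lift_snd,
          pullback.lift_snd_assoc, ← Category.assoc (Spec.map _), ← Spec.map_comp,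
          show θ₂ ≫ CommRingCat.ofHom B₀.subtype = (r₂ ≫ f₂).appTop from rfl, ← Category.assoc,
          ← Scheme.toSpecΓ_naturality, Category.assoc, Scheme.toSpecΓ_isoSpec_inv, Category.comp_id]
    haveI : IsImmersion (toSpecSubring W.toScheme B₀ ≫ G) := e ▸ inferInstance
    exact IsImmersion.of_comp _ G
  refine ⟨_, inferInstance, toSpecSubring W.toScheme B₀, inferInstance, fun α => ?_⟩
  obtain ⟨β, rfl⟩ := (ConcreteCategory.bijective_of_isIso (Scheme.ΓSpecIso (CommRingCat.of B₀)).inv).2 α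
  rw [toSpecSubring_appTop]
  exact β.2

end EGA2SymLib

end
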