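import Mathlib
import Groth.Agent.EGA2SymLib.RLAmple
import Groth.Agent.MiscFlat6.RelProjEasy
import Groth.Agent.S12143
import Groth.Agent.MiscFlat6.RelAmpleLocal

/-!
# The morphism to the projective spectrum of all sections of powers of an ample module
-/

set_option autoImplicit false
universe u

open CategoryTheory CategoryTheory.Limits AlgebraicGeometry TopologicalSpace Opposite HomogeneousLocalization
open AmpleLib (res GenOn GenAt)
open AmpleThLib (tensorPow_isInvertible)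
open scoped HomogeneousIdeal

noncomputable section

namespace EGA2SymLib

variable {X Y P PL : Scheme.{u}} {L : X.Modules} [Coh.IsQCoh L] {𝒮L : RelProj.QCGrAlg X} {jL : L ⟶ 𝒮L.toModule}
  (hL : PicF.IsInvertible L) (hj : RelProj.IsGrSymAlg L 𝒮L jL)
  {f : X ⟶ Y} {𝒜 : RelProj.QCGrAlg Y} {u : RelProj.QGrHom f 𝒜 𝒮L}
  {p : P ⟶ Y} {chart : ∀ (U : Y.Opens) (hU : IsAffineOpen U), (((p ⁻¹ᵁ U : P.Opens) : Scheme.{u}) ≅ Proj (𝒜.deg U hU))}
  {pL : PL ⟶ X}
  {chartL : ∀ (U : X.Opens) (hU : IsAffineOpen U), (((pL ⁻¹ᵁ U : PL.Opens) : Scheme.{u}) ≅ Proj (𝒮L.deg U hU))}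
  {r : ((RelProj.domQ u pL chartL : PL.Opens) : Scheme.{u}) ⟶ P}
  (hP : RelProj.IsRelProj 𝒜 p chart) (hPL : RelProj.IsRelProj 𝒮L pL chartL)
  (hr : RelProj.IsProjQMapOn u p chart pL chartL (RelProj.domQ u pL chartL) r)

include hL hj in
/-- an affine locus is the locus of a homogeneous element -/
theorem exists_elt {U : Y.Opens} (hU : IsAffineOpen U) (hu : Function.Bijective (u.app U).hom) {n : ℕ}
    (σ : Γ(CohB1.tensorPow L n, f ⁻¹ᵁ U)) :
    ∃ g ∈ 𝒜.deg U hU n, sV (powMap hL jL n) (f ⁻¹ᵁ U) σ = (u.app U).hom g := by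
  obtain ⟨g, hg⟩ := hu.2 (sV (powMap hL jL n) (f ⁻¹ᵁ U) σ)
  exact ⟨g, mem_deg_of_degMem hU hu.1 (hg.symm ▸ powMap_degMem hL hj n σ), hg.symm⟩

include hL hj in
/-- homogeneous elements come from sections of powers -/
theorem exists_sec {U : Y.Opens} (hU : IsAffineOpen U) {n : ℕ} {g : 𝒜.presheaf.obj (op U)}
    (hg : g ∈ 𝒜.deg U hU n) :
    ∃ σ : Γ(CohB1.tensorPow L n, f ⁻¹ᵁ U), sV (powMap hL jL n) (f ⁻¹ᵁ U) σ = (u.app U).hom g :=
  powMap_surjective hL hj n (degMem_app hU hg)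

include hL in
/-- the locus of a section exists -/
theorem exists_isLocusOn {n : ℕ} {O : X.Opens} (σ : Γ(CohB1.tensorPow L n, O)) :
    ∃ W, IsLocusOn σ W :=
  exists_genLocus (tensorPow_isInvertible hL n) σ

include hL hj hP hPL hr in
/-- affine loci covering the source make the morphism an open immersion -/
theorem isOpenImmersion_of_loci [QuasiCompact f] [QuasiSeparated f] [IsIso pL] {κ : Type u} (U : κ → Y.Opens)
    (hU : ∀ a, IsAffineOpen (U a)) (hu : ∀ a, Function.Bijective (u.app (U a)).hom) (n : κ → ℕ)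
    (hn : ∀ a, 0 < n a) (σ : ∀ a, Γ(CohB1.tensorPow L (n a), f ⁻¹ᵁ U a)) (W : κ → X.Opens)
    (hW : ∀ a, IsLocusOn (σ a) (W a)) (hWa : ∀ a, IsAffineOpen (W a)) (hcov : ∀ x : X, ∃ a, x ∈ W a) :
    RelProj.domQ u pL chartL = ⊤ ∧ IsOpenImmersion r := by
  choose g hg hσ using fun a => exists_elt hL hj (hU a) (hu a) (σ a)
  have hpre := fun a => preimage_gOpen_eq hL hj hP hPL hr (hU a) (hn a) (hg a) (hσ a) (hW a)
  have hbij := fun a => awayMap_bijective hL hj hP hPL hr (hU a) (hu a)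
    (f.isCompact_preimage (hU a).isCompact) (f.isQuasiSeparated_preimage (hU a).isQuasiSeparated)
    (hn a) (hg a) (hσ a) (hW a) (hWa a)
  let O : P.Opens := ⨆ a, gOpen p chart (U a) (hU a) (g a)
  have hy : ∀ y : PL, ∃ (a : κ) (y' : (RelProj.domQ u pL chartL : Scheme.{u})),
      r y' ∈ gOpen p chart (U a) (hU a) (g a) ∧ (RelProj.domQ u pL chartL).ι y' = y := by
    intro y
    obtain ⟨a, ha⟩ := hcov (pL y)
    have hy : y ∈ pL ⁻¹ᵁ W a := ha
    rw [← hpre a] at hy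
    obtain ⟨y', h1, h2⟩ := hy
    exact ⟨a, y', h1, h2⟩
  refine ⟨top_le_iff.mp fun y _ => by obtain ⟨-, y', -, rfl⟩ := hy y; exact y'.2, ?_⟩
  have hrange : Set.range r ⊆ Set.range O.ι := by
    rw [Scheme.Opens.range_ι]
    rintro _ ⟨x, rfl⟩
    obtain ⟨a, y', h1, h2⟩ := hy ((RelProj.domQ u pL chartL).ι x)
    obtain rfl := (RelProj.domQ u pL chartL).ι.isOpenEmbedding.injective h2
    exact Opens.mem_iSup.mpr ⟨a, h1⟩
  let r' := IsOpenImmersion.lift O.ι r hrange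
  have hr' : r' ≫ O.ι = r := IsOpenImmersion.lift_fac _ _ _
  choose jX hj1 hj2 hj3 using fun a => exists_gsquare hPL hr (hU a) (hn a) (hg a) (hWa a) (hW a).1 (hpre a)
  have hle' : ∀ a, Set.range (gEmb p chart (hU a) (hn a) (hg a)) ⊆ Set.range O.ι := fun a => by
    rw [Scheme.Opens.range_ι]
    intro z hz
    refine Opens.mem_iSup.mpr ⟨a, ?_⟩
    rw [← gEmb_opensRange (hU a) (hn a) (hg a)]
    exact hz
  let jY := fun a => IsOpenImmersion.lift O.ι (gEmb p chart (hU a) (hn a) (hg a)) (hle' a)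
  haveI : ∀ a, IsOpenImmersion (jY a) := fun a => by
    haveI : IsOpenImmersion (jY a ≫ O.ι) := (IsOpenImmersion.lift_fac O.ι _ (hle' a)).symm ▸ inferInstance
    exact IsOpenImmersion.of_comp (jY a) O.ι
  have hjY : ∀ a, (jY a).opensRange = O.ι ⁻¹ᵁ gOpen p chart (U a) (hU a) (g a) := fun a => by
    rw [← gEmb_opensRange (hU a) (hn a) (hg a), ← O.ι.preimage_image_eq (jY a).opensRange,
      ← Scheme.Hom.opensRange_comp]
    congr 2
    exact IsOpenImmersion.lift_fac _ _ _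
  haveI : IsIso r' := by
    refine RelConeLib.of_squares (MorphismProperty.isomorphisms Scheme) r' jX jY
      (fun a => Spec.map (CommRingCat.ofHom (Away.map (u.gradedAt (U a) (hU a) (W a) (hWa a) (hW a).1) (g a))))
      (fun a => ?_) (fun a => ?_) (fun z => ?_) (fun a => ?_)
    · rw [← cancel_mono O.ι, Category.assoc, Category.assoc, hr', hj3 a, IsOpenImmersion.lift_fac]
    · rw [hjY, ← Scheme.Hom.comp_preimage, hr', hj2 a]
    · obtain ⟨a, ha⟩ := Opens.mem_iSup.mp z.2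
      exact ⟨a, (hjY a).ge ha⟩
    · exact (isIso_SpecMap_iff (f := CommRingCat.ofHom _)).mpr (hbij a)
  rw [← hr']
  infer_instance

include hP hPL hr in
/-- the morphism is dominant -/
theorem isDominant_of_injective [QuasiCompact f]
    (hinj : ∀ U : Y.Opens, IsAffineOpen U → Function.Injective (u.app U).hom) : IsDominant r := by
  refine (isDominant_iff hr hP hPL).mpr fun U hU d hd g _ hn => ?_
  by_contra hcon
  push Not at hcon
  refine hn ?_
  have hloc : ∀ x : X, x ∈ f ⁻¹ᵁ U → ∃ (V : X.Opens) (hle : V ≤ f ⁻¹ᵁ U), x ∈ V ∧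
      IsNilpotent ((u.appLE U V hle).hom g) := by
    intro x hx
    obtain ⟨V, hV, hxV, hle⟩ := exists_isAffineOpen_mem_and_subset (X := X) (x := x) (U := f ⁻¹ᵁ U) hx
    refine ⟨V, hle, hxV, ?_⟩
    by_contra hnn
    obtain ⟨z, hz⟩ := exists_mem_basicOpen_of_not_nilpotent (𝒜 := 𝒮L.deg V hV) hd
      (u.map_mem U hU V hV hle (by assumption)) hnn
    exact hcon V hV hle z hz
  choose V hle hxV hnil using hloc
  choose k hk using hnil
  obtain ⟨t, ht⟩ := (f.isCompact_preimage hU.isCompact).elim_finite_subcover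
    (fun x : (f ⁻¹ᵁ U : X.Opens) => (V x.1 x.2 : Set X)) (fun x => (V x.1 x.2).2)
    fun x hx => Set.mem_iUnion.mpr ⟨⟨x, hx⟩, hxV x hx⟩
  refine ⟨t.sup fun x => k x.1 x.2, hinj U hU ?_⟩
  rw [map_pow, map_zero]
  refine sV_ext fun z hz => ?_
  obtain ⟨x, hx, hzx⟩ := Set.mem_iUnion₂.mp (ht hz)
  refine ⟨V x.1 x.2, hle _ _, hzx, ?_⟩
  rw [map_pow, map_zero]
  exact pow_eq_zero_of_le (Finset.le_sup (f := fun x : (f ⁻¹ᵁ U : X.Opens) => k x.1 x.2) hx) (hk _ _)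

include hPL hP hr in
/-- the point `r y` lies over the image of `y` -/
theorem mem_preimage_of_mem [IsIso pL] (y : (RelProj.domQ u pL chartL : Scheme.{u})) {U : Y.Opens}
    (h : pL ((RelProj.domQ u pL chartL).ι y) ∈ f ⁻¹ᵁ U) : p (r y) ∈ U := by
  have h' := congr($(RelConeLib.qMap_over u hP hPL hr) y)
  rw [Scheme.Hom.comp_apply, Scheme.Hom.comp_apply, Scheme.Hom.comp_apply] at h'
  rw [h']
  exact h

include hL hj hP hPL hr in
/-- standard opens pulling back into a neighbourhood give loci inside it -/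
theorem exists_locus_of_nhds [IsIso pL] (y : (RelProj.domQ u pL chartL : Scheme.{u})) {U : Y.Opens}
    (hU : IsAffineOpen U) (hyU : pL ((RelProj.domQ u pL chartL).ι y) ∈ f ⁻¹ᵁ U) {Q : P.Opens} (hyQ : r y ∈ Q) :
    ∃ (d : ℕ) (g : 𝒜.presheaf.obj (op U)) (σ : Γ(CohB1.tensorPow L d, f ⁻¹ᵁ U)) (W : X.Opens),
      0 < d ∧ IsLocusOn σ W ∧ pL ((RelProj.domQ u pL chartL).ι y) ∈ W ∧ g ∈ 𝒜.deg U hU d ∧
      gOpen p chart U hU g ≤ Q ∧
      (RelProj.domQ u pL chartL).ι ''ᵁ (r ⁻¹ᵁ gOpen p chart U hU g) = pL ⁻¹ᵁ W := by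
  obtain ⟨t, ht⟩ := RelConeLib.exists_emb_eq (chart := chart) hU (r y) (mem_preimage_of_mem hP hPL hr y hyU)
  obtain ⟨d, g, hd, hg, htg, hgQ⟩ := exists_homogeneous_basicOpen t
    (O := RelProj.emb p chart U hU ⁻¹ᵁ Q) (show RelProj.emb p chart U hU t ∈ Q from ht ▸ hyQ)
  obtain ⟨σ, hσ⟩ := exists_sec hL hj hU hg
  obtain ⟨W, hW⟩ := exists_isLocusOn hL σ
  have hpre := preimage_gOpen_eq hL hj hP hPL hr hU hd hg hσ hW
  refine ⟨d, g, σ, W, hd, hW, ?_, hg, ?_, hpre⟩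
  · have h : (RelProj.domQ u pL chartL).ι y ∈ pL ⁻¹ᵁ W := by
      rw [← hpre]
      exact ⟨y, ⟨t, htg, ht⟩, rfl⟩
    exact h
  · rintro z ⟨z', hz', rfl⟩
    exact hgQ hz'

include hL hj hP hPL hr in
/-- ampleness gives a dominant open immersion -/
theorem isOpenImmersion_of_relAmple [IsIso pL] [QuasiCompact f]
    (hu : ∀ U : Y.Opens, IsAffineOpen U → Function.Bijective (u.app U).hom) (h : RelAmple.IsRelAmple f L) :
    RelProj.domQ u pL chartL = ⊤ ∧ IsOpenImmersion r ∧ IsDominant r := by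
  haveI := MiscFlat6.isSeparated_of_isRelAmple f h
  have hloc : ∀ x : X, ∃ (U : Y.Opens) (n : ℕ) (σ : Γ(CohB1.tensorPow L n, f ⁻¹ᵁ U)) (W : X.Opens),
      IsAffineOpen U ∧ 0 < n ∧ IsLocusOn σ W ∧ x ∈ W ∧ IsAffineOpen W := fun x => by
    obtain ⟨U, hU, hxU, -⟩ := exists_isAffineOpen_mem_and_subset (X := Y) (x := f x) (U := ⊤) trivial
    obtain ⟨n, σ, W, h1, h2, h3, h4⟩ := exists_locus_of_isAmple hL (h.2 ⟨U, hU⟩) (show x ∈ f ⁻¹ᵁ U from hxU)
    exact ⟨U, n, σ, W, hU, h1, h2, h3, h4⟩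
  choose U n σ W hU hn hW hxW hWa using hloc
  obtain ⟨h1, h2⟩ := isOpenImmersion_of_loci hL hj hP hPL hr U hU (fun a => hu _ (hU a)) n hn σ W hW hWa
    fun x => ⟨x, hxW x⟩
  exact ⟨h1, h2, isDominant_of_injective hP hPL hr fun U hU => (hu U hU).1⟩

end EGA2SymLib

end
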