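import Mathlib
import Groth.Agent.EGA2SymLib.RLAmpleMain

/-!
# Quasi-compactness and scheme-theoretic dominance over an affine base
-/

set_option autoImplicit false
universe u

open CategoryTheory CategoryTheory.Limits AlgebraicGeometry TopologicalSpace Opposite
open scoped HomogeneousIdeal

noncomputable section

namespace EGA2SymLib

variable {X Y P PL : Scheme.{u}}

/-- no section on a standard open dies on the source -/
theorem app_gOpen_injective {f : X ⟶ Y} {L : X.Modules} [Coh.IsQCoh L] (hL : PicF.IsInvertible L)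
    {𝒮L : RelProj.QCGrAlg X} {jL : L ⟶ 𝒮L.toModule} (hjL : RelProj.IsGrSymAlg L 𝒮L jL)
    {pL : PL ⟶ X} [IsIso pL]
    {chartL : ∀ (U : X.Opens) (hU : IsAffineOpen U), (((pL ⁻¹ᵁ U : PL.Opens) : Scheme.{u}) ≅ Proj (𝒮L.deg U hU))}
    {𝒜 : RelProj.QCGrAlg Y} {u : RelProj.QGrHom f 𝒜 𝒮L}
    {p : P ⟶ Y} {chart : ∀ (U : Y.Opens) (hU : IsAffineOpen U), (((p ⁻¹ᵁ U : P.Opens) : Scheme.{u}) ≅ Proj (𝒜.deg U hU))}
    {r : ((RelProj.domQ u pL chartL : PL.Opens) : Scheme.{u}) ⟶ P}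
    (hr : RelProj.IsProjQMapOn u p chart pL chartL (RelProj.domQ u pL chartL) r)
    {U : Y.Opens} (hU : IsAffineOpen U) (hu : Function.Injective (u.app U).hom)
    (hc : IsCompact ((f ⁻¹ᵁ U : X.Opens) : Set X)) {d : ℕ} (hd : 0 < d) {g : 𝒜.presheaf.obj (op U)}
    (hg : g ∈ 𝒜.deg U hU d) {σ' : Γ(CohB1.tensorPow L d, f ⁻¹ᵁ U)}
    (hσ' : sV (powMap hL jL d) (f ⁻¹ᵁ U) σ' = (u.app U).hom g) {W' : X.Opens} (hW' : IsLocusOn σ' W')
    (hWc : IsCompact (W' : Set X)) (z : Γ(P, gOpen p chart U hU g))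
    (hz : (r.app (gOpen p chart U hU g)).hom z = 0) : z = 0 := by
  let e := EGA2SymLib.gEmb p chart hU hd hg
  have he : e ''ᵁ ⊤ = EGA2SymLib.gOpen p chart U hU g := by
    rw [Scheme.Hom.image_top_eq_opensRange, EGA2SymLib.gEmb_opensRange]
  suffices key : ∀ O : P.Opens, e ''ᵁ ⊤ = O → ∀ z : Γ(P, O), (r.app O).hom z = 0 → z = 0 from key _ he z hz
  clear z hz he
  rintro _ rfl z hz
  suffices h : (Scheme.ΓSpecIso _).hom ((e.appIso ⊤).hom z) = 0 from
    (ConcreteCategory.bijective_of_isIso (e.appIso ⊤).hom).1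
      (((ConcreteCategory.bijective_of_isIso (Scheme.ΓSpecIso _).hom).1 (h.trans (map_zero _).symm)).trans
        (map_zero _).symm)
  obtain ⟨m, a, ha, hw⟩ := HomogeneousLocalization.Away.mk_surjective (𝒜.deg U hU) hg
    ((Scheme.ΓSpecIso _).hom ((e.appIso ⊤).hom z))
  rw [← hw]
  have hV : ∀ (x : X), x ∈ W' → ∃ (V : X.Opens) (hle : V ≤ W') (l : ℕ), x ∈ V ∧
      (u.appLE U V (hle.trans hW'.1)).hom (g ^ l * a) = 0 := by
    intro x hx
    obtain ⟨V, hV, hxV, hle⟩ := exists_isAffineOpen_mem_and_subset (X := X) (x := x) (U := W') hx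
    refine ⟨V, hle, ?_⟩
    let Wp : RelConeLib.Pair f := ⟨U, hU, V, hV, (show V ≤ W' from hle).trans hW'.1⟩
    let i : ConeRetrLib.Idx (𝒜.deg U hU) := ⟨d, g, hd, hg⟩
    let jX := RelConeLib.dChart (Wp.hom u) i ≫ RelConeLib.qEmb u (chart' := chartL) Wp
    let φ := CommRingCat.ofHom (HomogeneousLocalization.Away.map (Wp.hom u) g)
    have hj3 : jX ≫ r = Spec.map φ ≫ e := by
      rw [Category.assoc, (RelConeLib.isProjQMapOn_iff u r).mp hr Wp, RelConeLib.qTarget,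
        reassoc_of% (RelConeLib.dChart_dMap (Wp.hom u) i), RelConeLib.dTarget, Category.assoc]
    have hle' : (⊤ : Scheme.Opens _) ≤ (jX ≫ r) ⁻¹ᵁ (e ''ᵁ ⊤) := by
      rw [hj3, Scheme.Hom.comp_preimage, e.preimage_image_eq]
      exact le_rfl
    have h0 : (jX ≫ r).appLE (e ''ᵁ ⊤) ⊤ hle' z = 0 := by
      rw [Scheme.Hom.appLE, CommRingCat.comp_apply, Scheme.Hom.comp_app]
      have h0' : (jX.app (r ⁻¹ᵁ (e ''ᵁ ⊤))).hom ((r.app (e ''ᵁ ⊤)).hom z) = 0 := by rw [hz, map_zero]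
      exact (congrArg _ h0').trans (map_zero _)
    simp only [hj3] at h0
    rw [← Scheme.Hom.appLE_comp_appLE (Spec.map φ) e (e ''ᵁ ⊤) ⊤ ⊤ (e.preimage_image_eq ⊤).ge le_top,
      ← Scheme.Hom.appIso_hom', CommRingCat.comp_apply] at h0
    have h3 : φ ((Scheme.ΓSpecIso _).hom ((e.appIso ⊤).hom z)) = 0 := by
      refine (congr($(Scheme.ΓSpecIso_naturality φ) ((e.appIso ⊤).hom z))).symm.trans ?_
      rw [CommRingCat.comp_apply]
      refine (congrArg _ ?_).trans (map_zero _)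
      rw [Scheme.Hom.appTop, Scheme.Hom.app_eq_appLE]
      exact h0
    rw [← hw] at h3
    have h4 : HomogeneousLocalization.Away.map (u.gradedAt U hU V hV ((show V ≤ W' from hle).trans hW'.1)) g
        (HomogeneousLocalization.Away.mk (𝒜.deg U hU) hg m a ha) = _ :=
      h3.trans (map_zero ((HomogeneousLocalization.fromZeroRingHom (𝒮L.deg V hV) _).comp (𝒮L.strZero V hV).hom)).symm
    obtain ⟨l, hl⟩ := (EGA2SymLib.gmap_eq_base_iff hU hg hV _ m a ha 0).mp h4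
    rw [map_zero, mul_zero, mul_zero] at hl
    refine ⟨l, hxV, ?_⟩
    rw [map_mul, map_pow]
    exact hl
  choose V hle l hxV hl using hV
  obtain ⟨t, ht⟩ := hWc.elim_finite_subcover (fun x : W' => (V x.1 x.2 : Set X)) (fun x => (V x.1 x.2).2)
    fun x hx => Set.mem_iUnion.mpr ⟨⟨x, hx⟩, hxV x hx⟩
  let N := t.sup fun x => l x.1 x.2
  obtain ⟨k, hk⟩ := EGA2SymLib.exists_pow_mul_eq_zero hL hjL hu hc hσ' hW' (a := g ^ N * a) (by
    refine EGA2SymLib.sV_ext fun x hx => ?_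
    obtain ⟨x', hx', hxx'⟩ := Set.mem_iUnion₂.mp (ht hx)
    refine ⟨V x'.1 x'.2, hle _ _, hxx', ?_⟩
    rw [map_zero]
    refine (congr($(𝒮L.presheaf.map_comp _ _) ((u.app U).hom (g ^ N * a)))).symm.trans ?_
    show (u.appLE U (V x'.1 x'.2) ((hle _ _).trans hW'.1)).hom (g ^ N * a) = 0
    rw [show N = N - l x'.1 x'.2 + l x'.1 x'.2 from (Nat.sub_add_cancel (Finset.le_sup (f := fun x : W' => l x.1 x.2) hx')).symm,
      pow_add, mul_assoc, map_mul]
    exact mul_eq_zero_of_right _ (hl _ _))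
  refine HomogeneousLocalization.val_injective _ ?_
  rw [HomogeneousLocalization.Away.val_mk, HomogeneousLocalization.val_zero,
    ← Localization.mk_zero (1 : Submonoid.powers g), Localization.mk_eq_mk_iff, Localization.r_iff_exists]
  exact ⟨⟨g ^ (k + N), k + N, rfl⟩, by
    simp only [OneMemClass.coe_one, one_mul, mul_zero]
    rw [pow_add, mul_assoc, hk]⟩

/-- injective maps on sections over an affine cover give a quasi-compact scheme-theoretically dominant morphism -/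
theorem quasiCompact_schemeDominant_of_injective {f : X ⟶ Y} [QuasiCompact f]
    {L : X.Modules} [Coh.IsQCoh L] (hL : PicF.IsInvertible L)
    {𝒮L : RelProj.QCGrAlg X} {jL : L ⟶ 𝒮L.toModule} (hjL : RelProj.IsGrSymAlg L 𝒮L jL)
    {pL : PL ⟶ X} [IsIso pL]
    {chartL : ∀ (U : X.Opens) (hU : IsAffineOpen U), (((pL ⁻¹ᵁ U : PL.Opens) : Scheme.{u}) ≅ Proj (𝒮L.deg U hU))}
    (hPL : RelProj.IsRelProj 𝒮L pL chartL) {𝒜 : RelProj.QCGrAlg Y} {u : RelProj.QGrHom f 𝒜 𝒮L}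
    {p : P ⟶ Y} {chart : ∀ (U : Y.Opens) (hU : IsAffineOpen U), (((p ⁻¹ᵁ U : P.Opens) : Scheme.{u}) ≅ Proj (𝒜.deg U hU))}
    (hP : RelProj.IsRelProj 𝒜 p chart)
    {r : ((RelProj.domQ u pL chartL : PL.Opens) : Scheme.{u}) ⟶ P}
    (hr : RelProj.IsProjQMapOn u p chart pL chartL (RelProj.domQ u pL chartL) r)
    (U : Y → Y.Opens) (hU : ∀ z, IsAffineOpen (U z)) (hyU : ∀ z, z ∈ U z)
    (hu : ∀ z, Function.Injective (u.app (U z)).hom) :
    QuasiCompact r ∧ IsSchemeTheoreticallyDominant r := by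
  have hcov : ∀ y : P, ∃ (d : ℕ) (g : 𝒜.presheaf.obj (op (U (p y)))), 0 < d ∧ g ∈ 𝒜.deg (U (p y)) (hU (p y)) d ∧
      y ∈ EGA2SymLib.gOpen p chart (U (p y)) (hU (p y)) g := fun y => by
    obtain ⟨t, ht⟩ := RelConeLib.exists_emb_eq (chart := chart) (hU (p y)) y (hyU (p y))
    obtain ⟨d, g, hd, hg, htg, -⟩ := EGA2SymLib.exists_homogeneous_basicOpen t (O := ⊤) trivial
    exact ⟨d, g, hd, hg, t, htg, ht⟩
  choose d g hd hg hyg using hcov
  have hsup : ⨆ y, EGA2SymLib.gOpen p chart (U (p y)) (hU (p y)) (g y) = ⊤ :=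
    top_le_iff.mp fun y _ => Opens.mem_iSup.mpr ⟨y, hyg y⟩
  choose σ' hσ' using fun y => EGA2SymLib.exists_sec hL hjL (u := u) (hU (p y)) (hg y)
  choose W' hW' using fun y => EGA2SymLib.exists_isLocusOn hL (σ' y)
  have hc : ∀ y : P, IsCompact ((f ⁻¹ᵁ U (p y) : X.Opens) : Set X) := fun y => f.isCompact_preimage (hU (p y)).isCompact
  have hWc : ∀ y, IsCompact (W' y : Set X) := fun y =>
    EGA2SymLib.isCompact_genLocus (AmpleThLib.tensorPow_isInvertible hL _) (hc y) (σ' y) (hW' y).1 (hW' y).2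
  have hpre := fun y => EGA2SymLib.preimage_gOpen_eq hL hjL hP hPL hr (hU (p y)) (hd y) (hg y) (hσ' y) (hW' y)
  haveI hqc : QuasiCompact r := by
    refine (HasAffineProperty.iff_of_iSup_eq_top (P := @QuasiCompact)
      (fun y => ⟨_, EGA2SymLib.isAffineOpen_gOpen (p := p) (chart := chart) (hU (p y)) (hd y) (hg y)⟩) hsup).mpr fun y => ?_
    refine isCompact_iff_compactSpace.mp ((RelProj.domQ u pL chartL).ι.isOpenEmbedding.isInducing.isCompact_iff.mpr ?_)
    show IsCompact (((RelProj.domQ u pL chartL).ι ''ᵁ (r ⁻¹ᵁ EGA2SymLib.gOpen p chart (U (p y)) (hU (p y)) (g y)) : PL.Opens) : Set PL)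
    rw [hpre y]
    exact pL.isCompact_preimage (hWc y)
  refine ⟨hqc, ⟨Scheme.IdealSheafData.ext_of_iSup_eq_top
    (fun y => ⟨_, EGA2SymLib.isAffineOpen_gOpen (p := p) (chart := chart) (hU (p y)) (hd y) (hg y)⟩) hsup fun y => ?_⟩⟩
  rw [Scheme.Hom.ker_apply]
  refine eq_bot_iff.mpr fun z hz => ?_
  rw [RingHom.mem_ker] at hz
  show z = 0
  exact app_gOpen_injective hL hjL hr (hU (p y)) (hu (p y)) (hc y) (hd y) (hg y) (hσ' y) (hW' y) (hWc y) z hz

/-- the morphism to the spectrum of all sections is quasi-compact and scheme-theoretically dominant -/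
theorem quasiCompact_schemeDominant_of_affine {f : X ⟶ Y} [QuasiCompact f]
    (hY : IsAffineOpen (⊤ : Y.Opens)) {L : X.Modules} [Coh.IsQCoh L] (hL : PicF.IsInvertible L)
    {𝒮L : RelProj.QCGrAlg X} {jL : L ⟶ 𝒮L.toModule} (hjL : RelProj.IsGrSymAlg L 𝒮L jL)
    {pL : PL ⟶ X} [IsIso pL]
    {chartL : ∀ (U : X.Opens) (hU : IsAffineOpen U), (((pL ⁻¹ᵁ U : PL.Opens) : Scheme.{u}) ≅ Proj (𝒮L.deg U hU))}
    (hPL : RelProj.IsRelProj 𝒮L pL chartL) {𝒜 : RelProj.QCGrAlg Y} {u : RelProj.QGrHom f 𝒜 𝒮L}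
    {p : P ⟶ Y} {chart : ∀ (U : Y.Opens) (hU : IsAffineOpen U), (((p ⁻¹ᵁ U : P.Opens) : Scheme.{u}) ≅ Proj (𝒜.deg U hU))}
    (hP : RelProj.IsRelProj 𝒜 p chart)
    {r : ((RelProj.domQ u pL chartL : PL.Opens) : Scheme.{u}) ⟶ P}
    (hr : RelProj.IsProjQMapOn u p chart pL chartL (RelProj.domQ u pL chartL) r)
    (hu : Function.Bijective (u.app ⊤).hom) :
    QuasiCompact r ∧ IsSchemeTheoreticallyDominant r := by
  exact quasiCompact_schemeDominant_of_injective hL hjL hPL hP hr (fun _ => ⊤) (fun _ => hY) (fun _ => trivial)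
    fun _ => hu.1

/-- a quasi-compact scheme-theoretically dominant immersion is an open immersion -/
theorem isOpenImmersion_of_schemeDominant {A B : Scheme.{u}} (f : A ⟶ B) [IsImmersion f] [QuasiCompact f]
    [IsSchemeTheoreticallyDominant f] : IsOpenImmersion f := by
  have H : IsPullback f.liftCoborder (𝟙 A) f.coborderRange.ι f :=
    IsOpenImmersion.isPullback _ _ _ _ (by rw [Category.id_comp, f.liftCoborder_ι]) (by
      rw [Scheme.Opens.opensRange_ι, Scheme.Hom.opensRange_of_isIso]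
      refine top_le_iff.mp fun x _ => ?_
      show f x ∈ f.coborderRange
      rw [← congr($(f.liftCoborder_ι) x)]
      exact (f.liftCoborder x).2)
  haveI : IsSchemeTheoreticallyDominant f.liftCoborder := IsSchemeTheoreticallyDominant.of_isPullback H.flip
  haveI : IsIso f.liftCoborder := IsClosedImmersion.isIso_iff_ker_eq_bot.mpr f.liftCoborder.ker_eq_bot
  rw [← f.liftCoborder_ι]
  infer_instance

end EGA2SymLib

end
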