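import Mathlib
import Groth.Agent.EGA2SymLib.DegPart
import Groth.Agent.EGA2SymLib.Gen
import Groth.Agent.EGA2SymLib.Line
import Groth.Agent.QCohLib.AffineFinite

/-!
# The graded subalgebra generated by a module of homogeneous sections
-/

set_option autoImplicit false
universe u

open CategoryTheory CategoryTheory.Limits AlgebraicGeometry TopologicalSpace Opposite

noncomputable section

namespace EGA2SymLib

variable {S : Scheme.{u}} (𝒮 : RelProj.QCGrAlg S) {E : S.Modules} (j0 : E ⟶ 𝒮.toModule) (n : ℕ)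
  (hj : ∀ (U : S.Opens) (hU : IsAffineOpen U) (e : Γ(E, U)), jS j0 U e ∈ 𝒮.deg U hU n)

include hj in
/-- homogeneous components of elements of the generated subalgebra -/
theorem component_mem (hn : 0 < n) {U : S.Opens} (hU : IsAffineOpen U) {a : 𝒮.presheaf.obj (op U)}
    (ha : a ∈ SymGenLib.gen 𝒮.toQCAlg j0 U) (d : ℕ) :
    (DirectSum.decompose (𝒮.deg U hU) a d : 𝒮.presheaf.obj (op U)) ∈ SymGenLib.gen 𝒮.toQCAlg j0 U ∧
      (d = 0 → (DirectSum.decompose (𝒮.deg U hU) a d : 𝒮.presheaf.obj (op U)) ∈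
        Set.range (𝒮.str.app (op U)).hom) ∧
      (0 < d → d < n → (DirectSum.decompose (𝒮.deg U hU) a d : 𝒮.presheaf.obj (op U)) = 0) ∧
      (d = n → (DirectSum.decompose (𝒮.deg U hU) a d : 𝒮.presheaf.obj (op U)) ∈ Set.range (jS j0 U)) := by
  classical
  induction ha using Subring.closure_induction generalizing d with
  | mem y hy =>
    rcases hy with ⟨r, rfl⟩ | ⟨e, rfl⟩
    · by_cases hd : d = 0
      · subst hd
        rw [DirectSum.decompose_of_mem_same _ (𝒮.str_mem U hU r)]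
        exact ⟨SymGenLib.str_mem 𝒮.toQCAlg j0 U r, fun _ => ⟨r, rfl⟩, fun h => absurd h (lt_irrefl 0),
          fun h => absurd h hn.ne⟩
      · rw [DirectSum.decompose_of_mem_ne _ (𝒮.str_mem U hU r) (Ne.symm hd)]
        exact ⟨zero_mem _, fun h => absurd h hd, fun _ _ => by simp, fun _ => ⟨0, map_zero (j0.app U).hom⟩⟩
    · by_cases hd : d = n
      · subst hd
        rw [DirectSum.decompose_of_mem_same _ (show jS j0 U e ∈ 𝒮.deg U hU d from hj U hU e)]
        exact ⟨SymGenLib.j_mem 𝒮.toQCAlg j0 U e, fun h => absurd h hn.ne', fun _ h => absurd h (lt_irrefl _),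
          fun _ => ⟨e, rfl⟩⟩
      · rw [DirectSum.decompose_of_mem_ne _ (show jS j0 U e ∈ 𝒮.deg U hU n from hj U hU e) (Ne.symm hd)]
        exact ⟨zero_mem _, fun _ => ⟨0, map_zero _⟩, fun _ _ => by simp, fun h => absurd h hd⟩
  | zero =>
    simp only [DirectSum.decompose_zero, DirectSum.zero_apply, ZeroMemClass.coe_zero]
    exact ⟨zero_mem _, fun _ => ⟨0, map_zero _⟩, fun _ _ => by simp, fun _ => ⟨0, map_zero (j0.app U).hom⟩⟩
  | one =>
    by_cases hd : d = 0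
    · subst hd
      rw [DirectSum.decompose_of_mem_same (𝒮.deg U hU) (i := 0) SetLike.GradedOne.one_mem]
      exact ⟨one_mem _, fun _ => ⟨1, map_one _⟩, fun h => absurd h (lt_irrefl 0), fun h => absurd h hn.ne⟩
    · rw [DirectSum.decompose_of_mem_ne (𝒮.deg U hU) (i := 0) SetLike.GradedOne.one_mem (Ne.symm hd)]
      exact ⟨zero_mem _, fun h => absurd h hd, fun _ _ => by simp, fun _ => ⟨0, map_zero (j0.app U).hom⟩⟩
  | add y z _ _ ihy ihz =>
    obtain ⟨a1, a2, a3, a4⟩ := ihy d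
    obtain ⟨b1, b2, b3, b4⟩ := ihz d
    rw [DirectSum.decompose_add, DirectSum.add_apply, AddMemClass.coe_add]
    refine ⟨add_mem a1 b1, fun h => ?_, fun h h' => by rw [a3 h h', b3 h h', add_zero], fun h => ?_⟩
    · obtain ⟨r, hr⟩ := a2 h
      obtain ⟨s, hs⟩ := b2 h
      exact ⟨r + s, by rw [map_add, hr, hs]⟩
    · obtain ⟨e, he⟩ := a4 h
      obtain ⟨e', he'⟩ := b4 h
      refine ⟨e + e', ?_⟩
      rw [← he, ← he']
      exact map_add (j0.app U).hom e e'
  | neg y _ ihy =>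
    obtain ⟨a1, a2, a3, a4⟩ := ihy d
    rw [DirectSum.decompose_neg, DFinsupp.neg_apply, NegMemClass.coe_neg]
    refine ⟨neg_mem a1, fun h => ?_, fun h h' => by rw [a3 h h', neg_zero], fun h => ?_⟩
    · obtain ⟨r, hr⟩ := a2 h
      exact ⟨-r, by rw [map_neg, hr]⟩
    · obtain ⟨e, he⟩ := a4 h
      refine ⟨-e, ?_⟩
      rw [← he]
      exact map_neg (j0.app U).hom e
  | mul y z _ _ ihy ihz =>
    rw [DirectSum.decompose_mul, DirectSum.coe_mul_apply]
    refine ⟨Subring.sum_mem _ fun i _ => mul_mem (ihy i.1).1 (ihz i.2).1, fun h => ?_, fun h h' => ?_, fun h => ?_⟩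
    · refine Finset.sum_induction _ (· ∈ Set.range (𝒮.str.app (op U)).hom)
        (fun x y ⟨r, hr⟩ ⟨s, hs⟩ => ⟨r + s, by rw [map_add, hr, hs]⟩) ⟨0, map_zero _⟩ fun i hi => ?_
      have hs : i.1 + i.2 = d := (Finset.mem_filter.mp hi).2
      obtain ⟨r, hr⟩ := (ihy i.1).2.1 (by omega)
      obtain ⟨s, hs⟩ := (ihz i.2).2.1 (by omega)
      exact ⟨r * s, by rw [map_mul, hr, hs]⟩
    · refine Finset.sum_eq_zero fun i hi => ?_
      have hs : i.1 + i.2 = d := (Finset.mem_filter.mp hi).2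
      rcases Nat.eq_zero_or_pos i.1 with h0 | h0
      · rw [(ihz i.2).2.2.1 (by omega) (by omega), mul_zero]
      · rw [(ihy i.1).2.2.1 h0 (by omega), zero_mul]
    · refine Finset.sum_induction _ (· ∈ Set.range (jS j0 U))
        (fun x y ⟨r, hr⟩ ⟨s, hs⟩ => ⟨r + s, by rw [← hr, ← hs]; exact map_add (j0.app U).hom r s⟩)
        ⟨0, map_zero (j0.app U).hom⟩ fun i hi => ?_
      have hs : i.1 + i.2 = d := (Finset.mem_filter.mp hi).2
      rcases Nat.eq_zero_or_pos i.1 with h0 | h0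
      · obtain ⟨r, hr⟩ := (ihy i.1).2.1 h0
        obtain ⟨e, he⟩ := (ihz i.2).2.2.2 (by omega)
        exact ⟨r • e, by rw [← hr, ← he, str_mul_j]⟩
      · rcases Nat.eq_zero_or_pos i.2 with h1 | h1
        · obtain ⟨r, hr⟩ := (ihz i.2).2.1 h1
          obtain ⟨e, he⟩ := (ihy i.1).2.2.2 (by omega)
          exact ⟨r • e, by rw [← hr, ← he, mul_comm, str_mul_j]⟩
        · refine ⟨0, ?_⟩
          rw [(ihy i.1).2.2.1 h0 (by omega), zero_mul]
          exact map_zero (j0.app U).hom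

variable [Coh.IsQCoh E]

/-- the degrees of the generated subalgebra -/
def subDeg (U : S.Opens) (hU : IsAffineOpen U) (d : ℕ) :
    AddSubgroup ((SymGenLib.sub 𝒮.toQCAlg j0).presheaf.obj (op U)) :=
  (𝒮.deg U hU d).comap (SymGenLib.memRing 𝒮.toQCAlg j0 U).subtype.toAddMonoidHom

omit hj in
theorem mem_subDeg {U : S.Opens} (hU : IsAffineOpen U) {d : ℕ}
    {x : (SymGenLib.sub 𝒮.toQCAlg j0).presheaf.obj (op U)} :
    x ∈ subDeg 𝒮 j0 U hU d ↔ ((SymGenLib.incl 𝒮.toQCAlg j0).hom.app (op U)).hom x ∈ 𝒮.deg U hU d := Iff.rfl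

include hj in
theorem isInternal_subDeg (hn : 0 < n) (U : S.Opens) (hU : IsAffineOpen U) :
    DirectSum.IsInternal (subDeg 𝒮 j0 U hU) := by
  classical
  let R := SymGenLib.memRing 𝒮.toQCAlg j0 U
  let ι : ∀ d, subDeg 𝒮 j0 U hU d →+ 𝒮.deg U hU d := fun d =>
    AddMonoidHom.mk' (fun x => ⟨((SymGenLib.incl 𝒮.toQCAlg j0).hom.app (op U)).hom x.1, x.2⟩)
      fun a b => Subtype.ext (map_add _ a.1 b.1)
  have hcomp : ∀ g, DirectSum.coeAddMonoidHom (𝒮.deg U hU) (DirectSum.map ι g) =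
      ((SymGenLib.incl 𝒮.toQCAlg j0).hom.app (op U)).hom (DirectSum.coeAddMonoidHom (subDeg 𝒮 j0 U hU) g) := by
    intro g
    induction g using DirectSum.induction_on with
    | zero => simp
    | of i x =>
      rw [DirectSum.map_of, DirectSum.coeAddMonoidHom_of, DirectSum.coeAddMonoidHom_of]
      rfl
    | add a b ha hb => rw [map_add, map_add, ha, hb, map_add, map_add]
  refine ⟨(injective_iff_map_eq_zero _).mpr fun g hg => DFinsupp.ext fun d => ?_, fun x => ?_⟩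
  · have h1 : DirectSum.map ι g = 0 := (DirectSum.Decomposition.isInternal (𝒮.deg U hU)).1 (by
      rw [hcomp g, hg, map_zero, map_zero])
    have h2 : ι d (g d) = 0 := by
      rw [← DirectSum.map_apply, h1]
      rfl
    refine Subtype.ext ?_
    exact Subtype.ext (show ((SymGenLib.incl 𝒮.toQCAlg j0).hom.app (op U)).hom (g d).1 = 0 from congrArg Subtype.val h2)
  · let a : 𝒮.presheaf.obj (op U) := ((SymGenLib.incl 𝒮.toQCAlg j0).hom.app (op U)).hom x
    have ha : a ∈ SymGenLib.gen 𝒮.toQCAlg j0 U := (SymGenLib.mem_affine _ j0 hU).mp (show a ∈ R from x.2)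
    let c : ∀ d, subDeg 𝒮 j0 U hU d := fun d =>
      ⟨⟨(DirectSum.decompose (𝒮.deg U hU) a d : 𝒮.presheaf.obj (op U)),
        (SymGenLib.mem_affine _ j0 hU).mpr (component_mem 𝒮 j0 n hj hn hU ha d).1⟩,
        show (DirectSum.decompose (𝒮.deg U hU) a d : 𝒮.presheaf.obj (op U)) ∈ 𝒮.deg U hU d from SetLike.coe_mem _⟩
    refine ⟨∑ d ∈ (DirectSum.decompose (𝒮.deg U hU) a).support, DirectSum.of _ d (c d), Subtype.ext ?_⟩
    show ((SymGenLib.incl 𝒮.toQCAlg j0).hom.app (op U)).hom _ = a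
    rw [← hcomp, map_sum, map_sum]
    refine Eq.trans (Finset.sum_congr rfl fun d _ => ?_) (DirectSum.sum_support_decompose (𝒮.deg U hU) a)
    rw [DirectSum.map_of, DirectSum.coeAddMonoidHom_of]
    rfl

/-- the generated subalgebra, graded -/
def subGr (hn : 0 < n) : RelProj.QCGrAlg S where
  toQCAlg := SymGenLib.sub 𝒮.toQCAlg j0
  deg := subDeg 𝒮 j0
  graded U hU :=
    { (show SetLike.GradedMonoid (subDeg 𝒮 j0 U hU) from
        { one_mem := SetLike.GradedOne.one_mem (A := 𝒮.deg U hU)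
          mul_mem := fun {i k a b} ha hb => SetLike.GradedMul.mul_mem (A := 𝒮.deg U hU) ha hb }),
      (isInternal_subDeg 𝒮 j0 n hj hn U hU).chooseDecomposition with }
  map_mem {U V} hU hV i {d x} hx := 𝒮.map_mem hU hV i hx
  str_mem U hU r := 𝒮.str_mem U hU r

/-- the inclusion -/
abbrev subGrIncl (hn : 0 < n) : (subGr 𝒮 j0 n hj hn).toQCAlg ⟶ 𝒮.toQCAlg := SymGenLib.incl 𝒮.toQCAlg j0

theorem subGr_properties (hn : 0 < n) (hE : CohB1.IsFT E) :
    RelProj.IsGradedHom (subGrIncl 𝒮 j0 n hj hn) ∧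
    (∀ (U : S.Opens), IsAffineOpen U → Function.Injective ((subGrIncl 𝒮 j0 n hj hn).hom.app (op U)).hom) ∧
    (∀ (U : S.Opens) (hU : IsAffineOpen U),
      (((subGr 𝒮 j0 n hj hn).deg U hU 0 : AddSubgroup ((subGr 𝒮 j0 n hj hn).presheaf.obj (op U))) :
        Set ((subGr 𝒮 j0 n hj hn).presheaf.obj (op U))) = Set.range ((subGr 𝒮 j0 n hj hn).str.app (op U)).hom) ∧
    (∀ (U : S.Opens) (hU : IsAffineOpen U),
      Subring.closure ((((subGr 𝒮 j0 n hj hn).deg U hU 0 : AddSubgroup ((subGr 𝒮 j0 n hj hn).presheaf.obj (op U))) :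
          Set ((subGr 𝒮 j0 n hj hn).presheaf.obj (op U))) ∪
        (((subGr 𝒮 j0 n hj hn).deg U hU n : AddSubgroup ((subGr 𝒮 j0 n hj hn).presheaf.obj (op U))) :
          Set ((subGr 𝒮 j0 n hj hn).presheaf.obj (op U)))) = ⊤) ∧
    (subGr 𝒮 j0 n hj hn).IsFTDeg n := by
  classical
  have hinj : ∀ (U : S.Opens), Function.Injective ((subGrIncl 𝒮 j0 n hj hn).hom.app (op U)).hom :=
    fun U a b h => Subtype.ext h
  refine ⟨fun U hU d x hx => hx, fun U _ => hinj U, fun U hU => Set.Subset.antisymm (fun x hx => ?_) ?_,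
    fun U hU => ?_, fun U hU => ?_⟩
  · obtain ⟨r, hr⟩ := (component_mem 𝒮 j0 n hj hn hU ((SymGenLib.mem_affine _ j0 hU).mp x.2) 0).2.1 rfl
    exact ⟨r, hinj U (hr.trans (DirectSum.decompose_of_mem_same (𝒮.deg U hU) hx))⟩
  · rintro _ ⟨r, rfl⟩
    exact (subGr 𝒮 j0 n hj hn).str_mem U hU r
  · let T := Subring.closure ((((subGr 𝒮 j0 n hj hn).deg U hU 0 : AddSubgroup ((subGr 𝒮 j0 n hj hn).presheaf.obj (op U))) :
          Set ((subGr 𝒮 j0 n hj hn).presheaf.obj (op U))) ∪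
        (((subGr 𝒮 j0 n hj hn).deg U hU n : AddSubgroup ((subGr 𝒮 j0 n hj hn).presheaf.obj (op U))) :
          Set ((subGr 𝒮 j0 n hj hn).presheaf.obj (op U))))
    refine eq_top_iff.mpr fun x _ => ?_
    have hx := (SymGenLib.mem_affine _ j0 hU).mp x.2
    have key : SymGenLib.gen 𝒮.toQCAlg j0 U ≤ T.map ((subGrIncl 𝒮 j0 n hj hn).hom.app (op U)).hom := by
      refine Subring.closure_le.mpr ?_
      rintro _ (⟨r, rfl⟩ | ⟨e, rfl⟩)
      · exact ⟨((subGr 𝒮 j0 n hj hn).str.app (op U)).hom r,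
          Subring.subset_closure (Or.inl ((subGr 𝒮 j0 n hj hn).str_mem U hU r)), rfl⟩
      · exact ⟨⟨jS j0 U e, (SymGenLib.mem_affine _ j0 hU).mpr (SymGenLib.j_mem _ j0 U e)⟩,
          Subring.subset_closure (Or.inr (hj U hU e)), rfl⟩
    obtain ⟨y, hy, hyx⟩ := key hx
    exact hinj U hyx ▸ hy
  · obtain ⟨G, hG⟩ := (QCohLib.finite_of_isFT (M := E) hE hU).fg_top
    refine ⟨G.image fun e => (⟨jS j0 U e, (SymGenLib.mem_affine _ j0 hU).mpr (SymGenLib.j_mem _ j0 U e)⟩ :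
      (subGr 𝒮 j0 n hj hn).presheaf.obj (op U)), ?_, fun x hx => ?_⟩
    · intro z hz
      obtain ⟨e, -, rfl⟩ := Finset.mem_image.mp (Finset.mem_coe.mp hz)
      exact hj U hU e
    · obtain ⟨e, he⟩ := (component_mem 𝒮 j0 n hj hn hU ((SymGenLib.mem_affine _ j0 hU).mp x.2) n).2.2.2 rfl
      replace he := he.trans (DirectSum.decompose_of_mem_same (𝒮.deg U hU) hx)
      let cor := SymGenLib.corestrict 𝒮.toQCAlg j0
      let l : Γ(E, U) →ₗ[Γ(S, U)] Γ((SymGenLib.sub 𝒮.toQCAlg j0).toModule, U) :=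
        { toFun := fun e => cor.app U e
          map_add' := map_add (cor.app U).hom
          map_smul' := fun r e => QCohLib.app_smul cor U r e }
      have hle : l e ∈ Submodule.span Γ(S, U) ((G.image l : Finset Γ((SymGenLib.sub 𝒮.toQCAlg j0).toModule, U)) :
          Set Γ((SymGenLib.sub 𝒮.toQCAlg j0).toModule, U)) := by
        rw [Finset.coe_image, ← Submodule.map_span, hG]
        exact ⟨e, trivial, rfl⟩
      obtain ⟨c, -, hc⟩ := Submodule.mem_span_finset.mp hle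
      exact ⟨c, (show x = l e from hinj U he.symm).trans hc.symm⟩

end EGA2SymLib

end
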