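import Mathlib
import Groth.Agent.EGA2SymLib.PBTensor
import Groth.Agent.GrTildeLib.TensLift
import Groth.Agent.MiscFlat6.TensorGG

/-!
# The projective bundle of a twist by an invertible module
-/

set_option autoImplicit false
universe u

open CategoryTheory CategoryTheory.Limits AlgebraicGeometry TopologicalSpace Opposite
open KFlatLib (pb puSec pullθ)
open scoped HomogeneousIdeal
open AmpleLib (res GenOn GenAt shT)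

noncomputable section

namespace EGA2SymLib

variable {Y P Q T : Scheme.{u}} {E N : Y.Modules}

/-- germs of a tensor product with an invertible module are pure -/
theorem exists_eq_shT_gen {U : Y.Opens} {l₀ : Γ(N, U)} (hl : GenOn N l₀) {V : Y.Opens}
    (e : Γ(CohB1.tensorMod E N, V)) {z : Y} (hzV : z ∈ V) (hzU : z ∈ U) :
    ∃ (V' : Y.Opens) (_ : z ∈ V') (h1 : V' ≤ V) (h2 : V' ≤ U) (m : Γ(E, V')),
      res (CohB1.tensorMod E N) h1 e = shT m (res N h2 l₀) := by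
  obtain ⟨a, ha⟩ := ((KFlatLib.stalkTensorLin_bijective E N z).comp
    (GrTildeLib.bijective_tmul_gen (S := Y.presheaf.stalk z) (A := E.presheaf.stalk z) _ (hl.genAt hzU))).2
      ((CohB1.tensorMod E N).presheaf.germ V z hzV e)
  obtain ⟨W, hzW, m, rfl⟩ := E.presheaf.exists_germ_eq (x := z) a
  have hz1 : z ∈ W ⊓ U := ⟨hzW, hzU⟩
  have e1 : (CohB1.tensorMod E N).presheaf.germ (W ⊓ U) z hz1
      (shT (res E inf_le_left m) (res N inf_le_right l₀)) = (CohB1.tensorMod E N).presheaf.germ V z hzV e := by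
    refine Eq.trans ?_ ha
    show _ = KFlatLib.stalkTensorLin E N z (E.presheaf.germ W z hzW m ⊗ₜ N.presheaf.germ U z hzU l₀)
    rw [← AmpleLib.germ_res E (inf_le_left : W ⊓ U ≤ W) m hz1, ← AmpleLib.germ_res N (inf_le_right : W ⊓ U ≤ U) l₀ hz1,
      KFlatLib.stalkTensorLin_germ]
    rfl
  obtain ⟨V', hzV', i₁, i₂, hV'⟩ := TopCat.Presheaf.germ_eq _ _ hz1 hzV _ _ e1
  refine ⟨V', hzV', i₂.le, i₁.le.trans inf_le_right, res E (i₁.le.trans inf_le_left) m, ?_⟩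
  refine hV'.symm.trans ((AmpleLib.shT_res i₁.le _ _).trans ?_)
  rw [AmpleLib.res_res, AmpleLib.res_res]

/-- a pulled back multiple -/
theorem res_puSec_smul {A B : Scheme.{u}} (f : A ⟶ B) {M : B.Modules} {V : B.Opens} {D : A.Opens}
    (hD : D ≤ f ⁻¹ᵁ V) (c : Γ(B, V)) (x : Γ(M, V)) :
    res (pb f M) hD (puSec f (c • x)) = f.appLE V D hD c • res (pb f M) hD (puSec f x) := by
  rw [TwistLib.puSec_smul, AmpleLib.res_smul]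
  rfl

theorem appLE_comp_apply {A B C : Scheme.{u}} (f : A ⟶ B) (g : B ⟶ C) {V : C.Opens} {D : A.Opens}
    (hD : D ≤ f ⁻¹ᵁ (g ⁻¹ᵁ V)) (c : Γ(C, V)) :
    f.appLE (g ⁻¹ᵁ V) D hD (g.app V c) = (f ≫ g).appLE V D hD c := by
  rw [← Scheme.Hom.appLE_eq_app g, ← CommRingCat.comp_apply, Scheme.Hom.appLE_comp_appLE]

theorem app_comp5 {A : Scheme.{u}} {M0 M1 M2 M3 M4 M5 : A.Modules} (f1 : M0 ⟶ M1) (f2 : M1 ⟶ M2) (f3 : M2 ⟶ M3)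
    (f4 : M3 ⟶ M4) (f5 : M4 ⟶ M5) (V : A.Opens) {x0 : Γ(M0, V)} {x1 : Γ(M1, V)} {x2 : Γ(M2, V)}
    {x3 : Γ(M3, V)} {x4 : Γ(M4, V)} (h1 : f1.app V x0 = x1) (h2 : f2.app V x1 = x2) (h3 : f3.app V x2 = x3)
    (h4 : f4.app V x3 = x4) : (f1 ≫ f2 ≫ f3 ≫ f4 ≫ f5).app V x0 = f5.app V x4 := by
  subst h1 h2 h3 h4
  rfl

theorem app_comp4 {A : Scheme.{u}} {M0 M1 M2 M3 M4 : A.Modules} (f1 : M0 ⟶ M1) (f2 : M1 ⟶ M2) (f3 : M2 ⟶ M3)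
    (f4 : M3 ⟶ M4) (V : A.Opens) {x0 : Γ(M0, V)} {x1 : Γ(M1, V)} {x2 : Γ(M2, V)}
    {x3 : Γ(M3, V)} (h1 : f1.app V x0 = x1) (h2 : f2.app V x1 = x2) (h3 : f3.app V x2 = x3) :
    (f1 ≫ f2 ≫ f3 ≫ f4).app V x0 = f4.app V x3 := by
  subst h1 h2 h3
  rfl

theorem shT_smul_swap {A : Scheme.{u}} {M M' : A.Modules} {D : A.Opens} (c : Γ(A, D)) (a : Γ(M, D))
    (n : Γ(M', D)) : shT (c • a) n = shT a (c • n) := by
  have h1 := AmpleLib.shT_smul c 1 a n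
  have h2 := AmpleLib.shT_smul 1 c a n
  rw [one_smul, mul_one] at h1
  rw [one_smul, one_mul] at h2
  exact h1.trans h2.symm

theorem puSec_add {A B : Scheme.{u}} (f : A ⟶ B) {M : B.Modules} {V : B.Opens} (x y : Γ(M, V)) :
    puSec f (x + y) = puSec f x + puSec f y :=
  map_add (((Scheme.Modules.pullbackPushforwardAdjunction f).unit.app M).app V).hom x y

theorem res_add {A : Scheme.{u}} (M : A.Modules) {V D : A.Opens} (h : D ≤ V) (x y : Γ(M, V)) :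
    res M h (x + y) = res M h x + res M h y :=
  map_add (M.presheaf.map (homOfLE h).op).hom x y

/-- the comparison of a tensor product, as an isomorphism -/
def pullθIso {A B : Scheme.{u}} (f : A ⟶ B) (M M' : B.Modules) :
    pb f (CohB1.tensorMod M M') ≅ CohB1.tensorMod (pb f M) (pb f M') :=
  @asIso _ _ _ _ (pullθ f M M') (KFlatLib.isIso_pullθ f M M')

theorem pullθIso_hom_shT {A B : Scheme.{u}} (f : A ⟶ B) (M M' : B.Modules) {V : B.Opens} (m : Γ(M, V))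
    (n : Γ(M', V)) : (pullθIso f M M').hom.app (f ⁻¹ᵁ V) (puSec f (shT m n)) = shT (puSec f m) (puSec f n) :=
  pullθ_shT f M M' m n

/-- tensoring an isomorphism with a module -/
def tensIso {A : Scheme.{u}} {M M' : A.Modules} (a : M ≅ M') (B : A.Modules) :
    CohB1.tensorMod M B ≅ CohB1.tensorMod M' B :=
  (DCoh.tensorBi.mapIso a).app B

theorem tensIso_hom_shT {A : Scheme.{u}} {M M' : A.Modules} (a : M ≅ M') (B : A.Modules) {V : A.Opens}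
    (m : Γ(M, V)) (n : Γ(B, V)) : (tensIso a B).hom.app V (shT m n) = shT (a.hom.app V m) n :=
  tensMap_shT a.hom B m n

variable {𝒮 : RelProj.QCGrAlg Y}
  {j : E ⟶ 𝒮.toModule} {p : P ⟶ Y}
  {chart : ∀ (U : Y.Opens) (hU : IsAffineOpen U), (((p ⁻¹ᵁ U : P.Opens) : Scheme.{u}) ≅ Proj (𝒮.deg U hU))}
  {O1 : P.Modules} (φ : E ⟶ (Scheme.Modules.pushforward p).obj O1)
  {lam : ∀ (U : Y.Opens) (hU : IsAffineOpen U),
    O1 ⟶ (Scheme.Modules.pushforward (RelProj.emb p chart U hU)).obj (GrTwist.twist (𝒮.deg U hU) 1)}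
  {𝒯 : RelProj.QCGrAlg Y} {k : CohB1.tensorMod E N ⟶ 𝒯.toModule} {q : Q ⟶ Y}
  {chartQ : ∀ (U : Y.Opens) (hU : IsAffineOpen U), (((q ⁻¹ᵁ U : Q.Opens) : Scheme.{u}) ≅ Proj (𝒯.deg U hU))}
  {OQ : Q.Modules} (φQ : CohB1.tensorMod E N ⟶ (Scheme.Modules.pushforward q).obj OQ)
  {lamQ : ∀ (U : Y.Opens) (hU : IsAffineOpen U),
    OQ ⟶ (Scheme.Modules.pushforward (RelProj.emb q chartQ U hU)).obj (GrTwist.twist (𝒯.deg U hU) 1)}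
  (hP : RelProj.IsRelProj 𝒮 p chart) (hO1 : RelProj.IsRelTwist 𝒮 p chart 1 O1 lam)
  (hj : RelProj.IsGrSymAlg E 𝒮 j)
  (hφ : ∀ (U : Y.Opens) (hU : IsAffineOpen U) (e : Γ(E, U))
    (y : ↥(RelProj.emb p chart U hU ⁻¹ᵁ (p ⁻¹ᵁ U))),
    GrTwist.val (V := RelProj.emb p chart U hU ⁻¹ᵁ (p ⁻¹ᵁ U))
        ((lam U hU).app (p ⁻¹ᵁ U) ((φ.app U) e)) y =
      algebraMap (𝒮.presheaf.obj (op U)) (GrTwist.Loc (𝒮.deg U hU) y.1)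
        ((j.app U) e : 𝒮.presheaf.obj (op U)))
  (hQ : RelProj.IsRelProj 𝒯 q chartQ) (hOQ : RelProj.IsRelTwist 𝒯 q chartQ 1 OQ lamQ)
  (hk : RelProj.IsGrSymAlg (CohB1.tensorMod E N) 𝒯 k)
  (hφQ : ∀ (U : Y.Opens) (hU : IsAffineOpen U) (e : Γ(CohB1.tensorMod E N, U))
    (y : ↥(RelProj.emb q chartQ U hU ⁻¹ᵁ (q ⁻¹ᵁ U))),
    GrTwist.val (V := RelProj.emb q chartQ U hU ⁻¹ᵁ (q ⁻¹ᵁ U))
        ((lamQ U hU).app (q ⁻¹ᵁ U) ((φQ.app U) e)) y =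
      algebraMap (𝒯.presheaf.obj (op U)) (GrTwist.Loc (𝒯.deg U hU) y.1)
        ((k.app U) e : 𝒯.presheaf.obj (op U)))

variable (N) in
/-- the twisted quotient -/
def sN : pb p (CohB1.tensorMod E N) ⟶ CohB1.tensorMod O1 (pb p N) :=
  (pullθ p E N : pb p (CohB1.tensorMod E N) ⟶ CohB1.tensorMod (pb p E) (pb p N)) ≫
    (((DCoh.tensorBi (X := P)).map (adjA φ)).app (pb p N) :
      CohB1.tensorMod (pb p E) (pb p N) ⟶ CohB1.tensorMod O1 (pb p N))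

theorem sN_puSec {U : Y.Opens} (m : Γ(E, U)) (l : Γ(N, U)) :
    (sN N φ).app (p ⁻¹ᵁ U) (puSec p (shT m l)) = shT (show Γ(O1, p ⁻¹ᵁ U) from φ.app U m) (puSec p l) := by
  show (((DCoh.tensorBi (X := P)).map (adjA φ)).app (pb p N)).app _ ((pullθ p E N).app _ (puSec p (shT m l))) = _
  rw [pullθ_shT]
  exact (tensMap_shT (adjA φ) (pb p N) (puSec p m) (puSec p l)).trans
    (congrArg (fun z => shT z (puSec p l)) (adjA_puSec φ m))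

include hO1 hj hφ in
theorem epi_sN [Coh.IsQCoh E] (hN : PicF.IsInvertible N) : Epi (sN N φ) := by
  refine epi_of_genAt _ fun x => ?_
  obtain ⟨U, hU, hxU⟩ := GrModLib6.exists_chart_open (p := p) x
  obtain ⟨y, hy⟩ := (MiscFlat6.emb_opensRange (chart := chart) U hU).ge hxU
  obtain ⟨b, hb, hyb⟩ := GrTwistLib.exists_basicOpen_of_genDegOne _ (SymGenLib.isGenDegOne hj U hU) y
  obtain ⟨e, rfl⟩ := exists_of_mem_one hj U hU hb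
  obtain ⟨W, l, hxW, hl⟩ := TwistLib.exists_genOn hN (p x)
  have hxD : x ∈ bOpen p chart j hU e := ⟨y, hyb, hy⟩
  have hxV : x ∈ p ⁻¹ᵁ (U ⊓ W) := ⟨hxU, hxW⟩
  refine ⟨p ⁻¹ᵁ (U ⊓ W), hxV, puSec p (shT (res E inf_le_left e) (res N inf_le_right l)), ?_⟩
  rw [sN_puSec]
  have h1 := genOn_canonical hO1 hj hφ hU e
  have hDV : bOpen p chart j hU e ⊓ p ⁻¹ᵁ (U ⊓ W) ≤ p ⁻¹ᵁ (U ⊓ W) := inf_le_right
  refine (AmpleLib.genAt_res hDV _ (x := x) ⟨hxD, hxV⟩).mp ?_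
  rw [AmpleLib.shT_res]
  refine (AmpleThLib.shT_genOn ?_ ((AmpleDevLib.puSec_genOn p (hl.res inf_le_right)).res hDV)).genAt ⟨hxD, hxV⟩
  have e1 : (show Γ(O1, p ⁻¹ᵁ (U ⊓ W)) from φ.app (U ⊓ W) (res E inf_le_left e)) =
      res O1 (p.preimage_mono inf_le_left) (show Γ(O1, p ⁻¹ᵁ U) from φ.app U e) :=
    QCohLib.app_map φ (homOfLE (inf_le_left : U ⊓ W ≤ U)) e
  rw [e1, AmpleLib.res_res]
  have h2 := h1.res (inf_le_left : bOpen p chart j hU e ⊓ p ⁻¹ᵁ (U ⊓ W) ≤ bOpen p chart j hU e)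
  rwa [AmpleLib.res_res] at h2

section local'

variable {U : Y.Opens} (l₀ : Γ(N, U))

/-- the quotient on the preimage of a trivialising open -/
def betaVal (W : Y.Opens) (m : Γ(E, W)) :
    Γ(pb (q ⁻¹ᵁ U).ι OQ, ((q ⁻¹ᵁ U).ι ≫ q) ⁻¹ᵁ W) :=
  res (pb (q ⁻¹ᵁ U).ι OQ) (fun x hx => ⟨hx, x.2⟩ :
      ((q ⁻¹ᵁ U).ι ≫ q) ⁻¹ᵁ W ≤ (q ⁻¹ᵁ U).ι ⁻¹ᵁ (q ⁻¹ᵁ (W ⊓ U)))
    (puSec (q ⁻¹ᵁ U).ι (show Γ(OQ, q ⁻¹ᵁ (W ⊓ U)) from
      φQ.app (W ⊓ U) (shT (res E inf_le_left m) (res N inf_le_right l₀))))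

theorem betaVal_res {W W' : Y.Opens} (h : W' ≤ W) (m : Γ(E, W)) :
    betaVal φQ l₀ W' (res E h m) =
      res (pb (q ⁻¹ᵁ U).ι OQ) (((q ⁻¹ᵁ U).ι ≫ q).preimage_mono h) (betaVal φQ l₀ W m) := by
  have h' : W' ⊓ U ≤ W ⊓ U := inf_le_inf_right U h
  have e1 : shT (res E (inf_le_left : W' ⊓ U ≤ W') (res E h m)) (res N (inf_le_right : W' ⊓ U ≤ U) l₀) =
      res (CohB1.tensorMod E N) h' (shT (res E inf_le_left m) (res N inf_le_right l₀)) := by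
    rw [AmpleLib.shT_res, AmpleLib.res_res, AmpleLib.res_res, AmpleLib.res_res]
  have e2 : (show Γ(OQ, q ⁻¹ᵁ (W' ⊓ U)) from
      φQ.app (W' ⊓ U) (res (CohB1.tensorMod E N) h' (shT (res E inf_le_left m) (res N inf_le_right l₀)))) =
      res OQ (q.preimage_mono h') (show Γ(OQ, q ⁻¹ᵁ (W ⊓ U)) from
        φQ.app (W ⊓ U) (shT (res E inf_le_left m) (res N inf_le_right l₀))) :=
    QCohLib.app_map φQ (homOfLE h') _
  rw [betaVal, e1, e2, TwistLib.puSec_res, AmpleLib.res_res, betaVal, AmpleLib.res_res]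

theorem betaVal_add (W : Y.Opens) (a b : Γ(E, W)) :
    betaVal φQ l₀ W (a + b) = betaVal φQ l₀ W a + betaVal φQ l₀ W b := by
  have e1 : res E (inf_le_left : W ⊓ U ≤ W) (a + b) = res E inf_le_left a + res E inf_le_left b :=
    map_add (E.presheaf.map (homOfLE (inf_le_left : W ⊓ U ≤ W)).op).hom a b
  have e2 : (show Γ(OQ, q ⁻¹ᵁ (W ⊓ U)) from φQ.app (W ⊓ U)
      (shT (res E inf_le_left (a + b)) (res N inf_le_right l₀))) =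
      (show Γ(OQ, q ⁻¹ᵁ (W ⊓ U)) from φQ.app (W ⊓ U) (shT (res E inf_le_left a) (res N inf_le_right l₀))) +
        (show Γ(OQ, q ⁻¹ᵁ (W ⊓ U)) from φQ.app (W ⊓ U) (shT (res E inf_le_left b) (res N inf_le_right l₀))) := by
    rw [e1, shT_add_left]
    exact map_add (φQ.app (W ⊓ U)).hom _ _
  rw [betaVal, e2, puSec_add, res_add]
  rfl

theorem betaVal_smul (W : Y.Opens) (c : Γ(Y, W)) (a : Γ(E, W)) :
    betaVal φQ l₀ W (c • a) = ((q ⁻¹ᵁ U).ι ≫ q).app W c • betaVal φQ l₀ W a := by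
  have e1 := AmpleLib.shT_smul (M := E) (N := N) (Y.presheaf.map (homOfLE (inf_le_left : W ⊓ U ≤ W)).op c) 1
    (res E inf_le_left a) (res N (inf_le_right : W ⊓ U ≤ U) l₀)
  rw [one_smul, mul_one] at e1
  have e2 : (show Γ(OQ, q ⁻¹ᵁ (W ⊓ U)) from φQ.app (W ⊓ U)
      (shT (res E inf_le_left (c • a)) (res N inf_le_right l₀))) =
      q.app (W ⊓ U) (Y.presheaf.map (homOfLE (inf_le_left : W ⊓ U ≤ W)).op c) •
        (show Γ(OQ, q ⁻¹ᵁ (W ⊓ U)) from φQ.app (W ⊓ U) (shT (res E inf_le_left a) (res N inf_le_right l₀))) := by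
    rw [AmpleLib.res_smul]
    refine (congrArg (φQ.app (W ⊓ U)).hom e1).trans ?_
    exact QCohLib.app_smul φQ (W ⊓ U) _ _
  rw [betaVal, e2]
  refine (res_puSec_smul (q ⁻¹ᵁ U).ι _ (q.app (W ⊓ U) (Y.presheaf.map (homOfLE inf_le_left).op c)) _).trans ?_
  refine congrArg (· • betaVal φQ l₀ W a) ?_
  rw [appLE_comp_apply (q ⁻¹ᵁ U).ι q, ← CommRingCat.comp_apply, Scheme.Hom.map_appLE,
    ← Scheme.Hom.appLE_eq_app]

/-- the quotient map on the preimage of a trivialising open -/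
def betaHom : E ⟶ (Scheme.Modules.pushforward ((q ⁻¹ᵁ U).ι ≫ q)).obj (pb (q ⁻¹ᵁ U).ι OQ) :=
  ⟨PresheafOfModules.homMk
    { app := fun W => AddCommGrpCat.ofHom (AddMonoidHom.mk' (betaVal φQ l₀ W.unop) (betaVal_add φQ l₀ W.unop))
      naturality := fun W W' i => by
        ext m
        exact betaVal_res φQ l₀ i.unop.le m }
    fun W c a => betaVal_smul φQ l₀ W.unop c a⟩

/-- the quotient on the preimage of a trivialising open -/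
def tU : pb ((q ⁻¹ᵁ U).ι ≫ q) E ⟶ pb (q ⁻¹ᵁ U).ι OQ :=
  ((Scheme.Modules.pullbackPushforwardAdjunction ((q ⁻¹ᵁ U).ι ≫ q)).homEquiv _ _).symm (betaHom φQ l₀)

theorem qVal_tU (W : Y.Opens) (m : Γ(E, W)) : qVal (tU φQ l₀) W m = betaVal φQ l₀ W m :=
  adjA_puSec (betaHom φQ l₀) m

include hOQ hk hφQ in
theorem epi_tU [Coh.IsQCoh (CohB1.tensorMod E N)] (hl : GenOn N l₀) : Epi (tU φQ l₀) := by
  refine epi_of_genAt _ fun x => ?_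
  let z := q ((q ⁻¹ᵁ U).ι x)
  have hzU : z ∈ U := x.2
  obtain ⟨V, hV, hzV, -⟩ := exists_isAffineOpen_mem_and_subset (X := Y) (x := z) (U := U) hzU
  obtain ⟨y, hy⟩ := (MiscFlat6.emb_opensRange (chart := chartQ) V hV).ge (show (q ⁻¹ᵁ U).ι x ∈ q ⁻¹ᵁ V from hzV)
  obtain ⟨b, hb, hyb⟩ := GrTwistLib.exists_basicOpen_of_genDegOne _ (SymGenLib.isGenDegOne hk V hV) y
  obtain ⟨e, rfl⟩ := exists_of_mem_one hk V hV hb
  have hxD : (q ⁻¹ᵁ U).ι x ∈ bOpen q chartQ k hV e := ⟨y, hyb, hy⟩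
  obtain ⟨V', hzV', h1, h2, m, hm⟩ := exists_eq_shT_gen hl e hzV hzU
  have hg1 : GenAt OQ (show Γ(OQ, q ⁻¹ᵁ V) from φQ.app V e) (x := (q ⁻¹ᵁ U).ι x) hzV :=
    (AmpleLib.genAt_res _ _ hxD).mp ((genOn_canonical hOQ hk hφQ hV e).genAt hxD)
  have hz' : z ∈ V' ⊓ U := ⟨hzV', hzU⟩
  refine ⟨((q ⁻¹ᵁ U).ι ≫ q) ⁻¹ᵁ V', hzV', puSec _ m, ?_⟩
  show GenAt _ (qVal (tU φQ l₀) V' m) _
  rw [qVal_tU, betaVal, AmpleLib.genAt_res]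
  refine TwistLib.GenAt.puSec (q ⁻¹ᵁ U).ι (x := x) (hx := hz') ?_
  have e3 : shT (res E (inf_le_left : V' ⊓ U ≤ V') m) (res N (inf_le_right : V' ⊓ U ≤ U) l₀) =
      res (CohB1.tensorMod E N) ((inf_le_left : V' ⊓ U ≤ V').trans h1) e := by
    rw [← AmpleLib.res_res (CohB1.tensorMod E N) h1 (inf_le_left : V' ⊓ U ≤ V') e, hm, AmpleLib.shT_res,
      AmpleLib.res_res]
  have e4 : (show Γ(OQ, q ⁻¹ᵁ (V' ⊓ U)) from φQ.app (V' ⊓ U)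
      (shT (res E inf_le_left m) (res N inf_le_right l₀))) =
      res OQ (q.preimage_mono ((inf_le_left : V' ⊓ U ≤ V').trans h1)) (show Γ(OQ, q ⁻¹ᵁ V) from φQ.app V e) := by
    rw [e3]
    exact QCohLib.app_map φQ (homOfLE ((inf_le_left : V' ⊓ U ≤ V').trans h1)) e
  rw [e4]
  exact (AmpleLib.genAt_res _ _ (x := (q ⁻¹ᵁ U).ι x) hz').mpr hg1

theorem res_puSec_puSec_eq_smul {r : ((q ⁻¹ᵁ U : Q.Opens) : Scheme.{u}) ⟶ P} (hr : r ≫ p = (q ⁻¹ᵁ U).ι ≫ q)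
    {W : Y.Opens} {l : Γ(N, W)} {c : Γ(Y, W ⊓ U)}
    (hc : c • res N (inf_le_right : W ⊓ U ≤ U) l₀ = res N inf_le_left l)
    {D : ((q ⁻¹ᵁ U : Q.Opens) : Scheme.{u}).Opens} (hD : D ≤ ((q ⁻¹ᵁ U).ι ≫ q) ⁻¹ᵁ (W ⊓ U))
    (hD1 : D ≤ r ⁻¹ᵁ (p ⁻¹ᵁ W)) (hD2 : D ≤ r ⁻¹ᵁ (p ⁻¹ᵁ U)) :
    res (pb r (pb p N)) hD1 (puSec r (puSec p l)) =
      ((q ⁻¹ᵁ U).ι ≫ q).appLE (W ⊓ U) D hD c • res (pb r (pb p N)) hD2 (puSec r (puSec p l₀)) := by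
  have hD3 : D ≤ r ⁻¹ᵁ (p ⁻¹ᵁ (W ⊓ U)) := fun x hx => ⟨hD1 hx, hD2 hx⟩
  have e1 : res (pb r (pb p N)) hD1 (puSec r (puSec p l)) =
      res (pb r (pb p N)) hD3 (puSec r (puSec p (res N (inf_le_left : W ⊓ U ≤ W) l))) := by
    rw [TwistLib.puSec_res, TwistLib.puSec_res, AmpleLib.res_res]
  have e2 : res (pb r (pb p N)) hD2 (puSec r (puSec p l₀)) =
      res (pb r (pb p N)) hD3 (puSec r (puSec p (res N (inf_le_right : W ⊓ U ≤ U) l₀))) := by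
    rw [TwistLib.puSec_res, TwistLib.puSec_res, AmpleLib.res_res]
  rw [e1, e2, ← hc, TwistLib.puSec_smul, res_puSec_smul r hD3]
  refine congrArg (· • _) ?_
  rw [appLE_comp_apply r p]
  simp only [hr]

theorem res_puSec_phiQ_eq_smul {W : Y.Opens} (m : Γ(E, W)) {l : Γ(N, W)} {c : Γ(Y, W ⊓ U)}
    (hc : c • res N (inf_le_right : W ⊓ U ≤ U) l₀ = res N inf_le_left l)
    (hD : ((q ⁻¹ᵁ U).ι ≫ q) ⁻¹ᵁ W ≤ ((q ⁻¹ᵁ U).ι ≫ q) ⁻¹ᵁ (W ⊓ U))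
    (hD1 : ((q ⁻¹ᵁ U).ι ≫ q) ⁻¹ᵁ W ≤ (q ⁻¹ᵁ U).ι ⁻¹ᵁ (q ⁻¹ᵁ W)) :
    res (pb (q ⁻¹ᵁ U).ι OQ) hD1
        (puSec (q ⁻¹ᵁ U).ι (show Γ(OQ, q ⁻¹ᵁ W) from φQ.app W (shT m l))) =
      ((q ⁻¹ᵁ U).ι ≫ q).appLE (W ⊓ U) (((q ⁻¹ᵁ U).ι ≫ q) ⁻¹ᵁ W) hD c • betaVal φQ l₀ W m := by
  have e1 : shT (res E (inf_le_left : W ⊓ U ≤ W) m) (res N inf_le_left l) =
      c • shT (res E (inf_le_left : W ⊓ U ≤ W) m) (res N (inf_le_right : W ⊓ U ≤ U) l₀) := by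
    rw [← hc, ← shT_smul_swap]
    have h := AmpleLib.shT_smul c 1 (res E (inf_le_left : W ⊓ U ≤ W) m) (res N (inf_le_right : W ⊓ U ≤ U) l₀)
    rwa [one_smul, mul_one] at h
  have e2 : res OQ (q.preimage_mono (inf_le_left : W ⊓ U ≤ W)) (show Γ(OQ, q ⁻¹ᵁ W) from φQ.app W (shT m l)) =
      q.app (W ⊓ U) c • (show Γ(OQ, q ⁻¹ᵁ (W ⊓ U)) from
        φQ.app (W ⊓ U) (shT (res E inf_le_left m) (res N inf_le_right l₀))) := by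
    refine (QCohLib.app_map φQ (homOfLE (inf_le_left : W ⊓ U ≤ W)) (shT m l)).symm.trans ?_
    refine (congrArg (φQ.app (W ⊓ U)).hom ((AmpleLib.shT_res inf_le_left m l).trans e1)).trans ?_
    exact QCohLib.app_smul φQ (W ⊓ U) c _
  have hD4 : ((q ⁻¹ᵁ U).ι ≫ q) ⁻¹ᵁ W ≤ (q ⁻¹ᵁ U).ι ⁻¹ᵁ (q ⁻¹ᵁ (W ⊓ U)) := hD
  have e3 : res (pb (q ⁻¹ᵁ U).ι OQ) hD1
        (puSec (q ⁻¹ᵁ U).ι (show Γ(OQ, q ⁻¹ᵁ W) from φQ.app W (shT m l))) =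
      res (pb (q ⁻¹ᵁ U).ι OQ) hD4 (puSec (q ⁻¹ᵁ U).ι (res OQ (q.preimage_mono (inf_le_left : W ⊓ U ≤ W))
        (show Γ(OQ, q ⁻¹ᵁ W) from φQ.app W (shT m l)))) := by
    rw [TwistLib.puSec_res, AmpleLib.res_res]
  rw [e3, e2, res_puSec_smul (q ⁻¹ᵁ U).ι hD4, appLE_comp_apply (q ⁻¹ᵁ U).ι q]
  rfl

theorem val_of_induces {r : ((q ⁻¹ᵁ U : Q.Opens) : Scheme.{u}) ⟶ P} (hr : r ≫ p = (q ⁻¹ᵁ U).ι ≫ q)
    (τr : pb r O1 ≅ pb (q ⁻¹ᵁ U).ι OQ)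
    (hτr : ∀ (W : Y.Opens) (m : Γ(E, W)),
      (pb (q ⁻¹ᵁ U).ι OQ).presheaf.map (eqToHom (by rw [← hr]; rfl)).op
        (τr.hom.app (r ⁻¹ᵁ (p ⁻¹ᵁ W)) (puSec r (show Γ(O1, p ⁻¹ᵁ W) from φ.app W m))) = qVal (tU φQ l₀) W m)
    (W : Y.Opens) (m : Γ(E, W)) :
    τr.hom.app (r ⁻¹ᵁ (p ⁻¹ᵁ W)) (puSec r (show Γ(O1, p ⁻¹ᵁ W) from φ.app W m)) =
      res (pb (q ⁻¹ᵁ U).ι OQ) (by rw [← Scheme.Hom.comp_preimage, hr]) (betaVal φQ l₀ W m) := by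
  rw [← qVal_tU, ← hτr W m]
  refine Eq.trans ?_ (QCohLib.map_map' _ _ _ _).symm
  exact (congr($((pb (q ⁻¹ᵁ U).ι OQ).presheaf.map_id _) _)).symm

omit l₀ in
theorem val_of_induces_sN {i : P ⟶ Q} (hi : i ≫ q = p) (τi : pb i OQ ≅ CohB1.tensorMod O1 (pb p N))
    (hτi : ∀ (W : Y.Opens) (e : Γ(CohB1.tensorMod E N, W)),
      (CohB1.tensorMod O1 (pb p N)).presheaf.map (eqToHom (by rw [← hi]; rfl)).op
        (τi.hom.app (i ⁻¹ᵁ (q ⁻¹ᵁ W)) (puSec i (show Γ(OQ, q ⁻¹ᵁ W) from φQ.app W e))) = qVal (sN N φ) W e)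
    (W : Y.Opens) (m : Γ(E, W)) (l : Γ(N, W)) :
    τi.hom.app (i ⁻¹ᵁ (q ⁻¹ᵁ W)) (puSec i (show Γ(OQ, q ⁻¹ᵁ W) from φQ.app W (shT m l))) =
      res (CohB1.tensorMod O1 (pb p N)) (by rw [← Scheme.Hom.comp_preimage, hi])
        (shT (show Γ(O1, p ⁻¹ᵁ W) from φ.app W m) (puSec p l)) := by
  rw [← sN_puSec φ m l]
  show _ = res _ _ (qVal (sN N φ) W (shT m l))
  rw [← hτi W (shT m l)]
  refine Eq.trans ?_ (QCohLib.map_map' _ _ _ _).symm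
  exact (congr($((CohB1.tensorMod O1 (pb p N)).presheaf.map_id _) _)).symm

section sides

variable {i : P ⟶ Q} (hi : i ≫ q = p) (τi : pb i OQ ≅ CohB1.tensorMod O1 (pb p N))
  (hiv : ∀ (W : Y.Opens) (m : Γ(E, W)) (l : Γ(N, W)),
    τi.hom.app (i ⁻¹ᵁ (q ⁻¹ᵁ W)) (puSec i (show Γ(OQ, q ⁻¹ᵁ W) from φQ.app W (shT m l))) =
      res (CohB1.tensorMod O1 (pb p N)) (by rw [← Scheme.Hom.comp_preimage, hi])
        (shT (show Γ(O1, p ⁻¹ᵁ W) from φ.app W m) (puSec p l)))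
  {r : ((q ⁻¹ᵁ U : Q.Opens) : Scheme.{u}) ⟶ P} (hr : r ≫ p = (q ⁻¹ᵁ U).ι ≫ q)
  (τr : pb r O1 ≅ pb (q ⁻¹ᵁ U).ι OQ)
  (hval : ∀ (W : Y.Opens) (m : Γ(E, W)),
    τr.hom.app (r ⁻¹ᵁ (p ⁻¹ᵁ W)) (puSec r (show Γ(O1, p ⁻¹ᵁ W) from φ.app W m)) =
      res (pb (q ⁻¹ᵁ U).ι OQ) (by rw [← Scheme.Hom.comp_preimage, hr]) (betaVal φQ l₀ W m))

include hOQ hk hφQ hQ hiv hr hval in
theorem lift_comp_eq [Coh.IsQCoh (CohB1.tensorMod E N)] (hl : GenOn N l₀) : r ≫ i = (q ⁻¹ᵁ U).ι := by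
  have hMinv := AmpleDevLib.isInvertible_pb (q ⁻¹ᵁ U).ι
    (isInvertible_of_isRelTwist (SymGenLib.isGenDegOne hk) hOQ)
  have hrU : (⊤ : ((q ⁻¹ᵁ U : Q.Opens) : Scheme.{u}).Opens) ≤ r ⁻¹ᵁ (p ⁻¹ᵁ U) := fun x _ => by
    rw [← Scheme.Hom.comp_preimage, hr]
    exact x.2
  obtain ⟨κ, hκ⟩ := exists_tensor_gen_iso (B := pb r (pb p N)) hMinv
    (n₀ := res (pb r (pb p N)) hrU (puSec r (puSec p l₀)))
    ((AmpleDevLib.puSec_genOn r (AmpleDevLib.puSec_genOn p hl)).res hrU)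
  let τ : pb (r ≫ i) OQ ≅ pb (q ⁻¹ᵁ U).ι OQ :=
    ((Scheme.Modules.pullbackComp r i).app OQ).symm ≪≫ (Scheme.Modules.pullback r).mapIso τi ≪≫
      pullθIso r O1 (pb p N) ≪≫ tensIso τr (pb r (pb p N)) ≪≫
      κ.symm
  refine eq_of_indQ φQ hQ hOQ hk hφQ (g := (q ⁻¹ᵁ U).ι ≫ q) (show (r ≫ i) ≫ q = _ by rw [Category.assoc, hi, hr])
    rfl τ (Iso.refl _) (tensorMod_hom_ext fun W m l => ?_)
  rw [indQ_puSec, indQ_puSec]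
  let D := r ⁻¹ᵁ (i ⁻¹ᵁ (q ⁻¹ᵁ W))
  let D' := ((q ⁻¹ᵁ U).ι ≫ q) ⁻¹ᵁ W
  let X0 : Γ(OQ, q ⁻¹ᵁ W) := φQ.app W (shT m l)
  let a0 : Γ(O1, p ⁻¹ᵁ W) := φ.app W m
  have hA : D ≤ r ⁻¹ᵁ (p ⁻¹ᵁ W) := by
    show r ⁻¹ᵁ (i ⁻¹ᵁ (q ⁻¹ᵁ W)) ≤ _
    rw [← Scheme.Hom.comp_preimage i, hi]
  have hB : D ≤ D' := by
    show _ ≤ ((q ⁻¹ᵁ U).ι ≫ q) ⁻¹ᵁ W
    rw [← hr, ← hi]
    exact le_rfl
  have h1 : ((Scheme.Modules.pullbackComp r i).inv.app OQ).app D (puSec (r ≫ i) X0) = puSec r (puSec i X0) :=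
    CohCmpLib.pullbackComp_inv_puSec r i OQ X0
  have h2 : ((Scheme.Modules.pullback r).map τi.hom).app D (puSec r (puSec i X0)) =
      res _ hA (puSec r (shT a0 (puSec p l))) := by
    refine (KFlatLib.puSec_natural r τi.hom (puSec i X0)).trans ?_
    rw [hiv, TwistLib.puSec_res]
  have h3 : (pullθIso r O1 (pb p N)).hom.app D (res _ hA (puSec r (shT a0 (puSec p l)))) =
      res _ hA (shT (puSec r a0) (puSec r (puSec p l))) :=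
    (QCohLib.app_map (pullθIso r O1 (pb p N)).hom (homOfLE hA) _).trans
      (congrArg (res (CohB1.tensorMod (pb r O1) (pb r (pb p N))) hA) (pullθIso_hom_shT r O1 (pb p N) _ _))
  have h4 : (tensIso τr (pb r (pb p N))).hom.app D
        (res _ hA (shT (puSec r a0) (puSec r (puSec p l)))) =
      shT (res _ hB (betaVal φQ l₀ W m)) (res _ hA (puSec r (puSec p l))) := by
    refine (QCohLib.app_map (tensIso τr (pb r (pb p N))).hom (homOfLE hA) _).trans ?_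
    refine (congrArg (res (CohB1.tensorMod (pb (q ⁻¹ᵁ U).ι OQ) (pb r (pb p N))) hA)
      (tensIso_hom_shT τr (pb r (pb p N)) _ _)).trans ?_
    rw [hval, AmpleLib.shT_res, AmpleLib.res_res]
  have hD1 : D' ≤ (q ⁻¹ᵁ U).ι ⁻¹ᵁ (q ⁻¹ᵁ W) := le_rfl
  have hDU : D' ≤ ((q ⁻¹ᵁ U).ι ≫ q) ⁻¹ᵁ (W ⊓ U) := fun x hx => ⟨hx, x.2⟩
  obtain ⟨c, hc⟩ := ((hl.res (inf_le_right : W ⊓ U ≤ U)) (W ⊓ U) le_rfl).2 (res N inf_le_left l)
  dsimp only at hc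
  rw [AmpleLib.res_refl] at hc
  have key : shT (res _ hB (betaVal φQ l₀ W m)) (res _ hA (puSec r (puSec p l))) =
      κ.hom.app D (res _ (hB.trans hD1) (puSec (q ⁻¹ᵁ U).ι X0)) := by
    rw [hκ, ← AmpleLib.res_res (pb (q ⁻¹ᵁ U).ι OQ) hD1 hB, res_puSec_phiQ_eq_smul φQ l₀ m hc hDU hD1,
      res_puSec_puSec_eq_smul l₀ hr hc (hB.trans hDU) hA (fun x _ => hrU trivial), AmpleLib.res_smul,
      AmpleLib.res_res, ← shT_smul_swap]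
    refine congrArg (fun z => shT (z • _) _) ?_
    rw [← CommRingCat.comp_apply, Scheme.Hom.appLE_map]
  have hcomp : τ.hom.app D (puSec (r ≫ i) X0) = res _ (hB.trans hD1) (puSec (q ⁻¹ᵁ U).ι X0) :=
    (app_comp5 _ _ _ _ κ.inv D h1 h2 h3 (h4.trans key)).trans
      (congr($(κ.hom_inv_id).app D (res _ (hB.trans hD1) (puSec (q ⁻¹ᵁ U).ι X0))))
  refine (congrArg ((pb (q ⁻¹ᵁ U).ι OQ).presheaf.map _) hcomp).trans ?_
  refine (QCohLib.map_map' _ _ _ _).trans ?_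
  rfl

section general'

variable {Z : Scheme.{u}} {i' : Z ⟶ ((q ⁻¹ᵁ U : Q.Opens) : Scheme.{u})} {ιP : Z ⟶ P}
  (hii : i' ≫ (q ⁻¹ᵁ U).ι = ιP ≫ i)

include hval in
theorem fstPart_val (W : Y.Opens) (m : Γ(E, W)) (D0 : Z.Opens) (hD0 : D0 = i' ⁻¹ᵁ (r ⁻¹ᵁ (p ⁻¹ᵁ W)))
    (hA1 : D0 ≤ i' ⁻¹ᵁ ((q ⁻¹ᵁ U).ι ⁻¹ᵁ (q ⁻¹ᵁ (W ⊓ U)))) (hA2 : D0 ≤ ιP ⁻¹ᵁ (i ⁻¹ᵁ (q ⁻¹ᵁ (W ⊓ U)))) :
    (((Scheme.Modules.pullbackComp i' r).app O1).symm ≪≫ (Scheme.Modules.pullback i').mapIso τr ≪≫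
      ((Scheme.Modules.pullbackComp i' (q ⁻¹ᵁ U).ι).app OQ ≪≫ (Scheme.Modules.pullbackCongr hii).app OQ) ≪≫
      ((Scheme.Modules.pullbackComp ιP i).app OQ).symm).hom.app D0
        (res (pb (i' ≫ r) O1) hD0.le (puSec (i' ≫ r) (show Γ(O1, p ⁻¹ᵁ W) from φ.app W m))) =
      res _ hA2 (puSec ιP (puSec i (show Γ(OQ, q ⁻¹ᵁ (W ⊓ U)) from
        φQ.app (W ⊓ U) (shT (res E inf_le_left m) (res N inf_le_right l₀))))) := by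
  subst hD0
  rw [AmpleLib.res_refl]
  let σ : Γ(O1, p ⁻¹ᵁ W) := φ.app W m
  let Z' : Γ(OQ, q ⁻¹ᵁ (W ⊓ U)) := φQ.app (W ⊓ U) (shT (res E inf_le_left m) (res N inf_le_right l₀))
  let c1 := ((Scheme.Modules.pullbackComp i' (q ⁻¹ᵁ U).ι).app OQ ≪≫ (Scheme.Modules.pullbackCongr hii).app OQ)
  have h1 : ((Scheme.Modules.pullbackComp i' r).inv.app O1).app _ (puSec (i' ≫ r) σ) = puSec i' (puSec r σ) :=
    CohCmpLib.pullbackComp_inv_puSec i' r O1 σ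
  have h2 : ((Scheme.Modules.pullback i').map τr.hom).app _ (puSec i' (puSec r σ)) =
      res _ hA1 (puSec i' (puSec (q ⁻¹ᵁ U).ι Z')) := by
    refine (KFlatLib.puSec_natural i' τr.hom (puSec r σ)).trans ?_
    rw [hval, betaVal, AmpleLib.res_res, TwistLib.puSec_res]
  have h3 : c1.hom.app _ (res _ hA1 (puSec i' (puSec (q ⁻¹ᵁ U).ι Z'))) = res _ hA2 (puSec (ιP ≫ i) Z') :=
    (QCohLib.app_map c1.hom (homOfLE hA1) _).trans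
      ((congrArg (res (pb (ιP ≫ i) OQ) hA1) (comp_congr_puSec i' hii OQ Z')).trans (AmpleLib.res_res _ _ _ _))
  refine (app_comp4 _ _ c1.hom ((Scheme.Modules.pullbackComp ιP i).inv.app OQ) _ h1 h2 h3).trans ?_
  exact (QCohLib.app_map ((Scheme.Modules.pullbackComp ιP i).inv.app OQ) (homOfLE hA2) _).trans
    (congrArg (res (pb ιP (pb i OQ)) hA2) (CohCmpLib.pullbackComp_inv_puSec ιP i OQ Z'))

include hiv in
theorem sndPart_val (W : Y.Opens) (m : Γ(E, W)) {n₀ : Γ(pb ιP (pb p N), ⊤)}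
    (κ : pb ιP O1 ≅ CohB1.tensorMod (pb ιP O1) (pb ιP (pb p N)))
    (hκ : ∀ (V : Z.Opens) (a : Γ(pb ιP O1, V)), κ.hom.app V a = shT a (res (pb ιP (pb p N)) le_top n₀))
    (hιU : (⊤ : Z.Opens) ≤ ιP ⁻¹ᵁ (p ⁻¹ᵁ U)) (hn : n₀ = res (pb ιP (pb p N)) hιU (puSec ιP (puSec p l₀)))
    (D0 : Z.Opens) (hA2 : D0 ≤ ιP ⁻¹ᵁ (i ⁻¹ᵁ (q ⁻¹ᵁ (W ⊓ U))))
    (hA3 : D0 ≤ ιP ⁻¹ᵁ (p ⁻¹ᵁ (W ⊓ U))) (hA4 : D0 ≤ ιP ⁻¹ᵁ (p ⁻¹ᵁ W)) :
    ((Scheme.Modules.pullback ιP).mapIso τi ≪≫ pullθIso ιP O1 (pb p N) ≪≫ κ.symm).hom.app D0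
        (res _ hA2 (puSec ιP (puSec i (show Γ(OQ, q ⁻¹ᵁ (W ⊓ U)) from
          φQ.app (W ⊓ U) (shT (res E inf_le_left m) (res N inf_le_right l₀)))))) =
      res _ hA4 (puSec ιP (show Γ(O1, p ⁻¹ᵁ W) from φ.app W m)) := by
  subst hn
  let Z' : Γ(OQ, q ⁻¹ᵁ (W ⊓ U)) := φQ.app (W ⊓ U) (shT (res E inf_le_left m) (res N inf_le_right l₀))
  let σ : Γ(O1, p ⁻¹ᵁ W) := φ.app W m
  have h5 : ((Scheme.Modules.pullback ιP).map τi.hom).app D0 (res _ hA2 (puSec ιP (puSec i Z'))) =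
      res _ hA3 (puSec ιP (shT (show Γ(O1, p ⁻¹ᵁ (W ⊓ U)) from φ.app (W ⊓ U) (res E inf_le_left m))
        (puSec p (res N inf_le_right l₀)))) := by
    refine (QCohLib.app_map ((Scheme.Modules.pullback ιP).map τi.hom) (homOfLE hA2) _).trans ?_
    refine (congrArg (res (pb ιP (CohB1.tensorMod O1 (pb p N))) hA2) ?_).trans (AmpleLib.res_res _
      (ιP.preimage_mono (by rw [← Scheme.Hom.comp_preimage i, hi])) hA2 _)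
    refine (KFlatLib.puSec_natural ιP τi.hom (puSec i Z')).trans ?_
    rw [hiv, TwistLib.puSec_res]
  have h6 : (pullθIso ιP O1 (pb p N)).hom.app D0 (res _ hA3 (puSec ιP
        (shT (show Γ(O1, p ⁻¹ᵁ (W ⊓ U)) from φ.app (W ⊓ U) (res E inf_le_left m))
          (puSec p (res N inf_le_right l₀))))) =
      κ.hom.app D0 (res _ hA4 (puSec ιP σ)) := by
    refine (QCohLib.app_map (pullθIso ιP O1 (pb p N)).hom (homOfLE hA3) _).trans ?_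
    refine (congrArg (res (CohB1.tensorMod (pb ιP O1) (pb ιP (pb p N))) hA3)
      (pullθIso_hom_shT ιP O1 (pb p N) _ _)).trans ?_
    rw [hκ, AmpleLib.shT_res, AmpleLib.res_res]
    have e1 : (show Γ(O1, p ⁻¹ᵁ (W ⊓ U)) from φ.app (W ⊓ U) (res E inf_le_left m)) =
        res O1 (p.preimage_mono inf_le_left) σ := QCohLib.app_map φ (homOfLE (inf_le_left : W ⊓ U ≤ W)) m
    rw [e1, TwistLib.puSec_res, AmpleLib.res_res, TwistLib.puSec_res, TwistLib.puSec_res, AmpleLib.res_res]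
  show κ.inv.app D0 ((pullθIso ιP O1 (pb p N)).hom.app D0 (((Scheme.Modules.pullback ιP).map τi.hom).app D0
    (res _ hA2 (puSec ιP (puSec i Z'))))) = _
  rw [h5, h6]
  exact congr($(κ.hom_inv_id).app D0 (res _ hA4 (puSec ιP σ)))

include hP hO1 hj hφ hiv hr hval hii in
theorem general_comp_eq [Coh.IsQCoh E] (hl : GenOn N l₀) (hιU : (⊤ : Z.Opens) ≤ ιP ⁻¹ᵁ (p ⁻¹ᵁ U)) :
    i' ≫ r = ιP := by
  obtain ⟨κ, hκ⟩ := exists_tensor_gen_iso (B := pb ιP (pb p N))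
    (AmpleDevLib.isInvertible_pb ιP (isInvertible_of_isRelTwist (SymGenLib.isGenDegOne hj) hO1))
    (n₀ := res (pb ιP (pb p N)) hιU (puSec ιP (puSec p l₀)))
    ((AmpleDevLib.puSec_genOn ιP (AmpleDevLib.puSec_genOn p hl)).res hιU)
  have hover : (i' ≫ r) ≫ p = ιP ≫ p := by
    rw [Category.assoc, hr, ← Category.assoc, hii, Category.assoc, hi]
  let a : pb (i' ≫ r) O1 ≅ pb ιP (pb i OQ) :=
    ((Scheme.Modules.pullbackComp i' r).app O1).symm ≪≫ (Scheme.Modules.pullback i').mapIso τr ≪≫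
      ((Scheme.Modules.pullbackComp i' (q ⁻¹ᵁ U).ι).app OQ ≪≫ (Scheme.Modules.pullbackCongr hii).app OQ) ≪≫
      ((Scheme.Modules.pullbackComp ιP i).app OQ).symm
  let b : pb ιP (pb i OQ) ≅ pb ιP O1 :=
    (Scheme.Modules.pullback ιP).mapIso τi ≪≫ pullθIso ιP O1 (pb p N) ≪≫ κ.symm
  refine eq_of_indQ φ hP hO1 hj hφ (g := ιP ≫ p) hover rfl (a ≪≫ b) (Iso.refl _)
    (CycPBLib.hom_ext_pu _ _ _ fun W m => ?_)
  rw [indQ_puSec, indQ_puSec]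
  have hmem : ∀ x, x ∈ i' ⁻¹ᵁ (r ⁻¹ᵁ (p ⁻¹ᵁ W)) → x ∈ ιP ⁻¹ᵁ (p ⁻¹ᵁ W) := fun x hx => by
    show x ∈ (ιP ≫ p) ⁻¹ᵁ W
    rw [← hover]
    exact hx
  have hA3 : i' ⁻¹ᵁ (r ⁻¹ᵁ (p ⁻¹ᵁ W)) ≤ ιP ⁻¹ᵁ (p ⁻¹ᵁ (W ⊓ U)) := fun x hx => ⟨hmem x hx, hιU trivial⟩
  have hA2 : i' ⁻¹ᵁ (r ⁻¹ᵁ (p ⁻¹ᵁ W)) ≤ ιP ⁻¹ᵁ (i ⁻¹ᵁ (q ⁻¹ᵁ (W ⊓ U))) := by
    rw [← Scheme.Hom.comp_preimage i, hi]
    exact hA3
  have hA1 : i' ⁻¹ᵁ (r ⁻¹ᵁ (p ⁻¹ᵁ W)) ≤ i' ⁻¹ᵁ ((q ⁻¹ᵁ U).ι ⁻¹ᵁ (q ⁻¹ᵁ (W ⊓ U))) := by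
    rw [← Scheme.Hom.comp_preimage i' (q ⁻¹ᵁ U).ι, hii, Scheme.Hom.comp_preimage ιP i]
    exact hA2
  have ha := fstPart_val φ φQ l₀ hr τr hval hii W m _ rfl hA1 hA2
  rw [AmpleLib.res_refl] at ha
  have hb := sndPart_val φ φQ l₀ hi τi hiv W m κ hκ hιU rfl _ hA2 hA3 hmem
  have hcomp := (congrArg (b.hom.app (i' ⁻¹ᵁ (r ⁻¹ᵁ (p ⁻¹ᵁ W)))).hom ha).trans hb
  refine (congrArg ((pb ιP O1).presheaf.map _) hcomp).trans ?_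
  refine (QCohLib.map_map' _ _ _ _).trans ?_
  rfl

end general'

include hP hO1 hj hφ hiv hr hval in
theorem restrict_comp_eq [Coh.IsQCoh E] (hl : GenOn N l₀) :
    (i ∣_ (q ⁻¹ᵁ U)) ≫ r = (i ⁻¹ᵁ (q ⁻¹ᵁ U)).ι :=
  general_comp_eq φ φQ hP hO1 hj hφ l₀ hi τi hiv hr τr hval (morphismRestrict_ι i _) hl fun x _ => by
    show x.1 ∈ p ⁻¹ᵁ U
    rw [← hi]
    exact x.2

end sides

include hP hO1 hj hφ hQ hOQ hk hφQ in
theorem exists_local_inverse [Coh.IsQCoh E] [Coh.IsQCoh (CohB1.tensorMod E N)] (hl : GenOn N l₀) {i : P ⟶ Q}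
    (hi : i ≫ q = p) (τi : pb i OQ ≅ CohB1.tensorMod O1 (pb p N))
    (hτi : ∀ (W : Y.Opens) (e : Γ(CohB1.tensorMod E N, W)),
      (CohB1.tensorMod O1 (pb p N)).presheaf.map (eqToHom (by rw [← hi]; rfl)).op
        (τi.hom.app (i ⁻¹ᵁ (q ⁻¹ᵁ W)) (puSec i (show Γ(OQ, q ⁻¹ᵁ W) from φQ.app W e))) = qVal (sN N φ) W e) :
    ∃ r : ((q ⁻¹ᵁ U : Q.Opens) : Scheme.{u}) ⟶ P, r ≫ i = (q ⁻¹ᵁ U).ι ∧
      (i ∣_ (q ⁻¹ᵁ U)) ≫ r = (i ⁻¹ᵁ (q ⁻¹ᵁ U)).ι := by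
  haveI := epi_tU φQ hOQ hk hφQ l₀ hl
  have hMinv := AmpleDevLib.isInvertible_pb (q ⁻¹ᵁ U).ι
    (isInvertible_of_isRelTwist (SymGenLib.isGenDegOne hk) hOQ)
  haveI : Coh.IsQCoh (pb (q ⁻¹ᵁ U).ι OQ) :=
    (LocSuppLib.isCoh_of_isFinLocFree fun x =>
      let ⟨V, h⟩ := (CohCmpLib.invertible_iff_rank_one _).1 hMinv x; ⟨V, 1, h⟩).1
  obtain ⟨r, hr, τr, hτr⟩ := exists_induces (tU φQ l₀) hj hP hMinv hO1 hφ
  have hval := val_of_induces φ φQ l₀ hr τr hτr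
  have hiv := val_of_induces_sN φ φQ hi τi hτi
  exact ⟨r, lift_comp_eq φ φQ hQ hOQ hk hφQ l₀ hi τi hiv hr τr hval hl,
    restrict_comp_eq φ φQ hP hO1 hj hφ l₀ hi τi hiv hr τr hval hl⟩

end local'

include hP hO1 hj hφ hQ hOQ hk hφQ in
/-- twisting by an invertible module does not change the projective bundle -/
theorem exists_twist_iso [Coh.IsQCoh E] (hN : PicF.IsInvertible N) :
    ∃ i : P ≅ Q, i.hom ≫ q = p ∧ Nonempty (pb i.hom OQ ≅ CohB1.tensorMod O1 (pb p N)) := by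
  haveI : Coh.IsQCoh (CohB1.tensorMod E N) := MiscFlat6.isQCoh_tensor hN
  haveI := epi_sN φ hO1 hj hφ hN
  have hMinv : PicF.IsInvertible (CohB1.tensorMod O1 (pb p N)) :=
    AmpleThLib.shT_isInvertible (isInvertible_of_isRelTwist (SymGenLib.isGenDegOne hj) hO1)
      (AmpleDevLib.isInvertible_pb p hN)
  haveI : Coh.IsQCoh (CohB1.tensorMod O1 (pb p N)) :=
    (LocSuppLib.isCoh_of_isFinLocFree fun x =>
      let ⟨V, h⟩ := (CohCmpLib.invertible_iff_rank_one _).1 hMinv x; ⟨V, 1, h⟩).1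
  obtain ⟨i, hi, τi, hτi⟩ := exists_induces (sN N φ) hk hQ hMinv hOQ hφQ
  haveI : IsIso i := by
    choose U l hyU hl using fun y : Y => TwistLib.exists_genOn hN y
    have hcov : ⨆ y : Y, q ⁻¹ᵁ U y = ⊤ := eq_top_iff.mpr fun z _ =>
      TopologicalSpace.Opens.mem_iSup.mpr ⟨q z, hyU (q z)⟩
    refine (IsZariskiLocalAtTarget.iff_of_iSup_eq_top (P := MorphismProperty.isomorphisms Scheme)
      (fun y : Y => q ⁻¹ᵁ U y) hcov).mpr fun y => ?_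
    obtain ⟨r, hr1, hr2⟩ := exists_local_inverse φ φQ hP hO1 hj hφ hQ hOQ hk hφQ (l y) (hl y) hi τi hτi
    have hrange : Set.range r.base ⊆ Set.range (i ⁻¹ᵁ (q ⁻¹ᵁ U y)).ι.base := by
      rw [Scheme.Opens.range_ι]
      rintro _ ⟨x, rfl⟩
      show i (r x) ∈ q ⁻¹ᵁ U y
      rw [← Scheme.Hom.comp_apply, hr1]
      exact x.2
    refine ⟨IsOpenImmersion.lift (i ⁻¹ᵁ (q ⁻¹ᵁ U y)).ι r hrange, ?_, ?_⟩
    · rw [← cancel_mono (i ⁻¹ᵁ (q ⁻¹ᵁ U y)).ι, Category.assoc, IsOpenImmersion.lift_fac, hr2, Category.id_comp]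
    · rw [← cancel_mono (q ⁻¹ᵁ U y).ι, Category.assoc, morphismRestrict_ι, ← Category.assoc,
        IsOpenImmersion.lift_fac, hr1, Category.id_comp]
  exact ⟨asIso i, hi, ⟨τi⟩⟩

end EGA2SymLib

end
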