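import Groth.Agent.RelConeLib.QMap
import Mathlib.AlgebraicGeometry.Morphisms.UnderlyingMap

/-!
# Points of the domain of definition of `Proj(u)`; dominance; composites
-/

set_option autoImplicit false
universe u

open CategoryTheory CategoryTheory.Limits AlgebraicGeometry TopologicalSpace Opposite HomogeneousLocalization
open ConeRetrLib (Idx)
open scoped HomogeneousIdeal

noncomputable section

namespace EGA2SymLib

section Ring

variable {A σ : Type u} [CommRing A] [SetLike σ A] [AddSubgroupClass σ A] {𝒜 : ℕ → σ} [GradedRing 𝒜]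

theorem exists_mem_basicOpen_of_not_nilpotent {d : ℕ} (hd : 0 < d) {g : A} (hg : g ∈ 𝒜 d)
    (hn : ¬ IsNilpotent g) : ∃ z : Proj 𝒜, z ∈ Proj.basicOpen 𝒜 g := by
  haveI : Nontrivial (Away 𝒜 g) := by
    refine ⟨⟨1, 0, fun h => hn ?_⟩⟩
    have h1 := congrArg HomogeneousLocalization.val h
    rw [HomogeneousLocalization.val_one, HomogeneousLocalization.val_zero, ← Localization.mk_one,
      ← Localization.mk_zero (1 : Submonoid.powers g), Localization.mk_eq_mk_iff, Localization.r_iff_exists] at h1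
    obtain ⟨⟨_, m, rfl⟩, hm⟩ := h1
    exact ⟨m, by simpa using hm⟩
  obtain ⟨w⟩ := (inferInstance : Nonempty (PrimeSpectrum (Away 𝒜 g)))
  refine ⟨Proj.awayι 𝒜 g hg hd w, ?_⟩
  rw [← Proj.opensRange_awayι 𝒜 g hg hd]
  exact ⟨w, rfl⟩

theorem not_nilpotent_of_mem_basicOpen {g : A} {z : Proj 𝒜} (h : z ∈ Proj.basicOpen 𝒜 g) :
    ¬ IsNilpotent g := by
  rintro ⟨m, hm⟩
  refine (Proj.mem_basicOpen 𝒜 g z).mp h (z.isPrime.mem_of_pow_mem m ?_)
  rw [hm]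
  exact zero_mem _

theorem exists_homogeneous_basicOpen (z : Proj 𝒜) {O : (Proj 𝒜).Opens} (hz : z ∈ O) :
    ∃ (d : ℕ) (g : A), 0 < d ∧ g ∈ 𝒜 d ∧ z ∈ Proj.basicOpen 𝒜 g ∧ Proj.basicOpen 𝒜 g ≤ O := by
  classical
  obtain ⟨_, ⟨f, rfl⟩, hzf, hfO⟩ :=
    (ProjectiveSpectrum.isTopologicalBasis_basic_opens 𝒜).exists_subset_of_mem_open hz O.2
  obtain ⟨i, hi⟩ := ConeRetrLib.exists_mem_basicOpen (𝒜 := 𝒜) z
  obtain ⟨n, hn⟩ : ∃ n, (DirectSum.decompose 𝒜 f n : A) ∉ z.asHomogeneousIdeal.toIdeal := by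
    by_contra h
    push Not at h
    refine (Proj.mem_basicOpen 𝒜 f z).mp hzf ?_
    show f ∈ z.asHomogeneousIdeal.toIdeal
    rw [← DirectSum.sum_support_decompose 𝒜 f]
    exact Ideal.sum_mem _ fun n _ => h n
  refine ⟨n + i.deg, DirectSum.decompose 𝒜 f n * i.el, Nat.add_pos_right n i.pos,
    SetLike.mul_mem_graded (SetLike.coe_mem _) i.mem, ?_, fun w hw => hfO ?_⟩
  · rw [Proj.basicOpen_mul]
    exact ⟨(Proj.mem_basicOpen 𝒜 _ z).mpr hn, hi⟩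
  · rw [Proj.basicOpen_mul] at hw
    exact (Proj.mem_basicOpen 𝒜 f w).mpr fun hf =>
      (Proj.mem_basicOpen 𝒜 _ w).mp hw.1 (w.asHomogeneousIdeal.isHomogeneous n hf)

end Ring

variable {X Y PL P : Scheme.{u}} {q : X ⟶ Y} {𝒮 : RelProj.QCGrAlg Y} {𝒮' : RelProj.QCGrAlg X}
  {u : RelProj.QGrHom q 𝒮 𝒮'} {p : P ⟶ Y}
  {chart : ∀ (U : Y.Opens) (hU : IsAffineOpen U), (((p ⁻¹ᵁ U : P.Opens) : Scheme.{u}) ≅ Proj (𝒮.deg U hU))}
  {pL : PL ⟶ X}
  {chartL : ∀ (U : X.Opens) (hU : IsAffineOpen U), (((pL ⁻¹ᵁ U : PL.Opens) : Scheme.{u}) ≅ Proj (𝒮'.deg U hU))}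
  {r : ((RelProj.domQ u pL chartL : PL.Opens) : Scheme.{u}) ⟶ P}
  (hr : RelProj.IsProjQMapOn u p chart pL chartL (RelProj.domQ u pL chartL) r)

include hr in
/-- the preimage of a standard open, on a chart -/
theorem qEmb_mem_iff (j : RelConeLib.Pair q) (w : (RelCone.domOpen (j.hom u) : Scheme.{u})) {e : ℕ} (he : 0 < e)
    {g : 𝒮.presheaf.obj (op j.U)} (hg : g ∈ 𝒮.deg j.U j.hU e) :
    r (RelConeLib.qEmb u (chart' := chartL) j w) ∈
        RelProj.emb p chart j.U j.hU ''ᵁ Proj.basicOpen (𝒮.deg j.U j.hU) g ↔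
      w.1 ∈ Proj.basicOpen (𝒮'.deg j.U' j.hU') (j.hom u g) := by
  rw [← Scheme.Hom.comp_apply, (RelConeLib.isProjQMapOn_iff u r).mp hr j, RelConeLib.qTarget, Scheme.Hom.comp_apply]
  have h1 : ∀ z, RelProj.emb p chart j.U j.hU z ∈
      RelProj.emb p chart j.U j.hU ''ᵁ Proj.basicOpen (𝒮.deg j.U j.hU) g ↔
      z ∈ Proj.basicOpen (𝒮.deg j.U j.hU) g := fun z =>
    ⟨fun ⟨z', hz', e⟩ => (RelProj.emb p chart j.U j.hU).isOpenEmbedding.injective e ▸ hz', fun h => ⟨z, h, rfl⟩⟩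
  rw [h1]
  change w ∈ RelConeLib.dMap (j.hom u) ⁻¹ᵁ Proj.basicOpen (𝒮.deg j.U j.hU) g ↔ _
  rw [RelConeLib.dMap_preimage (j.hom u) hg he]
  rfl

variable (hP : RelProj.IsRelProj 𝒮 p chart) (hPL : RelProj.IsRelProj 𝒮' pL chartL)

include hr hP hPL in
/-- a point lying over an affine open of the base is in a chart over it, inside a given neighbourhood -/
theorem exists_chart_point (x : (RelProj.domQ u pL chartL : Scheme.{u})) {U : Y.Opens} (hU : IsAffineOpen U)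
    (hx : p (r x) ∈ U) {O : X.Opens} (hxO : pL x.1 ∈ O) :
    ∃ (V : X.Opens) (hV : IsAffineOpen V) (hle : V ≤ q ⁻¹ᵁ U) (_ : V ≤ O)
      (w : (RelCone.domOpen (u.gradedAt U hU V hV hle) : Scheme.{u})),
      RelConeLib.qEmb u (chart' := chartL) ⟨U, hU, V, hV, hle⟩ w = x := by
  have h1 : q (pL x.1) ∈ U := by
    have h := congr($(RelConeLib.qMap_over u hP hPL hr) x)
    rw [Scheme.Hom.comp_apply, Scheme.Hom.comp_apply, Scheme.Hom.comp_apply] at h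
    rw [← show p (r x) = q (pL x.1) from h]
    exact hx
  obtain ⟨V, hV, hxV, hle⟩ := exists_isAffineOpen_mem_and_subset (x := pL x.1) (U := q ⁻¹ᵁ U ⊓ O) ⟨h1, hxO⟩
  have hxr : x ∈ (RelConeLib.qEmb u (chart' := chartL) ⟨U, hU, V, hV, fun y hy => (hle hy).1⟩).opensRange := by
    rw [RelConeLib.qEmb_opensRange u hPL]
    exact hxV
  obtain ⟨w, hw⟩ := hxr
  exact ⟨V, hV, fun y hy => (hle hy).1, fun y hy => (hle hy).2, w, hw⟩

include hr hP hPL in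
theorem isDominant_iff :
    IsDominant r ↔ ∀ (U : Y.Opens) (hU : IsAffineOpen U) (d : ℕ) (_ : 0 < d),
      ∀ g ∈ 𝒮.deg U hU d, ¬ IsNilpotent g →
        ∃ (V : X.Opens) (hV : IsAffineOpen V) (hle : V ≤ q ⁻¹ᵁ U) (z : Proj (𝒮'.deg V hV)),
          z ∈ Proj.basicOpen (𝒮'.deg V hV) (u.gradedAt U hU V hV hle g) := by
  constructor
  · intro hdom U hU d hd g hg hn
    obtain ⟨z, hz⟩ := exists_mem_basicOpen_of_not_nilpotent hd hg hn
    obtain ⟨y, hy, x, rfl⟩ := dense_iff_inter_open.mp hdom.denseRange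
      _ (RelProj.emb p chart U hU ''ᵁ Proj.basicOpen (𝒮.deg U hU) g).2 ⟨_, z, hz, rfl⟩
    have hxU : p (r x) ∈ U := by
      obtain ⟨t, -, ht⟩ := hy
      rw [← ht]
      exact RelConeLib.mem_of_emb t
    obtain ⟨V, hV, hle, -, w, hw⟩ := exists_chart_point hr hP hPL x hU hxU (O := ⊤) trivial
    rw [← hw] at hy
    exact ⟨V, hV, hle, w.1, (qEmb_mem_iff hr ⟨U, hU, V, hV, hle⟩ w hd hg).mp hy⟩
  · intro h
    refine ⟨dense_iff_inter_open.mpr fun O hO => ?_⟩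
    rintro ⟨y, hy⟩
    obtain ⟨U, hU, t, ht⟩ := RelConeLib.exists_emb (chart := chart) y
    obtain ⟨d, g, hd, hg, htg, hgO⟩ := exists_homogeneous_basicOpen t
      (O := RelProj.emb p chart U hU ⁻¹ᵁ ⟨O, hO⟩) (show RelProj.emb p chart U hU t ∈ O from ht ▸ hy)
    obtain ⟨V, hV, hle, z, hz⟩ := h U hU d hd g hg (not_nilpotent_of_mem_basicOpen htg)
    let i : Idx (𝒮.deg U hU) := ⟨d, g, hd, hg⟩
    have hzd : z ∈ RelCone.domOpen (u.gradedAt U hU V hV hle) := (RelConeLib.mem_domOpen_iff _ z).mpr ⟨i, hz⟩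
    obtain ⟨t', ht', he⟩ := (qEmb_mem_iff (chart := chart) hr ⟨U, hU, V, hV, hle⟩ ⟨z, hzd⟩ hd hg).mpr hz
    refine ⟨r (RelConeLib.qEmb u (chart' := chartL) ⟨U, hU, V, hV, hle⟩ ⟨z, hzd⟩), ?_, ⟨_, rfl⟩⟩
    rw [← he]
    exact hgO ht'

section Comp

variable {𝒯 : RelProj.QCGrAlg Y} (v : 𝒯.toQCAlg ⟶ 𝒮.toQCAlg) (hv : RelProj.IsGradedHom v)
  (u' : RelProj.QGrHom q 𝒯 𝒮') (hu' : ∀ U : Y.Opens, u'.app U = v.hom.app (op U) ≫ u.app U)

omit hr hP hPL
include hu' in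
theorem gradedAt_comp (U : Y.Opens) (hU : IsAffineOpen U) (V : X.Opens) (hV : IsAffineOpen V)
    (hle : V ≤ q ⁻¹ᵁ U) (a : 𝒯.presheaf.obj (op U)) :
    u'.gradedAt U hU V hV hle a = u.gradedAt U hU V hV hle ((v.hom.app (op U)).hom a) := by
  show (u'.app U ≫ 𝒮'.presheaf.map (homOfLE hle).op).hom a = _
  rw [hu']
  rfl

include hv hu' in
theorem domQ_comp_le : RelProj.domQ u' pL chartL ≤ RelProj.domQ u pL chartL := by
  refine iSup_mono fun W => Scheme.Hom.image_mono _ fun z hz => ?_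
  obtain ⟨i, hi⟩ := (RelConeLib.mem_domOpen_iff _ z).mp hz
  rw [gradedAt_comp v u' hu'] at hi
  exact (RelConeLib.mem_domOpen_iff _ z).mpr ⟨⟨i.deg, _, i.pos, hv _ _ _ _ i.mem⟩, hi⟩

end Comp

section Res

variable {S Q : Scheme.{u}} {ℬ : RelProj.QCGrAlg S} {pQ : Q ⟶ S}
  {chartQ : ∀ (U : S.Opens) (hU : IsAffineOpen U), (((pQ ⁻¹ᵁ U : Q.Opens) : Scheme.{u}) ≅ Proj (ℬ.deg U hU))}

omit hr hP hPL

/-- a section non-zero at a point stays non-nilpotent on a basic open around the image of that point -/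
theorem not_nilpotent_res (hQ : RelProj.IsRelProj ℬ pQ chartQ) {U : S.Opens} (hU : IsAffineOpen U)
    (r : Γ(S, U)) {g : ℬ.presheaf.obj (op U)} {z : Proj (ℬ.deg U hU)}
    (hz : z ∈ Proj.basicOpen (ℬ.deg U hU) g) (hr : pQ (RelProj.emb pQ chartQ U hU z) ∈ S.basicOpen r) :
    ¬ IsNilpotent ((ℬ.presheaf.map (homOfLE (S.basicOpen_le r)).op).hom g) := by
  obtain ⟨t, ht⟩ := RelConeLib.exists_emb_eq (chart := chartQ) (hU.basicOpen r) _ hr
  have ht' : Proj.map (ℬ.res hU (hU.basicOpen r) (S.basicOpen_le r)) (ℬ.irrelevant_le_map U hU r) t = z := by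
    refine (RelProj.emb pQ chartQ U hU).isOpenEmbedding.injective ?_
    rw [← Scheme.Hom.comp_apply, RelProj.map_res_emb hQ _ hU r]
    exact ht
  rw [← ht'] at hz
  replace hz : t ∈ Proj.basicOpen _ ((ℬ.presheaf.map (homOfLE (S.basicOpen_le r)).op).hom g) := hz
  exact not_nilpotent_of_mem_basicOpen hz

end Res

end EGA2SymLib

end
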